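import Mathlib
import Cfsg.Agent.Lib.FStar.GenFitting
import Cfsg.Agent.Lib.Coprime.Elem
import Cfsg.Agent.Lib.PGroup.Basic

/-!
# Involution centralizers with `F*(C(z))` a 2-group: first facts
-/

set_option autoImplicit false
open Cfsg

namespace Cfsg.Agent.Lib.Cl

open Subgroup Cfsg.Agent.Lib.FStar

theorem eq_of_orderOf_two_of_cyclic {T : Type*} [Group T] [Finite T] [IsCyclic T] {x y : T}
    (hx : orderOf x = 2) (hy : orderOf y = 2) : x = y := by
  have h1 : x ∈ zpowers y := Cfsg.Agent.Lib.Coprime.mem_zpowers_of_orderOf_dvd (by rw [hx, hy])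
  have h2 : Nat.card (zpowers y) = 2 := by rw [Nat.card_zpowers, hy]
  have hy1 : y ≠ 1 := by
    rintro rfl
    simp at hy
  have hx1 : x ≠ 1 := by
    rintro rfl
    simp at hx
  obtain ⟨w, -, hw⟩ := (Nat.card_eq_two_iff' (1 : zpowers y)).mp h2
  have h3 := hw ⟨y, mem_zpowers y⟩ (fun h => hy1 (congrArg Subtype.val h))
  have h4 := hw ⟨x, h1⟩ (fun h => hx1 (congrArg Subtype.val h))
  exact congrArg Subtype.val (h4.trans h3.symm)

theorem eq_of_orderOf_two_of_subgroup {T : Type*} [Group T] [Finite T] (A : Subgroup T) (hA : IsCyclic A)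
    {x y : T} (hxA : x ∈ A) (hyA : y ∈ A) (hx : orderOf x = 2) (hy : orderOf y = 2) : x = y := by
  have h1 : orderOf (⟨x, hxA⟩ : A) = 2 := by rw [Subgroup.orderOf_mk, hx]
  have h2 : orderOf (⟨y, hyA⟩ : A) = 2 := by rw [Subgroup.orderOf_mk, hy]
  exact congrArg Subtype.val (eq_of_orderOf_two_of_cyclic h1 h2)

/-- A nontrivial 2-group (here a subgroup contained in the image of a 2-group, given elementwise) contains an involution. -/
theorem exists_orderOf_two_of_ne_one {T : Type*} [Group T] [Finite T] (A : Subgroup T)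
    (hA : ∀ x ∈ A, ∃ n : ℕ, orderOf x = 2 ^ n) {x : T} (hx : x ∈ A) (hx1 : x ≠ 1) :
    ∃ w ∈ A, orderOf w = 2 := by
  obtain ⟨n, hn⟩ := hA x hx
  have hn0 : n ≠ 0 := by
    rintro rfl
    rw [pow_zero] at hn
    exact hx1 (orderOf_eq_one_iff.mp hn)
  have h2 : 2 ∣ orderOf x := by
    rw [hn]
    exact dvd_pow_self 2 hn0
  refine ⟨x ^ (orderOf x / 2), A.pow_mem hx _, ?_⟩
  exact orderOf_pow_orderOf_div (orderOf_pos x).ne' h2

variable {G : Type*} [Group G]

/-- `Q`: the generalized Fitting subgroup of `C(z)`, viewed in `G`. -/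
abbrev cQ (z : G) : Subgroup G :=
  (generalizedFittingSubgroup ↥(centralizer ({z} : Set G))).map (centralizer ({z} : Set G)).subtype

theorem self_mem_centralizer (z : G) : z ∈ centralizer ({z} : Set G) :=
  mem_centralizer_singleton_iff.mpr rfl

theorem cQ_le_centralizer (z : G) : cQ z ≤ centralizer ({z} : Set G) := by
  rintro _ ⟨x, -, rfl⟩
  exact x.2

/-- `Q` is normalized by `C(z)`. -/
theorem conj_mem_cQ {z x q : G} (hx : x ∈ centralizer ({z} : Set G)) (hq : q ∈ cQ z) : x * q * x⁻¹ ∈ cQ z := by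
  obtain ⟨q₀, hq₀, rfl⟩ := hq
  exact ⟨⟨x, hx⟩ * q₀ * (⟨x, hx⟩ : centralizer ({z} : Set G))⁻¹,
    (gen_normal _).conj_mem q₀ hq₀ ⟨x, hx⟩, rfl⟩

/-- `z` lies in the generalized Fitting subgroup of `C(z)` -/
theorem self_mem_gen [Finite G] (z : G) :
    (⟨z, self_mem_centralizer z⟩ : centralizer ({z} : Set G)) ∈ generalizedFittingSubgroup ↥(centralizer ({z} : Set G)) := by
  set z' : centralizer ({z} : Set G) := ⟨z, self_mem_centralizer z⟩ with hz'
  have hcen : z' ∈ center (centralizer ({z} : Set G)) := by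
    rw [mem_center_iff]
    intro g
    apply Subtype.ext
    exact mem_centralizer_singleton_iff.mp g.2
  apply fitting_le_gen
  have hle : zpowers z' ≤ center (centralizer ({z} : Set G)) := by
    rw [zpowers_le]
    exact hcen
  have hnorm : (zpowers z').Normal := by
    constructor
    intro n hn g
    have h1 := hle hn
    have h2 := mem_center_iff.mp h1 g
    rw [h2]
    simpa using hn
  have hnil : Group.IsNilpotent (zpowers z') := by
    letI : CommGroup (zpowers z') := { (inferInstance : Group (zpowers z')) with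
      mul_comm := fun a b => by
        obtain ⟨m, hm⟩ := a
        obtain ⟨n, hn⟩ := b
        apply Subtype.ext
        obtain ⟨i, rfl⟩ := mem_zpowers_iff.mp hm
        obtain ⟨j, rfl⟩ := mem_zpowers_iff.mp hn
        exact (Commute.refl z').zpow_zpow i j }
    exact CommGroup.isNilpotent
  exact le_fitting_of_subnormal_nilpotent hnorm.isSubnormal hnil (mem_zpowers z')

theorem self_mem_cQ [Finite G] (z : G) : z ∈ cQ z :=
  ⟨_, self_mem_gen z, rfl⟩

theorem comm_of_mem_cQ {z q : G} (hq : q ∈ cQ z) : q * z = z * q :=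
  mem_centralizer_singleton_iff.mp (cQ_le_centralizer z hq)

/-- elementwise 2-group form of the hypothesis -/
theorem orderOf_two_pow_of_mem_cQ {z q : G} (hp : IsPGroup 2 ↥(generalizedFittingSubgroup ↥(centralizer ({z} : Set G))))
    (hq : q ∈ cQ z) : ∃ n : ℕ, orderOf q = 2 ^ n := by
  obtain ⟨q₀, hq₀, rfl⟩ := hq
  obtain ⟨n, hn⟩ := IsPGroup.iff_orderOf.mp hp ⟨q₀, hq₀⟩
  refine ⟨n, ?_⟩
  rw [Subgroup.orderOf_mk] at hn
  rw [← hn]
  exact Subgroup.orderOf_coe q₀

end Cfsg.Agent.Lib.Cl
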