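import Mathlib
import Cfsg.Agent.Lib.Cl.Symp
import Cfsg.Agent.Lib.Core.Frattini
import Cfsg.Agent.Lib.PGroup.Pairing

/-!
# Extraspecial 2-subgroups: elementwise calculus; commutators with an involutory automorphism
-/

set_option autoImplicit false
open Cfsg

namespace Cfsg.Agent.Lib.Cl

open Subgroup Cfsg.Agent.Lib.Core Cfsg.Agent.Lib.PGroup
open scoped commutatorElement

theorem eq_one_or_of_card_two {T : Type*} [Group T] {Z : Subgroup T} (h : Nat.card Z = 2) {c z : T} (hc : c ∈ Z)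
    (hc1 : c ≠ 1) (hz : z ∈ Z) : z = 1 ∨ z = c := by
  by_cases hz1 : z = 1
  · exact Or.inl hz1
  right
  obtain ⟨y, -, hy⟩ := (Nat.card_eq_two_iff' (1 : Z)).mp h
  have h1 := hy ⟨c, hc⟩ (fun h2 => hc1 (congrArg Subtype.val h2))
  have h2 := hy ⟨z, hz⟩ (fun h2 => hz1 (congrArg Subtype.val h2))
  exact congrArg Subtype.val (h2.trans h1.symm)

theorem sq_mem_frattini_two {P : Type*} [Group P] [Finite P] (h : IsPGroup 2 P) (a : P) : a ^ 2 ∈ frattini P := by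
  haveI : Fact (Nat.Prime 2) := ⟨Nat.prime_two⟩
  rw [mem_frattini_iff]
  intro M hM
  exact Subgroup.sq_mem_of_index_two (Cfsg.Agent.Lib.PGroup.index_eq_prime_of_isCoatom h hM) a

variable {G : Type*} [Group G]

/-- What we use of an extraspecial 2-subgroup `Q` with centre `⟨z⟩`. -/
structure ExtraFacts (Q : Subgroup G) (z : G) : Prop where
  hz : orderOf z = 2
  hzQ : z ∈ Q
  hcent : Q ⊓ centralizer (Q : Set G) = zpowers z
  hcom : ∀ a ∈ Q, ∀ b ∈ Q, ⁅a, b⁆ ∈ zpowers z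
  hsq : ∀ a ∈ Q, a * a ∈ zpowers z

theorem extraFacts_of_map {X : Type*} [Group X] [Finite X] (φ : X →* G) (hφ : Function.Injective φ) (H : Subgroup X)
    (hE : IsExtraspecial 2 ↥H) {z : G} (hz : orderOf z = 2) (hzH : z ∈ H.map φ) (hzc : ∀ q ∈ H.map φ, q * z = z * q) :
    ExtraFacts (H.map φ) z := by
  obtain ⟨⟨hp, hfr, hcomQ⟩, hcard⟩ := hE
  obtain ⟨z₀, hz₀, rfl⟩ := hzH
  have hz1 : φ z₀ ≠ 1 := by
    intro h
    rw [h] at hz
    simp at hz
  have hz₀c : (⟨z₀, hz₀⟩ : H) ∈ center ↥H := by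
    rw [mem_center_iff]
    intro g
    apply Subtype.ext
    apply hφ
    simp only [Subgroup.coe_mul, map_mul]
    exact hzc _ ⟨_, g.2, rfl⟩
  have hne : (⟨z₀, hz₀⟩ : H) ≠ 1 := by
    intro h
    apply hz1
    have h1 : z₀ = 1 := congrArg Subtype.val h
    rw [h1, map_one]
  have hcen : ∀ w : H, w ∈ center ↥H → φ (w : X) ∈ zpowers (φ z₀) := by
    intro w hw
    rcases eq_one_or_of_card_two hcard hz₀c hne hw with rfl | rfl
    · simp
    · exact mem_zpowers _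
  refine ⟨hz, ⟨z₀, hz₀, rfl⟩, ?_, ?_, ?_⟩
  · apply le_antisymm
    · rintro x ⟨⟨x₀, hx₀, rfl⟩, hxC⟩
      apply hcen ⟨x₀, hx₀⟩
      rw [mem_center_iff]
      intro g
      apply Subtype.ext
      apply hφ
      have := Subgroup.mem_centralizer_iff.mp hxC _ (⟨_, g.2, rfl⟩ : φ (g : X) ∈ H.map φ)
      simpa using this
    · rw [zpowers_le]
      refine ⟨⟨z₀, hz₀, rfl⟩, ?_⟩
      show φ z₀ ∈ centralizer ((H.map φ : Subgroup G) : Set G)
      rw [Subgroup.mem_centralizer_iff]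
      intro g hg
      exact hzc g hg
  · rintro _ ⟨a₀, ha₀, rfl⟩ _ ⟨b₀, hb₀, rfl⟩
    have h1 : ⁅(⟨a₀, ha₀⟩ : H), (⟨b₀, hb₀⟩ : H)⁆ ∈ center ↥H := by
      rw [← hcomQ]
      exact Subgroup.commutator_mem_commutator (Subgroup.mem_top _) (Subgroup.mem_top _)
    have h2 := hcen _ h1
    have h3 : φ ((⁅(⟨a₀, ha₀⟩ : H), (⟨b₀, hb₀⟩ : H)⁆ : H) : X) = ⁅φ a₀, φ b₀⁆ := by
      simp [commutatorElement_def]
    rwa [h3] at h2
  · rintro _ ⟨a₀, ha₀, rfl⟩
    have h1 : (⟨a₀, ha₀⟩ : H) ^ 2 ∈ center ↥H := by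
      rw [← hfr]
      exact sq_mem_frattini_two hp _
    have h2 := hcen _ h1
    have h3 : φ (((⟨a₀, ha₀⟩ : H) ^ 2 : H) : X) = φ a₀ * φ a₀ := by
      simp [pow_two]
    rwa [h3] at h2

namespace ExtraFacts

variable {Q : Subgroup G} {z : G} (h : ExtraFacts Q z)
include h

theorem z_ne_one : z ≠ 1 := by
  intro h1
  have := h.hz
  rw [h1] at this
  simp at this

theorem card_zpowers : Nat.card (zpowers z) = 2 := by
  rw [Nat.card_zpowers, h.hz]

theorem eq_one_or {c : G} (hc : c ∈ zpowers z) : c = 1 ∨ c = z :=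
  eq_one_or_of_card_two h.card_zpowers (mem_zpowers z) h.z_ne_one hc

theorem central {c : G} (hc : c ∈ zpowers z) {q : G} (hq : q ∈ Q) : c * q = q * c := by
  have h1 : c ∈ Q ⊓ centralizer (Q : Set G) := by rw [h.hcent]; exact hc
  exact (Subgroup.mem_centralizer_iff.mp h1.2 q hq).symm

theorem zpowers_le : zpowers z ≤ Q := by
  rw [Subgroup.zpowers_le]
  exact h.hzQ

theorem mem_zpowers_of_comm {c : G} (hc : c ∈ Q) (hcc : ∀ q ∈ Q, ⁅c, q⁆ = 1) : c ∈ zpowers z := by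
  rw [← h.hcent]
  refine ⟨hc, Subgroup.mem_centralizer_iff.mpr ?_⟩
  intro q hq
  exact (commutatorElement_eq_one_iff_mul_comm.mp (hcc q hq)).symm

theorem comm_mul_left {x y w : G} (hx : x ∈ Q) (hy : y ∈ Q) (hw : w ∈ Q) : ⁅x * y, w⁆ = ⁅x, w⁆ * ⁅y, w⁆ := by
  have h1 : ⁅x * y, w⁆ = x * ⁅y, w⁆ * x⁻¹ * ⁅x, w⁆ := by
    simp only [commutatorElement_def]; group
  have h2 : x * ⁅y, w⁆ * x⁻¹ = ⁅y, w⁆ := by
    rw [← h.central (h.hcom y hy w hw) hx]; group
  rw [h1, h2]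
  exact (h.hcom x hx w hw |> fun hc => h.central hc (h.zpowers_le (h.hcom y hy w hw))).symm

theorem comm_mul_right {x y w : G} (hx : x ∈ Q) (hy : y ∈ Q) (hw : w ∈ Q) : ⁅x, y * w⁆ = ⁅x, y⁆ * ⁅x, w⁆ := by
  have h1 : ⁅x, y * w⁆ = ⁅x, y⁆ * (y * ⁅x, w⁆ * y⁻¹) := by
    simp only [commutatorElement_def]; group
  have h2 : y * ⁅x, w⁆ * y⁻¹ = ⁅x, w⁆ := by
    rw [← h.central (h.hcom x hx w hw) hy]; group
  rw [h1, h2]

theorem comm_central_left {c x : G} (hc : c ∈ zpowers z) (hx : x ∈ Q) : ⁅c, x⁆ = 1 :=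
  commutatorElement_eq_one_iff_mul_comm.mpr (h.central hc hx)

theorem comm_central_right {c x : G} (hc : c ∈ zpowers z) (hx : x ∈ Q) : ⁅x, c⁆ = 1 :=
  commutatorElement_eq_one_iff_mul_comm.mpr (h.central hc hx).symm

/-- The duality `[Q : C_Q(X)] = [X : ⟨z⟩]`. -/
theorem relIndex_centralizer [Finite G] {X : Subgroup G} (hzX : zpowers z ≤ X) (hXQ : X ≤ Q) :
    (Q ⊓ centralizer (X : Set G)).relIndex Q = (zpowers z).relIndex X := by
  have hXC : X ⊓ centralizer (Q : Set G) = zpowers z := by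
    apply le_antisymm
    · rw [← h.hcent]
      exact fun x hx => ⟨hXQ hx.1, hx.2⟩
    · intro x hx
      have h1 : x ∈ Q ⊓ centralizer (Q : Set G) := by rw [h.hcent]; exact hx
      exact ⟨hzX hx, h1.2⟩
  by_cases hb : ⁅Q, X⁆ = ⊥
  · have h1 : X ≤ zpowers z := by
      rw [← hXC]
      refine fun x hx => ⟨hx, Subgroup.mem_centralizer_iff.mpr ?_⟩
      intro q hq
      have h2 : ⁅q, x⁆ ∈ ⁅Q, X⁆ := Subgroup.commutator_mem_commutator hq hx
      rw [hb, Subgroup.mem_bot] at h2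
      exact commutatorElement_eq_one_iff_mul_comm.mp h2
    have h2 : X = zpowers z := le_antisymm h1 hzX
    have h3 : Q ≤ Q ⊓ centralizer (X : Set G) := by
      refine fun q hq => ⟨hq, Subgroup.mem_centralizer_iff.mpr ?_⟩
      intro x hx
      have h2 : ⁅q, x⁆ ∈ ⁅Q, X⁆ := Subgroup.commutator_mem_commutator hq hx
      rw [hb, Subgroup.mem_bot] at h2
      exact (commutatorElement_eq_one_iff_mul_comm.mp h2).symm
    rw [Subgroup.relIndex_eq_one.mpr h3, Subgroup.relIndex_eq_one.mpr (le_of_eq h2)]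
  have hle : ⁅Q, X⁆ ≤ zpowers z := by
    rw [Subgroup.commutator_le]
    intro a ha b hb
    exact h.hcom a ha b (hXQ hb)
  have heq : ⁅Q, X⁆ = zpowers z := by
    obtain ⟨⟨c, hc⟩, hc1⟩ := (Subgroup.ne_bot_iff_exists_ne_one.mp hb)
    have hc1' : c ≠ 1 := fun h2 => hc1 (Subtype.ext h2)
    rcases h.eq_one_or (hle hc) with h2 | h2
    · exact absurd h2 hc1'
    · apply le_antisymm hle
      rw [Subgroup.zpowers_le, ← h2]
      exact hc
  have hpair := relIndex_centralizer_eq_of_central_commutator Q X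
    (by rw [heq, h.card_zpowers]; exact Nat.prime_two)
    (by rw [heq]; exact fun c hc a ha => h.central hc ha)
    (by rw [heq]; exact fun c hc a ha => h.central hc (hXQ ha))
    (by rw [heq]; exact h.zpowers_le)
  rwa [hXC] at hpair

end ExtraFacts

/-- Part (a) of the commutator theorem for an involutory automorphism. -/
theorem closure_comm_eq_center {Q Q₀ : Subgroup G} {z α : G} [Finite G] (h : ExtraFacts Q z) (hα : α * α = 1)
    (hαz : α * z = z * α) (hαQ : ∀ q ∈ Q, α * q * α⁻¹ ∈ Q) (hne : ∃ q ∈ Q, α * q * α⁻¹ * q⁻¹ ≠ 1)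
    (hQ₀ : ∀ q : G, q ∈ Q₀ ↔ (q ∈ Q ∧ α * q * α⁻¹ * q⁻¹ ∈ zpowers z)) :
    closure ((fun q : G => α * q * α⁻¹ * q⁻¹) '' (Q : Set G)) = (center ↥Q₀).map Q₀.subtype := by
  classical
  have hαinv : α⁻¹ = α := inv_eq_of_mul_eq_one_left hα
  set ca : G → G := fun q => α * q * α⁻¹ * q⁻¹ with hca
  set R : Subgroup G := closure (ca '' (Q : Set G)) with hR
  have hcaQ : ∀ q ∈ Q, ca q ∈ Q := fun q hq => Q.mul_mem (hαQ q hq) (Q.inv_mem hq)
  have hRQ : R ≤ Q := by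
    rw [hR, closure_le]
    rintro _ ⟨q, hq, rfl⟩
    exact hcaQ q hq
  have hgen : ∀ q ∈ Q, ca q ∈ R := fun q hq => subset_closure ⟨q, hq, rfl⟩
  -- `Q` normalizes `R`
  have hRnorm : ∀ h₁ ∈ Q, ∀ r ∈ R, h₁ * r * h₁⁻¹ ∈ R := by
    intro h₁ hh r hr
    induction hr using closure_induction with
    | mem x hx =>
      obtain ⟨q, hq, rfl⟩ := hx
      have e : h₁ * ca q * h₁⁻¹ = (ca h₁)⁻¹ * ca (h₁ * q) := by
        simp only [hca]; group
      rw [e]
      exact R.mul_mem (R.inv_mem (hgen _ hh)) (hgen _ (Q.mul_mem hh hq))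
    | one => simp
    | mul x y _ _ hx hy =>
      have e : h₁ * (x * y) * h₁⁻¹ = (h₁ * x * h₁⁻¹) * (h₁ * y * h₁⁻¹) := by group
      rw [e]; exact R.mul_mem hx hy
    | inv x _ hx =>
      have e : h₁ * x⁻¹ * h₁⁻¹ = (h₁ * x * h₁⁻¹)⁻¹ := by group
      rw [e]; exact R.inv_mem hx
  -- `z ∈ R`
  have hzR : z ∈ R := by
    obtain ⟨q, hq, hq1⟩ := hne
    have hr1 : ca q ≠ 1 := hq1
    by_cases hrc : ca q ∈ zpowers z
    · rcases h.eq_one_or hrc with h1 | h1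
      · exact absurd h1 hr1
      · rw [← h1]; exact hgen q hq
    · have hex : ∃ y ∈ Q, ⁅ca q, y⁆ ≠ 1 := by
        by_contra hcon
        push_neg at hcon
        exact hrc (h.mem_zpowers_of_comm (hcaQ q hq) hcon)
      obtain ⟨y, hy, hy1⟩ := hex
      have h1 := h.hcom (ca q) (hcaQ q hq) y hy
      rcases h.eq_one_or h1 with h2 | h2
      · exact absurd h2 hy1
      · rw [← h2]
        -- `⁅r, y⁆ = (y r y⁻¹)⁻¹`-type expression
        have e : ⁅ca q, y⁆ = ca q * (y * ca q * y⁻¹)⁻¹ := by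
          simp only [commutatorElement_def]; group
        rw [e]
        exact R.mul_mem (hgen q hq) (R.inv_mem (hRnorm y hy _ (hgen q hq)))
  have hZR : zpowers z ≤ R := by
    rw [Subgroup.zpowers_le]; exact hzR
  -- conjugation by `α` on `⟨z⟩`
  have hαc : ∀ c ∈ zpowers z, α * c * α⁻¹ = c := by
    intro c hc
    rcases h.eq_one_or hc with rfl | rfl
    · group
    · rw [hαz]; group
  have hcomconj : ∀ x ∈ Q, ∀ y ∈ Q, ⁅α * x * α⁻¹, α * y * α⁻¹⁆ = ⁅x, y⁆ := by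
    intro x hx y hy
    rw [← hαc _ (h.hcom x hx y hy)]
    simp only [commutatorElement_def]; group
  -- the key identity
  have hkey : ∀ q ∈ Q, ∀ y ∈ Q, ⁅ca q, α * y * α⁻¹⁆ * ⁅q, α * y * α⁻¹⁆ = ⁅q, y⁆ := by
    intro q hq y hy
    have h1 : α * q * α⁻¹ = ca q * q := by simp only [hca]; group
    have h2 := h.comm_mul_left (hcaQ q hq) hq (hαQ y hy)
    rw [← h1, hcomconj q hq y hy] at h2
    exact h2.symm
  -- `R` centralizes `Q₀`
  have hRQ₀ : ∀ q ∈ Q, ∀ q₀ ∈ Q₀, ⁅ca q, q₀⁆ = 1 := by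
    intro q hq q₀ hq₀
    obtain ⟨hq₀Q, hq₀c⟩ := (hQ₀ q₀).mp hq₀
    have h1 : α * q₀ * α⁻¹ = ca q₀ * q₀ := by simp only [hca]; group
    have h2 := hkey q hq q₀ hq₀Q
    rw [h1, h.comm_mul_right (hcaQ q hq) (h.zpowers_le hq₀c) hq₀Q,
      h.comm_mul_right hq (h.zpowers_le hq₀c) hq₀Q, h.comm_central_right hq₀c (hcaQ q hq),
      h.comm_central_right hq₀c hq, one_mul, one_mul] at h2
    exact mul_eq_right.mp h2
  -- generators lie in `Q₀`
  have hgenQ₀ : ∀ q ∈ Q, ca q ∈ Q₀ := by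
    intro q hq
    rw [hQ₀]
    refine ⟨hcaQ q hq, ?_⟩
    have h1 := h.hsq (q * (α * q * α⁻¹)⁻¹) (Q.mul_mem hq (Q.inv_mem (hαQ q hq)))
    have e : α * ca q * α⁻¹ * (ca q)⁻¹ = (q * (α * q * α⁻¹)⁻¹) * (q * (α * q * α⁻¹)⁻¹) := by
      simp only [hca, hαinv]
      have e1 : (α * q * α)⁻¹ = α * q⁻¹ * α := by simp [mul_inv_rev, hαinv, mul_assoc]
      have e2 : (α * q * α * q⁻¹)⁻¹ = q * (α * q⁻¹ * α) := by rw [mul_inv_rev, e1, inv_inv]
      have hαα : ∀ x : G, α * (α * x) = x := fun x => by rw [← mul_assoc, hα, one_mul]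
      rw [e1, e2]
      simp only [mul_assoc, hαα]
    have e2 : ca (ca q) = α * ca q * α⁻¹ * (ca q)⁻¹ := rfl
    show α * ca q * α⁻¹ * (ca q)⁻¹ ∈ zpowers z
    rw [e]
    exact h1
  have hRleQ₀ : R ≤ Q₀ := by
    rw [hR, closure_le]
    rintro _ ⟨q, hq, rfl⟩
    exact hgenQ₀ q hq
  have hRC : R ≤ Q ⊓ centralizer (Q₀ : Set G) := by
    rw [hR, closure_le]
    rintro _ ⟨q, hq, rfl⟩
    refine ⟨hcaQ q hq, Subgroup.mem_centralizer_iff.mpr ?_⟩
    intro q₀ hq₀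
    exact (commutatorElement_eq_one_iff_mul_comm.mp (hRQ₀ q hq q₀ hq₀)).symm
  -- `C_Q(R) = Q₀`
  have hCR : Q ⊓ centralizer (R : Set G) = Q₀ := by
    apply le_antisymm
    · rintro q ⟨hq, hqC⟩
      rw [hQ₀]
      refine ⟨hq, ?_⟩
      have hc : ∀ y ∈ Q, ⁅q, ca y⁆ = 1 := by
        intro y hy
        exact commutatorElement_eq_one_iff_mul_comm.mpr
          ((Subgroup.mem_centralizer_iff.mp hqC _ (hgen y hy)).symm)
      apply h.mem_zpowers_of_comm (hcaQ q hq)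
      intro y hy
      -- `y = α h α⁻¹` for `h = α y α⁻¹`
      have hh := hαQ y hy
      have e1 : α * (α * y * α⁻¹) * α⁻¹ = y := by
        simp only [hαinv]
        calc α * (α * y * α) * α = (α * α) * y * (α * α) := by group
          _ = y := by rw [hα]; group
      have h1 := hkey q hq _ hh
      rw [e1] at h1
      have e2 : y = ca (α * y * α⁻¹) * (α * y * α⁻¹) := by
        simp only [hca]
        rw [e1]
        group
      have h2 : ⁅q, y⁆ = ⁅q, α * y * α⁻¹⁆ := by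
        conv_lhs => rw [e2]
        rw [h.comm_mul_right hq (hcaQ _ hh) hh, hc _ hh, one_mul]
      rw [← h2] at h1
      exact mul_eq_right.mp h1
    · intro q hq₀
      obtain ⟨hqQ, -⟩ := (hQ₀ q).mp hq₀
      refine ⟨hqQ, Subgroup.mem_centralizer_iff.mpr ?_⟩
      intro r hr
      have := hRC hr
      exact (Subgroup.mem_centralizer_iff.mp this.2 q hq₀).symm
  -- counting
  have hZQ₀ : zpowers z ≤ Q₀ := hZR.trans hRleQ₀
  have hQ₀Q : Q₀ ≤ Q := fun q hq => ((hQ₀ q).mp hq).1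
  have hrel1 := h.relIndex_centralizer hZR hRQ
  rw [hCR] at hrel1
  have hrel2 := h.relIndex_centralizer hZQ₀ hQ₀Q
  have c1 := card_inf_mul_relIndex Q₀ Q
  rw [inf_eq_left.mpr hQ₀Q] at c1
  have c2 := card_inf_mul_relIndex (zpowers z) R
  rw [inf_eq_left.mpr hZR, h.card_zpowers] at c2
  have c3 := card_inf_mul_relIndex (Q ⊓ centralizer (Q₀ : Set G)) Q
  rw [inf_eq_left.mpr inf_le_left] at c3
  have c4 := card_inf_mul_relIndex (zpowers z) Q₀
  rw [inf_eq_left.mpr hZQ₀, h.card_zpowers] at c4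
  have hcardeq : Nat.card ↥(Q ⊓ centralizer (Q₀ : Set G)) = Nat.card R := by
    set i := Q₀.relIndex Q with hi
    set j := (zpowers z).relIndex Q₀ with hj
    rw [← hrel1] at c2
    rw [hrel2] at c3
    rw [← c4] at c1
    have hjpos : 0 < j := by
      rcases Nat.eq_zero_or_pos j with h0 | h0
      · rw [h0] at c4
        have : 0 < Nat.card Q₀ := Nat.card_pos
        omega
      · exact h0
    apply Nat.eq_of_mul_eq_mul_right hjpos
    rw [c3, ← c1, ← c2]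
    ring
  have hReq : R = Q ⊓ centralizer (Q₀ : Set G) :=
    Subgroup.eq_of_le_of_card_ge hRC (le_of_eq hcardeq)
  apply le_antisymm
  · intro r hr
    refine ⟨⟨r, hRleQ₀ hr⟩, ?_, rfl⟩
    rw [SetLike.mem_coe, mem_center_iff]
    intro g
    apply Subtype.ext
    exact (Subgroup.mem_centralizer_iff.mp (hRC hr).2 g g.2)
  · rw [hReq]
    rintro _ ⟨w, hw, rfl⟩
    refine ⟨hQ₀Q w.2, Subgroup.mem_centralizer_iff.mpr ?_⟩
    intro g hg
    exact congrArg Subtype.val (mem_center_iff.mp hw ⟨g, hg⟩)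

end Cfsg.Agent.Lib.Cl
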