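import Mathlib
import Cfsg.Agent.Lib.FF.SylowIn
import Cfsg.Agent.Lib.FF.Hcond2
import Cfsg.Agent.Lib.Core.Frattini
import Cfsg.Agent.Lib.OddLocal.TypeP
import Cfsg.Agent.Lib.PGroup.ConjAbQuot
import Cfsg.Agent.Lib.PGroup.ConjAbA

/-!
# Abelian lifts, and quotients by normal subgroups of odd order
-/

set_option autoImplicit false

namespace Cfsg.Agent.Lib.Cl.AbLift

open Subgroup Cfsg.Agent.Lib.FF

universe u v

section Chain

variable {Γ : Type*} [Group Γ] [Finite Γ] {p : ℕ} [Fact p.Prime]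

/-- Subgroups of a cyclic `p`-group form a chain. -/
theorem chain_of_cyclic {W X Y : Subgroup Γ} (hW : IsCyclic W) (hp : IsPGroup p W) (hX : X ≤ W)
    (hY : Y ≤ W) : X ≤ Y ∨ Y ≤ X := by
  have key : ∀ {X Y : Subgroup Γ}, X ≤ W → Y ≤ W → Nat.card X ∣ Nat.card Y → X ≤ Y := by
    intro X Y hX hY hd
    obtain ⟨i, hi⟩ := IsPGroup.iff_card.mp (hp.to_le hX)
    rw [hi] at hd
    obtain ⟨Y', hY'⟩ := Sylow.exists_subgroup_card_pow_prime (G := Y) p hd
    have h1 : Y'.map Y.subtype ≤ Y := Subgroup.map_subtype_le _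
    have h2 : Nat.card (Y'.map Y.subtype) = Nat.card Y' :=
      Nat.card_congr (Y'.equivMapOfInjective Y.subtype Y.subtype_injective).symm.toEquiv
    have h3 := Cfsg.Agent.Lib.OddLocal.eq_of_card_eq_of_isCyclic hW hX (h1.trans hY)
      (by rw [h2, hY', hi])
    exact h3.trans h1
  obtain ⟨i, hi⟩ := IsPGroup.iff_card.mp (hp.to_le hX)
  obtain ⟨j, hj⟩ := IsPGroup.iff_card.mp (hp.to_le hY)
  rcases le_total i j with h | h
  · left
    exact key hX hY (by rw [hi, hj]; exact pow_dvd_pow p h)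
  · right
    exact key hY hX (by rw [hi, hj]; exact pow_dvd_pow p h)

end Chain

theorem isPGroup_zpowers_of_pow_pow {G : Type*} [Group G] {q i : ℕ} {w : G} (h : w ^ (q ^ i) = 1) :
    IsPGroup q (zpowers w) := by
  rintro ⟨_, k, rfl⟩
  refine ⟨i, Subtype.ext ?_⟩
  show (w ^ k) ^ (q ^ i) = 1
  rw [← zpow_natCast, ← zpow_mul, mul_comm, zpow_mul, zpow_natCast, h, one_zpow]

section Lift

variable {B : Type v} [Group B]

/-- **Abelian lift.** -/
theorem exists_abelian_lift : ∀ (n : ℕ) (L : Type u) [Group L] [Finite L] (f : L →* B), Nat.card f.range = n →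
    (∀ x y, f x * f y = f y * f x) →
    (∀ p : ℕ, p.Prime → p ∣ Nat.card f.range → p ∣ Nat.card f.ker → ∀ S : Subgroup L, IsPGroup p S → IsCyclic S) →
    ∃ A : Subgroup L, IsMulCommutative A ∧ ∀ x, ∃ a ∈ A, f a = f x := by
  intro n
  induction n using Nat.strong_induction_on with
  | _ n ih =>
  intro L _ _ f hn hcomm hcyc
  classical
  haveI hfr : Finite f.range := Finite.of_surjective f.rangeRestrict f.rangeRestrict_surjective
  by_cases hn1 : n = 1
  · refine ⟨⊥, inferInstance, fun x => ⟨1, one_mem _, ?_⟩⟩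
    have h1 : Nat.card f.range = 1 := by rw [hn, hn1]
    have h2 := (Nat.card_eq_one_iff_unique.mp h1).1
    have h3 : (⟨f 1, ⟨1, rfl⟩⟩ : f.range) = ⟨f x, ⟨x, rfl⟩⟩ := Subsingleton.elim _ _
    exact congrArg Subtype.val h3
  -- a prime dividing the image
  have hn0 : n ≠ 0 := by
    rw [← hn]
    exact Nat.card_pos.ne'
  obtain ⟨q, hq, hqn⟩ := Nat.exists_prime_and_dvd hn1
  haveI : Fact q.Prime := ⟨hq⟩
  obtain ⟨Q⟩ : Nonempty (Sylow q L) := inferInstance
  obtain ⟨e, m, hm, hnem⟩ := Nat.exists_eq_pow_mul_and_not_dvd hn0 q hq.ne_one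
  have hpow : ∀ x, f x ^ n = 1 := by
    intro x
    have h1 : (f.rangeRestrict x) ^ Nat.card f.range = 1 := pow_card_eq_one'
    rw [hn] at h1
    exact congrArg Subtype.val h1
  have hcommk : ∀ x y : L, x * y * x⁻¹ * y⁻¹ ∈ f.ker := by
    intro x y
    rw [MonoidHom.mem_ker, map_mul, map_mul, map_mul, map_inv, map_inv, hcomm x y]
    group
  -- images of `q`-elements
  have hQim : ∀ x : L, ∃ w ∈ (Q : Subgroup L), f w = f x ^ m := by
    intro x
    obtain ⟨i, u, hu, hz⟩ := Nat.exists_eq_pow_mul_and_not_dvd (orderOf_pos (x ^ m)).ne' q hq.ne_one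
    set c := f x ^ m with hc
    have hcq : c ^ (q ^ e) = 1 := by
      rw [hc, ← pow_mul, mul_comm, ← hnem]
      exact hpow x
    have h1 : u.Coprime (orderOf c) := by
      have h2 : orderOf c ∣ q ^ e := orderOf_dvd_of_pow_eq_one hcq
      refine Nat.Coprime.coprime_dvd_right h2 ?_
      exact Nat.Coprime.pow_right e ((Nat.Prime.coprime_iff_not_dvd hq).mpr hu).symm
    obtain ⟨v, hv⟩ := exists_pow_eq_self_of_coprime h1
    -- a `q`-element with image `c`
    let w₂ : L := ((x ^ m) ^ u) ^ v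
    have hw₂ : f w₂ = c := by
      show f (((x ^ m) ^ u) ^ v) = c
      rw [map_pow, map_pow, map_pow, ← hc, hv]
    have hw₂q : w₂ ^ (q ^ i) = 1 := by
      show (((x ^ m) ^ u) ^ v) ^ (q ^ i) = 1
      have h2 : u * (v * q ^ i) = (q ^ i * u) * v := by ring
      rw [← pow_mul, ← pow_mul, h2, pow_mul, ← hz, pow_orderOf_eq_one, one_pow]
    obtain ⟨Q', hQ'⟩ := (isPGroup_zpowers_of_pow_pow hw₂q).exists_le_sylow
    obtain ⟨g, rfl⟩ := MulAction.exists_smul_eq L Q Q'
    have h3 : w₂ ∈ ((g • Q : Sylow q L) : Subgroup L) := hQ' (mem_zpowers w₂)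
    rw [coe_smul_sylow, mem_conj_iff] at h3
    refine ⟨_, h3, ?_⟩
    rw [map_mul, map_mul, hcomm g⁻¹ w₂, hw₂, mul_assoc, ← map_mul, inv_mul_cancel, map_one, mul_one]
  -- a `q`-element of `Q` outside the kernel
  have hqrange : q ∣ Nat.card f.range := by rw [hn]; exact hqn
  obtain ⟨c₀, hc₀⟩ := exists_prime_orderOf_dvd_card' q hqrange
  obtain ⟨x₀, hx₀⟩ := c₀.2
  have hc₀' : orderOf (f x₀) = q := by
    rw [hx₀, ← Subgroup.orderOf_coe] at *
    exact hc₀
  have hc₀m : f x₀ ^ m ≠ 1 := by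
    intro h0
    apply hm
    rw [← hc₀']
    exact orderOf_dvd_of_pow_eq_one h0
  obtain ⟨w₀, hw₀Q, hw₀⟩ := hQim x₀
  have hw₀ne : w₀ ∉ f.ker := by
    rw [MonoidHom.mem_ker, hw₀]
    exact hc₀m
  -- `Q` is abelian, and the action on `Q`
  have hQab : ∀ u ∈ (Q : Subgroup L), ∀ v ∈ (Q : Subgroup L), u * v = v * u := by
    by_cases hqk : q ∣ Nat.card f.ker
    · intro u hu v hv
      letI := (hcyc q hq hqrange hqk Q Q.isPGroup').commGroup
      exact congrArg Subtype.val (mul_comm (⟨u, hu⟩ : (Q : Subgroup L)) ⟨v, hv⟩)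
    · have hbot : (Q : Subgroup L) ⊓ f.ker = ⊥ := by
        apply Subgroup.inf_eq_bot_of_coprime
        obtain ⟨k, hk⟩ := IsPGroup.iff_card.mp Q.isPGroup'
        rw [hk]
        exact Nat.Coprime.pow_left k ((Nat.Prime.coprime_iff_not_dvd hq).mpr hqk)
      intro u hu v hv
      have h1 : u * v * u⁻¹ * v⁻¹ ∈ (Q : Subgroup L) ⊓ f.ker :=
        Subgroup.mem_inf.mpr ⟨(Q : Subgroup L).mul_mem ((Q : Subgroup L).mul_mem ((Q : Subgroup L).mul_mem hu hv)
          ((Q : Subgroup L).inv_mem hu)) ((Q : Subgroup L).inv_mem hv), hcommk u v⟩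
      rw [hbot, mem_bot] at h1
      have h2 : u * v * u⁻¹ = v := mul_inv_eq_one.mp h1
      calc u * v = (u * v * u⁻¹) * u := by group
        _ = v * u := by rw [h2]
  -- Frattini argument
  have hfrat : ∀ x : L, ∃ k ∈ f.ker, k * x ∈ normalizer ((Q : Subgroup L) : Set L) := by
    intro x
    let R : Subgroup L := (Q : Subgroup L) ⊔ f.ker
    haveI hRn : R.Normal := by
      constructor
      intro r hr g
      have h1 : g * r * g⁻¹ = (g * r * g⁻¹ * r⁻¹) * r := by group
      rw [h1]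
      exact R.mul_mem ((le_sup_right : f.ker ≤ R) (hcommk g r)) hr
    have hQR : IsSylowIn q (Q : Subgroup L) R := isSylowIn_of_sylow_le Q le_sup_left
    have h2 := hQR.conj x
    rw [normal_conj_eq (N := R)] at h2
    obtain ⟨l, hl, hlx⟩ := h2.exists_conj hQR
    rw [conj_mul_conj] at hlx
    have h3 : l * x ∈ normalizer ((Q : Subgroup L) : Set L) := mem_normalizer_iff_conj.mpr hlx
    obtain ⟨a, ha, k, hk, rfl⟩ := mem_sup_of_normal_right.mp hl
    refine ⟨k, hk, ?_⟩
    have h4 : k * x = a⁻¹ * (a * k * x) := by group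
    rw [h4]
    exact mul_mem (inv_mem (le_normalizer ha)) h3
  -- `q'`-elements of the normalizer centralize `Q`
  have hC : ∀ y ∈ normalizer ((Q : Subgroup L) : Set L), ¬ q ∣ orderOf y →
      y ∈ centralizer ((Q : Subgroup L) : Set L) := by
    intro y hy hyq
    have hyc : ∀ u ∈ (Q : Subgroup L), y * u * y⁻¹ ∈ (Q : Subgroup L) :=
      fun u hu => (mem_normalizer_iff.mp hy u).mp hu
    have hmemk : ∀ u ∈ (Q : Subgroup L), u⁻¹ * (y * u * y⁻¹) ∈ f.ker := by
      intro u _
      rw [MonoidHom.mem_ker, map_mul, map_mul, map_mul, map_inv, map_inv, hcomm y u]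
      group
    have hfix : ∀ u ∈ (Q : Subgroup L), y * u * y⁻¹ = u := by
      by_cases hqk : q ∣ Nat.card f.ker
      · refine centralizes_of_frattini_trivial (Q : Subgroup L) Q.isPGroup' hyc
          ((Nat.Prime.coprime_iff_not_dvd hq).mpr hyq).symm ?_
        intro u hu
        have hd : u⁻¹ * (y * u * y⁻¹) ∈ (Q : Subgroup L) := mul_mem (inv_mem hu) (hyc u hu)
        refine ⟨⟨_, hd⟩, ?_, rfl⟩
        apply Cfsg.Agent.Lib.Core.mem_frattini_iff.mpr
        intro M hM
        haveI hQc := hcyc q hq hqrange hqk Q Q.isPGroup'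
        let D' : Subgroup (Q : Subgroup L) := f.ker.subgroupOf (Q : Subgroup L)
        have hD'top : D' ≠ ⊤ := by
          intro h0
          apply hw₀ne
          have : (⟨w₀, hw₀Q⟩ : (Q : Subgroup L)) ∈ D' := by rw [h0]; trivial
          exact this
        have hDM : D' ≤ M := by
          rcases chain_of_cyclic (W := ⊤) (X := D') (Y := M) (p := q)
            (by
              haveI := hQc
              exact isCyclic_of_injective (Subgroup.topEquiv (G := (Q : Subgroup L))).toMonoidHom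
                (MulEquiv.injective _))
            (Q.isPGroup'.to_subgroup ⊤)
            le_top le_top with h | h
          · exact h
          · by_cases h5 : M = D'
            · rw [h5]
            · exact absurd (hM.2 D' (lt_of_le_of_ne h h5)) hD'top
        exact hDM (hmemk u hu)
      · have hbot : (Q : Subgroup L) ⊓ f.ker = ⊥ := by
          apply Subgroup.inf_eq_bot_of_coprime
          obtain ⟨k, hk⟩ := IsPGroup.iff_card.mp Q.isPGroup'
          rw [hk]
          exact Nat.Coprime.pow_left k ((Nat.Prime.coprime_iff_not_dvd hq).mpr hqk)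
        intro u hu
        have h1 : u⁻¹ * (y * u * y⁻¹) ∈ (Q : Subgroup L) ⊓ f.ker :=
          Subgroup.mem_inf.mpr ⟨(Q : Subgroup L).mul_mem ((Q : Subgroup L).inv_mem hu) (hyc u hu), hmemk u hu⟩
        rw [hbot, mem_bot] at h1
        exact (inv_mul_eq_one.mp h1).symm
    rw [mem_centralizer_iff]
    intro u hu
    have h1 := hfix u hu
    calc u * y = (y * u * y⁻¹) * y := by rw [h1]
      _ = y * u := by group
  -- the subgroup `L₁`
  let Km : Subgroup L :=
    { carrier := {x | f x ^ m = 1}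
      mul_mem' := by
        intro a b ha hb
        show f (a * b) ^ m = 1
        rw [map_mul, (show Commute (f a) (f b) from hcomm a b).mul_pow, ha, hb, one_mul]
      one_mem' := by
        show f 1 ^ m = 1
        simp
      inv_mem' := by
        intro a ha
        show f a⁻¹ ^ m = 1
        rw [map_inv, inv_pow, ha, inv_one] }
  let L₁ : Subgroup L := centralizer ((Q : Subgroup L) : Set L) ⊓ Km
  have hsurj : ∀ x : L, ∃ x₁ ∈ L₁, f x₁ = f x ^ (q ^ e) := by
    intro x
    set d := f x ^ (q ^ e) with hd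
    have hdm : d ^ m = 1 := by
      rw [hd, ← pow_mul, ← hnem]
      exact hpow x
    obtain ⟨k, hk, hkx⟩ := hfrat x
    have hfk : f (k * x) = f x := by rw [map_mul, MonoidHom.mem_ker.mp hk, one_mul]
    let x₂ := (k * x) ^ (q ^ e)
    have hx₂N : x₂ ∈ normalizer ((Q : Subgroup L) : Set L) := pow_mem hkx _
    have hfx₂ : f x₂ = d := by rw [map_pow, hfk]
    obtain ⟨i, u, hu, hz⟩ := Nat.exists_eq_pow_mul_and_not_dvd (orderOf_pos x₂).ne' q hq.ne_one
    let x₃ := x₂ ^ (q ^ i)
    have hx₃o : orderOf x₃ = u := by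
      show orderOf (x₂ ^ (q ^ i)) = u
      rw [orderOf_pow_of_dvd (pow_ne_zero _ hq.ne_zero) ⟨u, hz⟩, hz, Nat.mul_div_cancel_left _ (pow_pos hq.pos i)]
    have hx₃C := hC x₃ (pow_mem hx₂N _) (by rw [hx₃o]; exact hu)
    have hcop : (q ^ i).Coprime (orderOf d) := by
      have h2 : orderOf d ∣ m := orderOf_dvd_of_pow_eq_one hdm
      exact Nat.Coprime.coprime_dvd_right h2 (Nat.Coprime.pow_left i ((Nat.Prime.coprime_iff_not_dvd hq).mpr hm))
    obtain ⟨t, ht⟩ := exists_pow_eq_self_of_coprime hcop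
    have hfx₃t : f (x₃ ^ t) = d := by
      show f ((x₂ ^ (q ^ i)) ^ t) = d
      rw [map_pow, map_pow, hfx₂, ht]
    refine ⟨x₃ ^ t, Subgroup.mem_inf.mpr ⟨pow_mem hx₃C t, ?_⟩, hfx₃t⟩
    show f (x₃ ^ t) ^ m = 1
    rw [hfx₃t]
    exact hdm
  -- the induction
  let f₁ : L₁ →* B := f.comp L₁.subtype
  have hle : f₁.range ≤ f.range := by
    rintro _ ⟨x, rfl⟩
    exact ⟨x, rfl⟩
  have hlt : Nat.card f₁.range < n := by
    by_contra h
    push_neg at h
    have heq : f₁.range = f.range := Subgroup.eq_of_le_of_card_ge hle (by rw [hn]; exact h)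
    have h2 : f x₀ ∈ f₁.range := by
      rw [heq]
      exact ⟨x₀, rfl⟩
    obtain ⟨y, hy⟩ := h2
    apply hc₀m
    rw [← hy]
    exact y.2.2
  obtain ⟨A₁, hA₁c, hA₁⟩ := ih _ hlt L₁ f₁ rfl (fun x y => hcomm _ _) (by
    intro p hp hp1 hp2 S hS
    have hp1' : p ∣ Nat.card f.range := hp1.trans (Subgroup.card_dvd_of_le hle)
    have hp2' : p ∣ Nat.card f.ker := by
      have h3 : f₁.ker.map L₁.subtype ≤ f.ker := by
        rintro _ ⟨y, hy, rfl⟩
        exact hy
      have h4 : Nat.card (f₁.ker.map L₁.subtype) = Nat.card f₁.ker :=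
        Nat.card_congr (f₁.ker.equivMapOfInjective _ L₁.subtype_injective).symm.toEquiv
      exact hp2.trans (h4 ▸ Subgroup.card_dvd_of_le h3)
    have hSc := hcyc p hp hp1' hp2' (S.map L₁.subtype) (hS.map _)
    haveI := hSc
    exact isCyclic_of_injective (S.equivMapOfInjective _ L₁.subtype_injective).toMonoidHom (MulEquiv.injective _))
  let A₂ : Subgroup L := A₁.map L₁.subtype
  have hA₂c : IsMulCommutative A₂ := by
    refine ⟨⟨?_⟩⟩
    rintro ⟨_, a, ha, rfl⟩ ⟨_, b, hb, rfl⟩
    apply Subtype.ext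
    exact congrArg (fun z : A₁ => ((z : L₁) : L)) (hA₁c.is_comm.comm ⟨a, ha⟩ ⟨b, hb⟩)
  have hQc : IsMulCommutative (Q : Subgroup L) := ⟨⟨fun u v => Subtype.ext (hQab _ u.2 _ v.2)⟩⟩
  have hsup := Cfsg.Agent.Lib.PGroup.ConjAb.isMulCommutative_sup hA₂c hQc (by
    rintro _ ⟨a, ha, rfl⟩ u hu
    exact ((mem_centralizer_iff.mp a.2.1) u hu).symm)
  refine ⟨A₂ ⊔ (Q : Subgroup L), hsup, ?_⟩
  intro x
  have hcop : IsCoprime ((q ^ e : ℕ) : ℤ) (m : ℤ) :=
    Nat.isCoprime_iff_coprime.mpr (Nat.Coprime.pow_left e ((Nat.Prime.coprime_iff_not_dvd hq).mpr hm))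
  obtain ⟨s, t, hst⟩ := hcop
  obtain ⟨w, hw, hwf⟩ := hQim x
  obtain ⟨x₁, hx₁, hfx₁⟩ := hsurj x
  obtain ⟨a, ha, hfa⟩ := hA₁ ⟨x₁, hx₁⟩
  have hfa' : f (a : L) = f x ^ (q ^ e) := by
    rw [← hfx₁]
    exact hfa
  have haA₂ : (a : L) ∈ A₂ := ⟨a, ha, rfl⟩
  refine ⟨(a : L) ^ s * w ^ t, ?_, ?_⟩
  · exact Subgroup.mul_mem _ (Subgroup.zpow_mem _ ((le_sup_left : A₂ ≤ A₂ ⊔ (Q : Subgroup L)) haA₂) s)
      (Subgroup.zpow_mem _ ((le_sup_right : (Q : Subgroup L) ≤ A₂ ⊔ (Q : Subgroup L)) hw) t)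
  · rw [map_mul, map_zpow, map_zpow, hfa', hwf, ← zpow_natCast (f x) (q ^ e), ← zpow_natCast (f x) m,
      ← zpow_mul, ← zpow_mul, ← zpow_add]
    have h2 : ((q ^ e : ℕ) : ℤ) * s + (m : ℤ) * t = 1 := by linarith
    rw [h2, zpow_one]

end Lift

section Main

variable {G : Type u} [Group G] [Finite G]

open Cfsg.Agent.Lib.PGroup.ConjAb

/-- Shared primes give cyclic subgroups. -/
theorem cyclic_of_shared (hB : HB G) (M : Subgroup G) [hMn : M.Normal] (hM : Odd (Nat.card M)) {p : ℕ}
    (hp : p.Prime) (hpM : p ∣ Nat.card M) (hpI : p ∣ M.index) (S : Subgroup G) (hS : IsPGroup p S) :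
    IsCyclic S := by
  classical
  haveI : Fact p.Prime := ⟨hp⟩
  have hp2 : p ≠ 2 := by
    rintro rfl
    exact (Nat.not_even_iff_odd.mpr hM) (even_iff_two_dvd.mpr hpM)
  obtain ⟨P, hP⟩ := hS.exists_le_sylow
  obtain ⟨w, hw⟩ := exists_prime_orderOf_dvd_card' p hpM
  rcases sylow_dichotomy hB p (P : Subgroup G) P.isPGroup' with hexp | huniq
  · exfalso
    have hle : (P : Subgroup G) ≤ M := by
      intro x hx
      by_cases hx1 : x = 1
      · rw [hx1]
        exact one_mem _
      · have h1 : orderOf x = p := orderOf_eq_prime (hexp x hx) hx1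
        exact mem_of_orderOf_eq hB w.2 (by rw [← Subgroup.orderOf_coe] at hw; rw [hw, h1])
    apply P.not_dvd_index
    rw [← Subgroup.relIndex_mul_index hle]
    exact hpI.trans (Dvd.intro_left _ rfl)
  · rcases Cfsg.Agent.S0016.result p P.isPGroup' huniq with hc | ⟨h2, -⟩
    · haveI := hc
      exact isCyclic_of_injective (Subgroup.inclusion hP) (Subgroup.inclusion_injective hP)
    · exact absurd h2 hp2

/-- Lift of abelian subgroups. -/
theorem exists_lift (hB : HB G) (M : Subgroup G) [hMn : M.Normal] (hM : Odd (Nat.card M))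
    (Ā : Subgroup (G ⧸ M)) (hĀ : IsMulCommutative Ā) :
    ∃ A : Subgroup G, IsMulCommutative A ∧ A.map (QuotientGroup.mk' M) = Ā := by
  classical
  let π := QuotientGroup.mk' M
  let T : Subgroup G := Ā.comap π
  let f : T →* Ā := (π.comp T.subtype).codRestrict Ā (fun x => x.2)
  have hcomm : ∀ x y, f x * f y = f y * f x := fun x y => hĀ.is_comm.comm _ _
  have hcyc : ∀ p : ℕ, p.Prime → p ∣ Nat.card f.range → p ∣ Nat.card f.ker →
      ∀ S : Subgroup T, IsPGroup p S → IsCyclic S := by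
    intro p hp h1 h2 S hS
    have h3 : p ∣ M.index := by
      have h4 : p ∣ Nat.card Ā := h1.trans (Subgroup.card_subgroup_dvd_card _)
      exact h4.trans (Subgroup.card_subgroup_dvd_card Ā)
    have h5 : p ∣ Nat.card M := by
      have h6 : f.ker.map T.subtype ≤ M := by
        rintro _ ⟨y, hy, rfl⟩
        have h7 : f y = 1 := hy
        have h8 : π (y : G) = 1 := congrArg Subtype.val h7
        exact (QuotientGroup.eq_one_iff _).mp h8
      have h8 : Nat.card (f.ker.map T.subtype) = Nat.card f.ker :=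
        Nat.card_congr (f.ker.equivMapOfInjective _ T.subtype_injective).symm.toEquiv
      exact h2.trans (h8 ▸ Subgroup.card_dvd_of_le h6)
    haveI := cyclic_of_shared hB M hM hp h5 h3 (S.map T.subtype) (hS.map _)
    exact isCyclic_of_injective (S.equivMapOfInjective _ T.subtype_injective).toMonoidHom (MulEquiv.injective _)
  obtain ⟨A₀, hA₀c, hA₀⟩ := exists_abelian_lift _ T f rfl hcomm hcyc
  refine ⟨A₀.map T.subtype, ?_, ?_⟩
  · refine ⟨⟨?_⟩⟩
    rintro ⟨_, a, ha, rfl⟩ ⟨_, b, hb, rfl⟩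
    apply Subtype.ext
    exact congrArg (fun z : A₀ => ((z : T) : G)) (hA₀c.is_comm.comm ⟨a, ha⟩ ⟨b, hb⟩)
  · apply le_antisymm
    · rintro _ ⟨_, ⟨a, ha, rfl⟩, rfl⟩
      exact a.2
    · intro ā hā
      obtain ⟨x, rfl⟩ := QuotientGroup.mk_surjective ā
      have hxT : x ∈ T := hā
      obtain ⟨a, ha, hfa⟩ := hA₀ ⟨x, hxT⟩
      refine ⟨a, ⟨a, ha, rfl⟩, ?_⟩
      exact congrArg Subtype.val hfa

/-- The order of a minimal abelian lift. -/
theorem factorization_of_minimal (hB : HB G) (M : Subgroup G) [hMn : M.Normal] (hM : Odd (Nat.card M))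
    {A : Subgroup G} (hAc : IsMulCommutative A)
    (hmin : ∀ A' : Subgroup G, IsMulCommutative A' → A'.map (QuotientGroup.mk' M) = A.map (QuotientGroup.mk' M) →
      Nat.card A ≤ Nat.card A') {p : ℕ} (hp : p.Prime) :
    (Nat.card A).factorization p = if p ∣ Nat.card (A.map (QuotientGroup.mk' M)) then
      (Nat.card (A.map (QuotientGroup.mk' M))).factorization p + (Nat.card M).factorization p else 0 := by
  classical
  haveI : Fact p.Prime := ⟨hp⟩
  let π := QuotientGroup.mk' M
  have hAcomm : ∀ a ∈ A, ∀ b ∈ A, a * b = b * a := by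
    intro a ha b hb
    exact congrArg Subtype.val (hAc.is_comm.comm ⟨a, ha⟩ ⟨b, hb⟩)
  by_cases hpa : p ∣ Nat.card (A.map π)
  · rw [if_pos hpa]
    let K : Subgroup G := A ⊓ M
    let g : A →* G ⧸ M := π.comp A.subtype
    have hg1 : g.range = A.map π := by
      rw [MonoidHom.range_comp, Subgroup.range_subtype]
    have hg2 : Nat.card g.ker = Nat.card K := by
      have h1 : g.ker.map A.subtype = K := by
        ext x
        constructor
        · rintro ⟨y, hy, rfl⟩
          refine ⟨y.2, ?_⟩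
          have h2 : π (y : G) = 1 := hy
          exact (QuotientGroup.eq_one_iff _).mp h2
        · rintro ⟨h1, h2⟩
          refine ⟨⟨x, h1⟩, ?_, rfl⟩
          exact (QuotientGroup.eq_one_iff _).mpr h2
      rw [← h1]
      exact Nat.card_congr (g.ker.equivMapOfInjective _ A.subtype_injective).toEquiv
    have hcard : Nat.card K * Nat.card (A.map π) = Nat.card A := by
      have h1 := Subgroup.card_mul_index g.ker
      rw [Subgroup.index_ker, hg1, hg2] at h1
      exact h1
    have hK0 : Nat.card K ≠ 0 := Nat.card_pos.ne'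
    have ha0 : Nat.card (A.map π) ≠ 0 := Nat.card_pos.ne'
    have hM0 : Nat.card M ≠ 0 := Nat.card_pos.ne'
    have hKM : (Nat.card K).factorization p = (Nat.card M).factorization p := by
      apply le_antisymm
      · exact (Nat.factorization_le_iff_dvd hK0 hM0).mpr (Subgroup.card_dvd_of_le inf_le_right) p
      · by_cases hpM : p ∣ Nat.card M
        · have hpI : p ∣ M.index := hpa.trans (Subgroup.card_subgroup_dvd_card _)
          obtain ⟨z, hzA, hzM, i, hzi⟩ : ∃ z ∈ A, z ∉ M ∧ ∃ i : ℕ, z ^ (p ^ i) = 1 := by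
            obtain ⟨ā, hā⟩ := exists_prime_orderOf_dvd_card' p hpa
            obtain ⟨x, hx, hxā⟩ := ā.2
            obtain ⟨i, u, hu, ho⟩ := Nat.exists_eq_pow_mul_and_not_dvd (orderOf_pos x).ne' p hp.ne_one
            refine ⟨x ^ u, A.pow_mem hx u, ?_, i, ?_⟩
            · intro hzM
              apply hu
              have h1 : π (x ^ u) = 1 := (QuotientGroup.eq_one_iff _).mpr hzM
              have h2 : (ā : G ⧸ M) ^ u = 1 := by
                rw [← hxā, ← map_pow]
                exact h1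
              have h3 : orderOf (ā : G ⧸ M) = p := by
                rw [Subgroup.orderOf_coe]
                exact hā
              rw [← h3]
              exact orderOf_dvd_of_pow_eq_one h2
            · rw [← pow_mul, mul_comm, ← ho]
              exact pow_orderOf_eq_one x
          obtain ⟨P', hP'⟩ := (isPGroup_zpowers_of_pow_pow hzi).exists_le_sylow
          have hP'c := cyclic_of_shared hB M hM hp hpM hpI P' P'.isPGroup'
          obtain ⟨S⟩ : Nonempty (Sylow p M) := inferInstance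
          obtain ⟨P₀, hP₀⟩ := (S.isPGroup'.map M.subtype).exists_le_sylow
          obtain ⟨c, hc⟩ := MulAction.exists_smul_eq G P₀ P'
          let D : Subgroup G := ((S : Subgroup M).map M.subtype).map (MulAut.conj c).toMonoidHom
          have hDP' : D ≤ P' := by
            rw [← hc, coe_smul_sylow]
            exact Subgroup.map_mono hP₀
          have hDM : D ≤ M := by
            rintro _ ⟨_, ⟨s, _, rfl⟩, rfl⟩
            exact hMn.conj_mem _ s.2 c
          have hDcard : Nat.card D = p ^ (Nat.card M).factorization p := by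
            have h1 : Nat.card D = Nat.card ((S : Subgroup M).map M.subtype) := card_conj _ _
            have h2 : Nat.card ((S : Subgroup M).map M.subtype) = Nat.card (S : Subgroup M) :=
              Nat.card_congr ((S : Subgroup M).equivMapOfInjective _ M.subtype_injective).symm.toEquiv
            rw [h1, h2]
            exact Sylow.card_eq_multiplicity S
          rcases chain_of_cyclic hP'c P'.isPGroup' hP' hDP' with h | h
          · exact absurd (hDM (h (mem_zpowers z))) hzM
          · have hDK : D ≤ K := fun y hy => ⟨(zpowers_le.mpr hzA) (h hy), hDM hy⟩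
            have h2 := Subgroup.card_dvd_of_le hDK
            rw [hDcard] at h2
            exact (Nat.Prime.pow_dvd_iff_le_factorization hp hK0).mp h2
        · rw [Nat.factorization_eq_zero_of_not_dvd hpM]
          exact Nat.zero_le _
    rw [← hcard, Nat.factorization_mul hK0 ha0, Finsupp.add_apply, hKM, add_comm]
  · rw [if_neg hpa]
    apply Nat.factorization_eq_zero_of_not_dvd
    intro hdvd
    obtain ⟨e, u, hu, hcard⟩ := Nat.exists_eq_pow_mul_and_not_dvd (Nat.card_pos (α := A)).ne' p hp.ne_one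
    let A' : Subgroup G :=
      { carrier := {y | ∃ x ∈ A, x ^ (p ^ e) = y}
        mul_mem' := by
          rintro _ _ ⟨x, hx, rfl⟩ ⟨y, hy, rfl⟩
          refine ⟨x * y, A.mul_mem hx hy, ?_⟩
          exact (show Commute x y from hAcomm x hx y hy).mul_pow _
        one_mem' := ⟨1, A.one_mem, one_pow _⟩
        inv_mem' := by
          rintro _ ⟨x, hx, rfl⟩
          exact ⟨x⁻¹, A.inv_mem hx, inv_pow _ _⟩ }
    have hA'le : A' ≤ A := by
      rintro _ ⟨x, hx, rfl⟩
      exact A.pow_mem hx _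
    have hA'c : IsMulCommutative A' :=
      ⟨⟨fun a b => Subtype.ext (hAcomm _ (hA'le a.2) _ (hA'le b.2))⟩⟩
    have hA'map : A'.map π = A.map π := by
      apply le_antisymm (Subgroup.map_mono hA'le)
      rintro _ ⟨x, hx, rfl⟩
      have hcop : (p ^ e).Coprime (orderOf (π x)) := by
        apply Nat.Coprime.pow_left
        rw [Nat.Prime.coprime_iff_not_dvd hp]
        intro hd
        apply hpa
        exact hd.trans (Subgroup.orderOf_dvd_natCard _ ⟨x, hx, rfl⟩)
      obtain ⟨t, ht⟩ := exists_pow_eq_self_of_coprime hcop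
      refine ⟨(x ^ t) ^ (p ^ e), ⟨x ^ t, A.pow_mem hx t, rfl⟩, ?_⟩
      rw [map_pow, map_pow, ← pow_mul, mul_comm, pow_mul]
      exact ht
    have h1 := hmin A' hA'c hA'map
    have h2 : A' = A := Subgroup.eq_of_le_of_card_ge hA'le h1
    obtain ⟨w, hw⟩ := exists_prime_orderOf_dvd_card' p hdvd
    have hwA' : (w : G) ∈ A' := by rw [h2]; exact w.2
    obtain ⟨x, hx, hxw⟩ := hwA'
    apply hu
    rw [← hw, ← Subgroup.orderOf_coe]
    apply orderOf_dvd_of_pow_eq_one
    rw [← hxw, ← pow_mul, ← hcard]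
    have h3 : (⟨x, hx⟩ : A) ^ Nat.card A = 1 := pow_card_eq_one'
    exact congrArg Subtype.val h3

/-- **The property passes to quotients by normal subgroups of odd order.** -/
theorem main (hB : HB G) (M : Subgroup G) [hMn : M.Normal] (hM : Odd (Nat.card M)) : HB (G ⧸ M) := by
  classical
  intro Ā Bb hĀ hBb hcard
  let π := QuotientGroup.mk' M
  have hminl : ∀ Xb : Subgroup (G ⧸ M), IsMulCommutative Xb → ∃ X : Subgroup G, IsMulCommutative X ∧ X.map π = Xb ∧
      ∀ A' : Subgroup G, IsMulCommutative A' → A'.map π = Xb → Nat.card X ≤ Nat.card A' := by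
    intro Xb hXb
    obtain ⟨A₀, h1, h2⟩ := exists_lift hB M hM Xb hXb
    obtain ⟨X, hX, hXm⟩ := Set.exists_min_image {X : Subgroup G | IsMulCommutative X ∧ X.map π = Xb}
      (fun X => Nat.card X) (Set.toFinite _) ⟨A₀, h1, h2⟩
    exact ⟨X, hX.1, hX.2, fun A' h3 h4 => hXm A' ⟨h3, h4⟩⟩
  obtain ⟨A, hAc, hAm, hAmin⟩ := hminl Ā hĀ
  obtain ⟨B, hBc, hBm, hBmin⟩ := hminl Bb hBb
  have hAB : Nat.card A = Nat.card B := by
    apply Nat.eq_of_factorization_eq Nat.card_pos.ne' Nat.card_pos.ne'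
    intro p
    by_cases hp : p.Prime
    · rw [factorization_of_minimal hB M hM hAc (by rw [hAm]; exact hAmin) hp,
        factorization_of_minimal hB M hM hBc (by rw [hBm]; exact hBmin) hp]
      have h1 : Nat.card (A.map (QuotientGroup.mk' M)) = Nat.card (B.map (QuotientGroup.mk' M)) := by
        show Nat.card (A.map π) = Nat.card (B.map π)
        rw [hAm, hBm, hcard]
      rw [h1]
    · rw [Nat.factorization_eq_zero_of_not_prime _ hp, Nat.factorization_eq_zero_of_not_prime _ hp]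
  obtain ⟨g, hg⟩ := hB A B hAc hBc hAB
  refine ⟨π g, ?_⟩
  rw [← hBm, ← hAm, hg, Subgroup.map_map, Subgroup.map_map]
  congr 1

end Main

end Cfsg.Agent.Lib.Cl.AbLift
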