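import Mathlib

/-!
Appendix C of Bender–Glauberman: the finite field lemmas about
`{a | N a = 1 ∧ N (2 - a) = 1}` in a field with `p ^ q` elements.
-/

set_option autoImplicit false

namespace Cfsg.Agent.Lib.Cl.AppC

open Polynomial Module

/-- If `N (y - c)` does not depend on `c ∈ K` then `#K ≤ [L : K]`. -/
theorem card_le_of_norm_const {K L : Type*} [Field K] [Fintype K] [Field L] [Algebra K L]
    [FiniteDimensional K L] (hn : 0 < finrank K L) (y : L) (κ : K)
    (h : ∀ c : K, Algebra.norm K (y - algebraMap K L c) = κ) :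
    Fintype.card K ≤ finrank K L := by
  classical
  let b := Module.finBasis K L
  let M : Matrix (Fin (finrank K L)) (Fin (finrank K L)) K := Algebra.leftMulMatrix b y
  have hev : ∀ c : K, M.charpoly.eval c = (-1) ^ (finrank K L) * κ := by
    intro c
    rw [Matrix.eval_charpoly]
    have h0 : Matrix.scalar (Fin (finrank K L)) c =
        algebraMap K (Matrix (Fin (finrank K L)) (Fin (finrank K L)) K) c := by
      ext i j
      simp [Matrix.algebraMap_matrix_apply, Matrix.scalar_apply, Matrix.diagonal_apply]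
    have h1 : Matrix.scalar (Fin (finrank K L)) c - M =
        - Algebra.leftMulMatrix b (y - algebraMap K L c) := by
      rw [map_sub, AlgHom.commutes, neg_sub, h0]
    rw [h1, Matrix.det_neg, ← Algebra.norm_eq_matrix_det, h c]
    simp
  by_contra hlt
  push Not at hlt
  have hmon : M.charpoly.Monic := Matrix.charpoly_monic M
  have hdeg : M.charpoly.natDegree = finrank K L := by
    rw [Matrix.charpoly_natDegree_eq_dim]
    simp
  have hgdeg : (M.charpoly - C ((-1) ^ (finrank K L) * κ)).natDegree = finrank K L := by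
    rw [natDegree_sub_C, hdeg]
  have hg0 : M.charpoly - C ((-1) ^ (finrank K L) * κ) = 0 := by
    apply eq_zero_of_natDegree_lt_card_of_eval_eq_zero' _ Finset.univ
    · intro c _
      simp [hev c]
    · rw [hgdeg]
      simpa using hlt
  rw [hg0] at hgdeg
  simp at hgdeg
  omega

/-- `q` is coprime to `p - 1` when the norm kernel order is. -/
theorem coprime_of_hA {p q : ℕ} (hp : 2 ≤ p)
    (hA : Nat.Coprime ((p ^ q - 1) / (p - 1)) (p - 1)) : Nat.Coprime q (p - 1) := by
  have h1 : ((p ^ q - 1) / (p - 1)) = ∑ k ∈ Finset.range q, p ^ k := (Nat.geomSum_eq hp q).symm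
  have h2 : (∑ k ∈ Finset.range q, p ^ k) ≡ q [MOD (p - 1)] := by
    have h3 : p ≡ 1 [MOD (p - 1)] := by
      have : p = 1 + (p - 1) := by omega
      rw [Nat.ModEq]
      conv_lhs => rw [this]
      simp
    have h4 : ∀ k, p ^ k ≡ 1 [MOD (p - 1)] := fun k => by simpa using h3.pow k
    calc (∑ k ∈ Finset.range q, p ^ k) ≡ ∑ k ∈ Finset.range q, 1 [MOD (p - 1)] := by
          rw [Nat.ModEq, Finset.sum_nat_mod]
          conv_rhs => rw [Finset.sum_nat_mod]
          congr 1
          exact Finset.sum_congr rfl fun k _ => h4 k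
      _ = q := by simp
  rw [h1] at hA
  have := h2.gcd_eq
  rw [Nat.Coprime, ← this]
  exact hA

theorem eq_one_of_pow_eq_one {p q : ℕ} [Fact p.Prime] (hc : Nat.Coprime q (p - 1))
    {c : ZMod p} (h : c ^ q = 1) (hq : q ≠ 0) : c = 1 := by
  have hc0 : c ≠ 0 := by
    rintro rfl
    simp [hq] at h
  have h1 : c ^ (p - 1) = 1 := ZMod.pow_card_sub_one_eq_one hc0
  have h2 : orderOf c ∣ Nat.gcd q (p - 1) :=
    Nat.dvd_gcd (orderOf_dvd_of_pow_eq_one h) (orderOf_dvd_of_pow_eq_one h1)
  rw [hc] at h2
  exact orderOf_eq_one_iff.mp (Nat.dvd_one.mp h2)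

variable {p q : ℕ} [Fact p.Prime] [Fact q.Prime]

local notation "F" => GaloisField p q
local notation "N" => Algebra.norm (ZMod p)

theorem finrank_eq : finrank (ZMod p) (GaloisField p q) = q :=
  GaloisField.finrank p (Fact.out : q.Prime).ne_zero

/-- An element of the prime field of norm `1` is `1`. -/
theorem eq_one_of_norm_of_mem (hc : Nat.Coprime q (p - 1)) (c : ZMod p)
    (h : Algebra.norm (ZMod p) (algebraMap (ZMod p) (GaloisField p q) c) = 1) : c = 1 := by
  rw [Algebra.norm_algebraMap, finrank_eq] at h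
  exact eq_one_of_pow_eq_one hc h (Fact.out : q.Prime).ne_zero

theorem le_of_inv_closed (hA : Nat.Coprime ((p ^ q - 1) / (p - 1)) (p - 1))
    (hinv : ∀ a : GaloisField p q, (N a = 1 ∧ N (2 - a) = 1) → (N a⁻¹ = 1 ∧ N (2 - a⁻¹) = 1))
    (a : GaloisField p q) (ha : N a = 1 ∧ N (2 - a) = 1) (ha1 : a ≠ 1) : p ≤ q := by
  have hp2 : 2 ≤ p := (Fact.out : p.Prime).two_le
  have hc := coprime_of_hA hp2 hA
  have hsub : a - 1 ≠ 0 := sub_ne_zero.mpr ha1
  set y : GaloisField p q := (a - 1)⁻¹ with hy
  have hy0 : y ≠ 0 := inv_ne_zero hsub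
  have hnot : ∀ k : ℕ, y - (k : GaloisField p q) ≠ 0 := by
    intro k hk
    have h1 : y = (k : GaloisField p q) := sub_eq_zero.mp hk
    have h2 : a = algebraMap (ZMod p) (GaloisField p q) (1 + (k : ZMod p)⁻¹) := by
      rw [map_add, map_one, map_inv₀, map_natCast, ← h1, hy, inv_inv]
      ring
    have h3 := eq_one_of_norm_of_mem hc (1 + (k : ZMod p)⁻¹) (by rw [← h2]; exact ha.1)
    rw [h2, h3, map_one] at ha1
    exact ha1 rfl
  have hE : ∀ k : ℕ, N (1 + (y - (k : GaloisField p q))⁻¹) = 1 ∧
      N (2 - (1 + (y - (k : GaloisField p q))⁻¹)) = 1 := by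
    intro k
    induction k with
    | zero =>
      have : 1 + (y - ((0 : ℕ) : GaloisField p q))⁻¹ = a := by
        simp [hy]
      rw [this]
      exact ha
    | succ k ih =>
      have h1 := hinv _ ⟨ih.2, by
        have : (2 : GaloisField p q) - (2 - (1 + (y - (k : GaloisField p q))⁻¹)) =
            1 + (y - (k : GaloisField p q))⁻¹ := by ring
        rw [this]; exact ih.1⟩
      have h2 : (2 - (1 + (y - (k : GaloisField p q))⁻¹))⁻¹ =
          1 + (y - ((k + 1 : ℕ) : GaloisField p q))⁻¹ := by
        have h3 := hnot k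
        have h4 := hnot (k + 1)
        push_cast at h4 ⊢
        have h5 : (2 - (1 + (y - (k : GaloisField p q))⁻¹)) =
            (y - (k + 1 : GaloisField p q)) * (y - (k : GaloisField p q))⁻¹ := by
          field_simp
          ring
        rw [h5, mul_inv, inv_inv]
        field_simp
        ring
      rw [h2] at h1
      exact h1
  have hNk : ∀ k : ℕ, N (y - (k : GaloisField p q)) = N y := by
    intro k
    induction k with
    | zero => simp
    | succ k ih =>
      have h1 := (hE (k + 1)).1
      have h3 := hnot (k + 1)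
      have h2 : 1 + (y - ((k + 1 : ℕ) : GaloisField p q))⁻¹ =
          (y - (k : GaloisField p q)) * (y - ((k + 1 : ℕ) : GaloisField p q))⁻¹ := by
        field_simp
        push_cast
        ring
      rw [h2, map_mul, ih] at h1
      have h8 : N (y - ((k + 1 : ℕ) : GaloisField p q)) *
          N (y - ((k + 1 : ℕ) : GaloisField p q))⁻¹ = 1 := by
        rw [← map_mul, mul_inv_cancel₀ h3, map_one]
      exact (mul_right_cancel₀ (right_ne_zero_of_mul_eq_one h8) (h1.trans h8.symm)).symm
  have hfin := finrank_eq (p := p) (q := q)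
  have := card_le_of_norm_const (K := ZMod p) (L := GaloisField p q)
    (by rw [hfin]; exact (Fact.out : q.Prime).pos) y (N y) (by
      intro c
      have : algebraMap (ZMod p) (GaloisField p q) c = ((c.val : ℕ) : GaloisField p q) := by
        conv_lhs => rw [← ZMod.natCast_zmod_val c]
        exact map_natCast _ _
      rw [this]
      exact hNk _)
  rwa [ZMod.card, hfin] at this

end Cfsg.Agent.Lib.Cl.AppC
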