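import Mathlib

/-!
Counting monic polynomials over a finite field by residue at `±1`, weighted by the polynomial
analogue of the von Mangoldt function.
-/

set_option autoImplicit false

namespace Cfsg.Agent.Lib.Cl.AppC2

open Polynomial Finset
open scoped Classical

variable {K : Type*} [Field K] [Fintype K]

set_option linter.unusedSectionVars false

theorem finite_mon (n : ℕ) : Set.Finite {g : K[X] | g.Monic ∧ g.natDegree = n} := by
  have e := (monicEquivDegreeLT (R := K) n).trans (degreeLTEquiv K n).toEquiv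
  exact Set.finite_coe_iff.mp (Finite.of_equiv _ e.symm)

/-- Monic polynomials of degree `n`. -/
noncomputable def Mon (K : Type*) [Field K] [Fintype K] (n : ℕ) : Finset K[X] :=
  (finite_mon n).toFinset

theorem mem_Mon {n : ℕ} {g : K[X]} : g ∈ Mon K n ↔ g.Monic ∧ g.natDegree = n := by
  simp [Mon]

theorem card_Mon (n : ℕ) : (Mon K n).card = Fintype.card K ^ n := by
  have e := (monicEquivDegreeLT (R := K) n).trans (degreeLTEquiv K n).toEquiv
  have h1 : Nat.card {g : K[X] // g.Monic ∧ g.natDegree = n} = Nat.card (Fin n → K) :=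
    Nat.card_congr e
  rw [Nat.card_fun, Nat.card_eq_fintype_card (α := K), Nat.card_eq_fintype_card (α := Fin n),
    Fintype.card_fin] at h1
  rw [← h1, Mon, ← Set.ncard_eq_toFinset_card _ (finite_mon n)]
  exact (Nat.card_coe_set_eq _).symm

/-- `(P, j)`, `P` monic irreducible, `j ≥ 1`, `j * deg P = k`. -/
noncomputable def PP (K : Type*) [Field K] [Fintype K] (k : ℕ) : Finset (K[X] × ℕ) :=
  (((range (k + 1)).biUnion (Mon K)) ×ˢ Icc 1 k).filter
    (fun x => Irreducible x.1 ∧ x.2 * x.1.natDegree = k)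

theorem mem_PP {k : ℕ} {x : K[X] × ℕ} :
    x ∈ PP K k ↔ x.1.Monic ∧ Irreducible x.1 ∧ 1 ≤ x.2 ∧ x.2 * x.1.natDegree = k := by
  simp only [PP, mem_filter, mem_product, mem_biUnion, mem_range, mem_Mon, mem_Icc]
  constructor
  · rintro ⟨⟨⟨a, -, ha, -⟩, h1, -⟩, h2, h3⟩
    exact ⟨ha, h2, h1, h3⟩
  · rintro ⟨h1, h2, h3, h4⟩
    have h5 : 0 < x.1.natDegree := natDegree_pos_iff_degree_pos.mpr (degree_pos_of_irreducible h2)
    refine ⟨⟨⟨x.1.natDegree, ?_, h1, rfl⟩, h3, ?_⟩, h2, h4⟩
    · have : x.1.natDegree ≤ x.2 * x.1.natDegree := Nat.le_mul_of_pos_left _ h3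
      omega
    · have : x.2 ≤ x.2 * x.1.natDegree := Nat.le_mul_of_pos_right _ h5
      omega

/-- the value `P ^ j` of a pair. -/
noncomputable abbrev val (x : K[X] × ℕ) : K[X] := x.1 ^ x.2

/-- the weight `deg P` of a pair. -/
noncomputable abbrev wt (x : K[X] × ℕ) : ℕ := x.1.natDegree

theorem val_monic {x : K[X] × ℕ} (hx : x.1.Monic) : (val x).Monic := hx.pow _

theorem val_natDegree {x : K[X] × ℕ} (hx : x.1.Monic) : (val x).natDegree = x.2 * x.1.natDegree :=
  hx.natDegree_pow _

/-- Multiplicity sum of a fixed irreducible. -/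
theorem sum_pow_dvd {g P : K[X]} (hg : g.Monic) (hP : P.Monic) (hPi : Irreducible P) {n : ℕ}
    (hn : g.natDegree = n) :
    ∑ j ∈ Icc 1 n, (if P ^ j ∣ g then 1 else 0) =
      (UniqueFactorizationMonoid.normalizedFactors g).count P := by
  classical
  have hg0 : g ≠ 0 := hg.ne_zero
  have hnorm : normalize P = P := hP.normalize_eq_self
  have hdvd : ∀ j : ℕ, P ^ j ∣ g ↔ j ≤ (UniqueFactorizationMonoid.normalizedFactors g).count P := by
    intro j
    have h1 := UniqueFactorizationMonoid.emultiplicity_eq_count_normalizedFactors hPi hg0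
    rw [hnorm] at h1
    rw [pow_dvd_iff_le_emultiplicity, h1]
    exact Nat.cast_le
  set c := (UniqueFactorizationMonoid.normalizedFactors g).count P with hc
  have hcn : c ≤ n := by
    have h1 : P ^ c ∣ g := (hdvd c).mpr le_rfl
    have h2 : (P ^ c).natDegree ≤ g.natDegree := natDegree_le_of_dvd h1 hg0
    rw [hP.natDegree_pow] at h2
    have h5 : 0 < P.natDegree := natDegree_pos_iff_degree_pos.mpr (degree_pos_of_irreducible hPi)
    have : c ≤ c * P.natDegree := Nat.le_mul_of_pos_right _ h5
    omega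
  simp only [hdvd]
  rw [← Finset.card_filter]
  have : (Icc 1 n).filter (fun j => j ≤ c) = Icc 1 c := by
    ext j
    simp only [mem_filter, mem_Icc]
    omega
  rw [this]
  simp

/-- The degree is the total weight of the prime powers dividing. -/
theorem core {g : K[X]} (hg : g.Monic) {n : ℕ} (hn : g.natDegree = n) :
    ∑ k ∈ Icc 1 n, ∑ x ∈ PP K k, (if val x ∣ g then wt x else 0) = n := by
  classical
  have hg0 : g ≠ 0 := hg.ne_zero
  set nf := UniqueFactorizationMonoid.normalizedFactors g with hnf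
  -- the set of relevant irreducibles
  set I : Finset K[X] := ((range (n + 1)).biUnion (Mon K)).filter Irreducible with hI
  have hmemI : ∀ P, P ∈ I ↔ P.Monic ∧ Irreducible P ∧ P.natDegree ≤ n := by
    intro P
    simp only [hI, mem_filter, mem_biUnion, mem_range, mem_Mon]
    constructor
    · rintro ⟨⟨a, ha, h1, h2⟩, h3⟩
      exact ⟨h1, h3, by omega⟩
    · rintro ⟨h1, h2, h3⟩
      exact ⟨⟨P.natDegree, by omega, h1, rfl⟩, h2⟩
  have hmemnf : ∀ P ∈ nf, P.Monic ∧ Irreducible P := by
    intro P hP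
    have h1 := UniqueFactorizationMonoid.irreducible_of_normalized_factor P hP
    refine ⟨?_, h1⟩
    have h2 := UniqueFactorizationMonoid.normalize_normalized_factor P hP
    rw [← h2]
    exact monic_normalize h1.ne_zero
  have hdeg : (nf.map natDegree).sum = n := by
    have h1 : Associated nf.prod g := UniqueFactorizationMonoid.prod_normalizedFactors hg0
    have h2 : nf.prod.natDegree = g.natDegree := natDegree_eq_of_degree_eq
      (degree_eq_degree_of_associated h1)
    rw [← hn, ← h2, natDegree_multiset_prod]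
    exact UniqueFactorizationMonoid.zero_notMem_normalizedFactors g
  have hsum : ∑ P ∈ I, nf.count P * P.natDegree = n := by
    rw [← hdeg, Finset.sum_multiset_map_count]
    have hsub : nf.toFinset ⊆ I := by
      intro P hP
      have hP' := Multiset.mem_toFinset.mp hP
      obtain ⟨h1, h2⟩ := hmemnf P hP'
      refine (hmemI P).mpr ⟨h1, h2, ?_⟩
      have h3 := natDegree_le_of_dvd (UniqueFactorizationMonoid.dvd_of_mem_normalizedFactors hP') hg0
      omega
    rw [← Finset.sum_subset hsub]
    · exact Finset.sum_congr rfl fun P _ => by simp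
    · intro P _ hP
      have : nf.count P = 0 := Multiset.count_eq_zero_of_notMem (by simpa using hP)
      simp [this]
  have h1 : ∑ x ∈ (I ×ˢ Icc 1 n), (if val x ∣ g then wt x else 0) = n := by
    refine Eq.trans ?_ hsum
    rw [Finset.sum_product]
    refine Finset.sum_congr rfl fun P hP => ?_
    obtain ⟨hm, hi, -⟩ := (hmemI P).mp hP
    rw [hnf, ← sum_pow_dvd hg hm hi hn, Finset.sum_mul]
    refine Finset.sum_congr rfl fun j _ => ?_
    split_ifs <;> simp
  refine Eq.trans ?_ h1
  -- regroup by degree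
  set Q := (I ×ˢ Icc 1 n).filter (fun x => x.2 * x.1.natDegree ≤ n) with hQ
  have hQsum : ∑ x ∈ (I ×ˢ Icc 1 n), (if val x ∣ g then wt x else 0) =
      ∑ x ∈ Q, (if val x ∣ g then wt x else 0) := by
    rw [hQ]
    symm
    apply Finset.sum_filter_of_ne
    intro x hx hne
    have hd : val x ∣ g := by
      by_contra h
      simp [h] at hne
    have h3 := natDegree_le_of_dvd hd hg0
    have hx1 := (hmemI x.1).mp (mem_product.mp hx).1
    rw [val_natDegree hx1.1] at h3
    omega
  rw [hQsum]
  have hmaps : ∀ x ∈ Q, x.2 * x.1.natDegree ∈ Icc 1 n := by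
    intro x hx
    rw [hQ, mem_filter, mem_product] at hx
    have h2 := (hmemI x.1).mp hx.1.1
    have h3 := mem_Icc.mp hx.1.2
    have h5 : 0 < x.1.natDegree :=
      natDegree_pos_iff_degree_pos.mpr (degree_pos_of_irreducible h2.2.1)
    exact mem_Icc.mpr ⟨Nat.mul_pos (by omega) h5, hx.2⟩
  rw [← Finset.sum_fiberwise_of_maps_to hmaps]
  refine Finset.sum_congr rfl fun k hk => ?_
  have hk' := mem_Icc.mp hk
  refine Finset.sum_congr ?_ fun _ _ => rfl
  ext x
  rw [mem_PP, mem_filter, hQ, mem_filter, mem_product, hmemI, mem_Icc]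
  constructor
  · rintro ⟨h1, h2, h3, h4⟩
    have h5 : 0 < x.1.natDegree := natDegree_pos_iff_degree_pos.mpr (degree_pos_of_irreducible h2)
    refine ⟨⟨⟨⟨h1, h2, ?_⟩, h3, ?_⟩, ?_⟩, h4⟩
    · have : x.1.natDegree ≤ x.2 * x.1.natDegree := Nat.le_mul_of_pos_left _ h3
      omega
    · have : x.2 ≤ x.2 * x.1.natDegree := Nat.le_mul_of_pos_right _ h5
      omega
    · omega
  · rintro ⟨⟨⟨⟨h1, h2, -⟩, h3, -⟩, -⟩, h4⟩
    exact ⟨h1, h2, h3, h4⟩

/-- Double counting over any set of monic polynomials of degree `n`. -/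
theorem double_count {n : ℕ} (S : Finset K[X]) (hS : S ⊆ Mon K n) :
    n * S.card = ∑ k ∈ Icc 1 n, ∑ x ∈ PP K k, wt x * (S.filter (fun g => val x ∣ g)).card := by
  have h1 : ∀ g ∈ S, ∑ k ∈ Icc 1 n, ∑ x ∈ PP K k, (if val x ∣ g then wt x else 0) = n := by
    intro g hg
    obtain ⟨h2, h3⟩ := mem_Mon.mp (hS hg)
    exact core h2 h3
  calc n * S.card = ∑ g ∈ S, n := by simp [mul_comm]
    _ = ∑ g ∈ S, ∑ k ∈ Icc 1 n, ∑ x ∈ PP K k, (if val x ∣ g then wt x else 0) :=
        Finset.sum_congr rfl fun g hg => (h1 g hg).symm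
    _ = ∑ k ∈ Icc 1 n, ∑ g ∈ S, ∑ x ∈ PP K k, (if val x ∣ g then wt x else 0) := Finset.sum_comm
    _ = ∑ k ∈ Icc 1 n, ∑ x ∈ PP K k, ∑ g ∈ S, (if val x ∣ g then wt x else 0) :=
        Finset.sum_congr rfl fun k _ => Finset.sum_comm
    _ = _ := by
        refine Finset.sum_congr rfl fun k _ => Finset.sum_congr rfl fun x _ => ?_
        rw [Finset.card_filter, Finset.mul_sum]
        refine Finset.sum_congr rfl fun g _ => ?_
        split_ifs <;> simp

/-- Multiples of `d` inside `S`. -/
theorem card_filter_dvd {n k : ℕ} {d : K[X]} (hd : d.Monic) (hk : d.natDegree = k) (hkn : k ≤ n)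
    (S : Finset K[X]) (hS : S ⊆ Mon K n) :
    (S.filter (fun g => d ∣ g)).card = ((Mon K (n - k)).filter (fun h => d * h ∈ S)).card := by
  symm
  refine Finset.card_bij (fun h _ => d * h) ?_ ?_ ?_
  · intro h hh
    rw [mem_filter] at hh ⊢
    exact ⟨hh.2, dvd_mul_right _ _⟩
  · intro a _ b _ hab
    exact mul_left_cancel₀ hd.ne_zero hab
  · intro g hg
    rw [mem_filter] at hg
    obtain ⟨h, rfl⟩ := hg.2
    obtain ⟨h1, h2⟩ := mem_Mon.mp (hS hg.1)
    have hm : h.Monic := hd.of_mul_monic_left h1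
    refine ⟨h, ?_, rfl⟩
    rw [mem_filter, mem_Mon]
    refine ⟨⟨hm, ?_⟩, hg.1⟩
    rw [hd.natDegree_mul hm, hk] at h2
    omega

/-- total weight in degree `k`. -/
noncomputable def L (K : Type*) [Field K] [Fintype K] (k : ℕ) : ℕ := ∑ x ∈ PP K k, wt x

theorem L_eq (n : ℕ) (hn : 1 ≤ n) : L K n = Fintype.card K ^ n := by
  induction n using Nat.strong_induction_on with
  | _ n ih =>
    have h1 := double_count (K := K) (n := n) (Mon K n) (Subset.refl _)
    rw [card_Mon] at h1
    have h2 : ∀ k ∈ Icc 1 n, ∑ x ∈ PP K k, wt x * ((Mon K n).filter (fun g => val x ∣ g)).card =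
        Fintype.card K ^ (n - k) * L K k := by
      intro k hk
      have hk' := mem_Icc.mp hk
      rw [L, Finset.mul_sum]
      refine Finset.sum_congr rfl fun x hx => ?_
      obtain ⟨h3, h4, h5, h6⟩ := mem_PP.mp hx
      rw [card_filter_dvd (val_monic h3) (by rw [val_natDegree h3, h6]) hk'.2 _ (Subset.refl _)]
      have h7 : (Mon K (n - k)).filter (fun h => val x * h ∈ Mon K n) = Mon K (n - k) := by
        apply Finset.filter_true_of_mem
        intro h hh
        obtain ⟨h8, h9⟩ := mem_Mon.mp hh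
        refine mem_Mon.mpr ⟨(val_monic h3).mul h8, ?_⟩
        rw [(val_monic h3).natDegree_mul h8, val_natDegree h3, h6, h9]
        omega
      rw [h7, card_Mon, mul_comm]
    rw [Finset.sum_congr rfl h2] at h1
    have h3 : Icc 1 n = insert n (Icc 1 (n - 1)) := by
      ext k
      simp only [mem_Icc, mem_insert]
      omega
    rw [h3, Finset.sum_insert (by simp only [mem_Icc]; omega), Nat.sub_self, pow_zero, one_mul] at h1
    have h4 : ∑ k ∈ Icc 1 (n - 1), Fintype.card K ^ (n - k) * L K k =
        (n - 1) * Fintype.card K ^ n := by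
      rw [Finset.sum_congr rfl (g := fun _ => Fintype.card K ^ n)]
      · simp only [sum_const, Nat.card_Icc, smul_eq_mul, Nat.add_sub_cancel]
      · intro k hk
        have hk' := mem_Icc.mp hk
        rw [ih k (by omega) hk'.1, ← pow_add]
        congr 1
        omega
    rw [h4] at h1
    obtain ⟨m, rfl⟩ : ∃ m, n = m + 1 := ⟨n - 1, by omega⟩
    simp only [Nat.add_sub_cancel] at h1
    linarith

/-- monic polynomials of degree `m` with prescribed values at `±1`. -/
noncomputable def cls (K : Type*) [Field K] [Fintype K] (m : ℕ) (a b : K) : Finset K[X] :=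
  (Mon K m).filter (fun h => h.eval 1 = a ∧ h.eval (-1) = b)

theorem mem_cls {m : ℕ} {a b : K} {h : K[X]} :
    h ∈ cls K m a b ↔ (h.Monic ∧ h.natDegree = m) ∧ h.eval 1 = a ∧ h.eval (-1) = b := by
  rw [cls, mem_filter, mem_Mon]

theorem card_cls_add_two (h2 : (2 : K) ≠ 0) (m : ℕ) (a b : K) :
    (cls K (m + 2) a b).card = Fintype.card K ^ m := by
  rw [← card_Mon (K := K) m]
  symm
  set D : K[X] := X ^ 2 - C 1 with hD
  have hDm : D.Monic := monic_X_pow_sub_C 1 (by norm_num)
  have hDd : D.natDegree = 2 := natDegree_X_pow_sub_C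
  set l : K[X] := C ((a - b) / 2) * X + C ((a + b) / 2) with hl
  have hld : l.natDegree ≤ 1 := natDegree_linear_le
  have hl1 : l.eval 1 = a := by
    simp [hl]
    field_simp
    ring
  have hl2 : l.eval (-1) = b := by
    simp [hl]
    field_simp
    ring
  have hD1 : D.eval 1 = 0 := by simp [hD]
  have hD2 : D.eval (-1) = 0 := by simp [hD]
  have hldeg : ∀ f : K[X], f.natDegree = m + 2 → l.degree < f.degree := by
    intro f hf
    have h0 : f ≠ 0 := by
      rintro rfl
      simp at hf
    refine lt_of_le_of_lt (degree_le_of_natDegree_le hld) ?_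
    rw [degree_eq_natDegree h0, hf]
    exact_mod_cast (by omega : 1 < m + 2)
  refine Finset.card_bij (fun f _ => D * f + l) ?_ ?_ ?_
  · intro f hf
    obtain ⟨h3, h4⟩ := mem_Mon.mp hf
    have h5 : (D * f).Monic := hDm.mul h3
    have h6 : (D * f).natDegree = m + 2 := by
      rw [hDm.natDegree_mul h3, hDd, h4]
      omega
    rw [mem_cls]
    refine ⟨⟨h5.add_of_left (hldeg _ h6), ?_⟩, ?_, ?_⟩
    · rw [natDegree_add_eq_left_of_natDegree_lt (by omega), h6]
    · simp [hD1, hl1]
    · simp [hD2, hl2]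
  · intro f1 _ f2 _ hf
    have : D * f1 = D * f2 := add_right_cancel hf
    exact mul_left_cancel₀ hDm.ne_zero this
  · intro g hg
    obtain ⟨⟨h3, h4⟩, h5, h6⟩ := mem_cls.mp hg
    have h7 : (g - l).eval 1 = 0 := by simp [h5, hl1]
    have h8 : (g - l).eval (-1) = 0 := by simp [h6, hl2]
    obtain ⟨u, hu⟩ := (dvd_iff_isRoot (p := g - l) (a := (1 : K))).mpr h7
    have h9 : u.eval (-1) = 0 := by
      rw [hu] at h8
      simp at h8
      rcases h8 with h8 | h8
      · exfalso
        apply h2
        have : (2 : K) = -(-1 - 1) := by ring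
        rw [this, h8]
        simp
      · exact h8
    obtain ⟨v, hv⟩ := (dvd_iff_isRoot (p := u) (a := (-1 : K))).mpr h9
    have h10 : g - l = D * v := by
      rw [hu, hv, hD]
      simp
      ring
    have h11 : (D * v).Monic := by
      rw [← h10]
      exact h3.sub_of_left (hldeg _ h4)
    have h12 : v.Monic := hDm.of_mul_monic_left h11
    have h13 : (D * v).natDegree = m + 2 := by
      rw [← h10, natDegree_sub_eq_left_of_natDegree_lt (by omega), h4]
    refine ⟨v, ?_, ?_⟩
    · rw [hDm.natDegree_mul h12, hDd] at h13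
      exact mem_Mon.mpr ⟨h12, by omega⟩
    · rw [← h10]
      ring

theorem card_cls_one (h2 : (2 : K) ≠ 0) (a b : K) :
    (cls K 1 a b).card = if a - b = 2 then 1 else 0 := by
  split_ifs with h
  · have : cls K 1 a b = {X + C (a - 1)} := by
      ext f
      rw [mem_cls, mem_singleton]
      constructor
      · rintro ⟨⟨h3, h4⟩, h5, h6⟩
        rw [h3.eq_X_add_C h4]
        rw [h3.eq_X_add_C h4] at h5
        simp at h5
        rw [← h5]
        simp
      · rintro rfl
        refine ⟨⟨monic_X_add_C _, natDegree_X_add_C _⟩, ?_, ?_⟩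
        · simp
        · simp
          have : a = b + 2 := by rw [← h]; ring
          rw [this]
          ring
    rw [this]
    simp
  · rw [Finset.card_eq_zero]
    ext f
    simp only [mem_cls, notMem_empty, iff_false]
    rintro ⟨⟨h3, h4⟩, h5, h6⟩
    apply h
    rw [← h5, ← h6, h3.eq_X_add_C h4]
    simp
    ring

theorem card_cls_zero (a b : K) :
    (cls K 0 a b).card = if a = 1 ∧ b = 1 then 1 else 0 := by
  split_ifs with h
  · have : cls K 0 a b = {1} := by
      ext f
      rw [mem_cls, mem_singleton]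
      constructor
      · rintro ⟨⟨h3, h4⟩, -, -⟩
        exact (Polynomial.Monic.natDegree_eq_zero h3).mp h4
      · rintro rfl
        simp [h.1, h.2]
    rw [this]
    simp
  · rw [Finset.card_eq_zero]
    ext f
    simp only [mem_cls, notMem_empty, iff_false]
    rintro ⟨⟨h3, h4⟩, h5, h6⟩
    apply h
    have := (Polynomial.Monic.natDegree_eq_zero h3).mp h4
    rw [this] at h5 h6
    simp at h5 h6
    exact ⟨h5.symm, h6.symm⟩

/-- value at `1`. -/
noncomputable abbrev vA (x : K[X] × ℕ) : K := (val x).eval 1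
/-- value at `-1`. -/
noncomputable abbrev vB (x : K[X] × ℕ) : K := (val x).eval (-1)

/-- Residue class count of the multiples of a prime power. -/
theorem card_filter_val {n k : ℕ} {α β : K} (hα : α ≠ 0) (hβ : β ≠ 0) {x : K[X] × ℕ}
    (hx : x ∈ PP K k) (hkn : k ≤ n) :
    ((cls K n α β).filter (fun g => val x ∣ g)).card =
      if vA x ≠ 0 ∧ vB x ≠ 0 then (cls K (n - k) (α / vA x) (β / vB x)).card else 0 := by
  obtain ⟨h3, h4, h5, h6⟩ := mem_PP.mp hx
  rw [card_filter_dvd (S := cls K n α β) (val_monic h3) (by rw [val_natDegree h3, h6]) hkn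
    (filter_subset _ _)]
  split_ifs with hg
  · obtain ⟨hA, hB⟩ := hg
    congr 1
    ext h
    rw [mem_filter, mem_Mon, mem_cls, mem_cls]
    constructor
    · rintro ⟨h7, -, h8, h9⟩
      refine ⟨h7, ?_, ?_⟩
      · rw [eval_mul] at h8
        rw [← h8]
        field_simp
      · rw [eval_mul] at h9
        rw [← h9]
        field_simp
    · rintro ⟨h7, h8, h9⟩
      refine ⟨h7, ⟨(val_monic h3).mul h7.1, ?_⟩, ?_, ?_⟩
      · rw [(val_monic h3).natDegree_mul h7.1, val_natDegree h3, h6, h7.2]
        omega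
      · rw [eval_mul, h8]
        field_simp
      · rw [eval_mul, h9]
        field_simp
  · rw [Finset.card_eq_zero]
    ext h
    simp only [mem_filter, mem_Mon, mem_cls, notMem_empty, iff_false]
    rintro ⟨-, -, h8, h9⟩
    apply hg
    rw [eval_mul] at h8 h9
    constructor
    · rintro h10
      change (val x).eval 1 = 0 at h10
      rw [h10, zero_mul] at h8
      exact hα h8.symm
    · rintro h10
      change (val x).eval (-1) = 0 at h10
      rw [h10, zero_mul] at h9
      exact hβ h9.symm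

/-- "good" part of the total weight. -/
noncomputable def L' (K : Type*) [Field K] [Fintype K] (k : ℕ) : ℕ :=
  ∑ x ∈ PP K k, if vA x ≠ 0 ∧ vB x ≠ 0 then wt x else 0

/-- the weight of prime powers of degree `m + 1` complementary in degree one. -/
noncomputable def mid (m : ℕ) (α β : K) : ℕ :=
  ∑ x ∈ PP K (m + 1), if (vA x ≠ 0 ∧ vB x ≠ 0) ∧ α / vA x - β / vB x = 2 then wt x else 0

/-- the weight of prime powers of degree `n` in a class. -/
noncomputable def FF (n : ℕ) (α β : K) : ℕ :=
  ∑ x ∈ PP K n, if vA x = α ∧ vB x = β then wt x else 0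

theorem identity1 (h2 : (2 : K) ≠ 0) (m : ℕ) {α β : K} (hα : α ≠ 0) (hβ : β ≠ 0) :
    (m + 2) * Fintype.card K ^ m =
      ∑ k ∈ Icc 1 m, Fintype.card K ^ (m - k) * L' K k + mid m α β + FF (m + 2) α β := by
  have h1 := double_count (K := K) (n := m + 2) (cls K (m + 2) α β) (filter_subset _ _)
  rw [card_cls_add_two h2] at h1
  rw [h1]
  have h3 : Icc 1 (m + 2) = insert (m + 2) (insert (m + 1) (Icc 1 m)) := by
    ext k
    simp only [mem_Icc, mem_insert]
    omega
  rw [h3, Finset.sum_insert (by simp only [mem_insert, mem_Icc]; omega),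
    Finset.sum_insert (by simp only [mem_Icc]; omega)]
  have h4 : ∀ k ∈ Icc 1 m, ∑ x ∈ PP K k, wt x * ((cls K (m + 2) α β).filter (fun g => val x ∣ g)).card
      = Fintype.card K ^ (m - k) * L' K k := by
    intro k hk
    have hk' := mem_Icc.mp hk
    rw [L', Finset.mul_sum]
    refine Finset.sum_congr rfl fun x hx => ?_
    rw [card_filter_val hα hβ hx (by omega)]
    split_ifs with hg
    · have : m + 2 - k = (m - k) + 2 := by omega
      rw [this, card_cls_add_two h2, mul_comm]
    · simp
  have h5 : ∑ x ∈ PP K (m + 1), wt x * ((cls K (m + 2) α β).filter (fun g => val x ∣ g)).card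
      = mid m α β := by
    rw [mid]
    refine Finset.sum_congr rfl fun x hx => ?_
    rw [card_filter_val hα hβ hx (by omega)]
    have : m + 2 - (m + 1) = 1 := by omega
    rw [this]
    by_cases hg : vA x ≠ 0 ∧ vB x ≠ 0
    · rw [if_pos hg, card_cls_one h2]
      by_cases h6 : α / vA x - β / vB x = 2
      · rw [if_pos h6, if_pos ⟨hg, h6⟩, mul_one]
      · rw [if_neg h6, if_neg (fun h => h6 h.2), mul_zero]
    · rw [if_neg hg, if_neg (fun h => hg h.1), mul_zero]
  have h6 : ∑ x ∈ PP K (m + 2), wt x * ((cls K (m + 2) α β).filter (fun g => val x ∣ g)).card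
      = FF (m + 2) α β := by
    rw [FF]
    refine Finset.sum_congr rfl fun x hx => ?_
    rw [card_filter_val hα hβ hx le_rfl, Nat.sub_self]
    by_cases hg : vA x ≠ 0 ∧ vB x ≠ 0
    · rw [if_pos hg, card_cls_zero]
      by_cases h7 : vA x = α ∧ vB x = β
      · rw [if_pos h7, if_pos, mul_one]
        rw [h7.1, h7.2]
        exact ⟨div_self hα, div_self hβ⟩
      · rw [if_neg h7, if_neg, mul_zero]
        rintro ⟨h8, h9⟩
        apply h7
        constructor
        · exact ((div_eq_one_iff_eq hg.1).mp h8).symm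
        · exact ((div_eq_one_iff_eq hg.2).mp h9).symm
    · rw [if_neg hg, if_neg, mul_zero]
      rintro ⟨h8, h9⟩
      apply hg
      rw [h8, h9]
      exact ⟨hα, hβ⟩
  rw [h6, h5, Finset.sum_congr rfl h4]
  omega

/-- An irreducible monic polynomial with a root is the linear polynomial. -/
theorem eq_of_root {P : K[X]} (hm : P.Monic) (hi : Irreducible P) {c : K} (h : P.eval c = 0) :
    P = X - C c := by
  obtain ⟨u, hu⟩ := (dvd_iff_isRoot (p := P) (a := c)).mpr h
  have hum : u.Monic := by
    rw [hu] at hm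
    exact (monic_X_sub_C c).of_mul_monic_left hm
  rcases hi.isUnit_or_isUnit hu with h1 | h1
  · exfalso
    have := natDegree_eq_zero_of_isUnit h1
    rw [natDegree_X_sub_C] at this
    omega
  · rw [hu, hum.eq_one_of_isUnit h1, mul_one]

theorem L'_add_two (h2 : (2 : K) ≠ 0) {k : ℕ} (hk : 1 ≤ k) :
    L' K k + 2 = Fintype.card K ^ k := by
  rw [← L_eq k hk, L, L', ← Finset.sum_filter]
  rw [← Finset.sum_filter_add_sum_filter_not (PP K k) (fun x => vA x ≠ 0 ∧ vB x ≠ 0)]
  congr 1
  have h3 : (1 : K) ≠ -1 := by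
    intro h
    apply h2
    have : (2 : K) = 1 - (-1) := by ring
    rw [this, ← h]
    simp
  have hset : (PP K k).filter (fun x => ¬ (vA x ≠ 0 ∧ vB x ≠ 0)) =
      {((X - C (1 : K)), k), ((X - C (-1 : K)), k)} := by
    ext x
    rw [mem_filter, mem_PP, mem_insert, mem_singleton]
    constructor
    · rintro ⟨⟨h4, h5, h6, h7⟩, h8⟩
      have hdeg1 : ∀ c : K, x.1 = X - C c → x = ((X - C c), k) := by
        intro c hc
        rw [hc, natDegree_X_sub_C, mul_one] at h7
        ext1
        · exact hc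
        · exact h7
      by_cases hA : vA x = 0
      · left
        apply hdeg1
        apply eq_of_root h4 h5
        rw [vA, val, eval_pow] at hA
        exact pow_eq_zero_iff (by omega) |>.mp hA
      · right
        apply hdeg1
        apply eq_of_root h4 h5
        have hB : vB x = 0 := by
          by_contra hB
          exact h8 ⟨hA, hB⟩
        rw [vB, val, eval_pow] at hB
        exact pow_eq_zero_iff (by omega) |>.mp hB
    · rintro (rfl | rfl)
      · refine ⟨⟨monic_X_sub_C _, irreducible_X_sub_C _, hk, by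
          show k * (X - C (1 : K)).natDegree = k
          rw [natDegree_X_sub_C, mul_one]⟩, ?_⟩
        rintro ⟨h4, -⟩
        apply h4
        simp [vA, val, eval_pow]
        omega
      · refine ⟨⟨monic_X_sub_C _, irreducible_X_sub_C _, hk, by
          show k * (X - C (-1 : K)).natDegree = k
          rw [natDegree_X_sub_C, mul_one]⟩, ?_⟩
        rintro ⟨-, h4⟩
        apply h4
        simp [vB, val, eval_pow]
        omega
  rw [hset, Finset.sum_pair]
  · simp only [wt, natDegree_X_sub_C]
  · intro h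
    have h5 := congrArg Prod.fst h
    simp only at h5
    exact h3 (C_injective (sub_right_injective h5))

/-- `Σ_{k = 1}^m r ^ (m - k)`. -/
noncomputable def GG (r m : ℕ) : ℕ := ∑ k ∈ Icc 1 m, r ^ (m - k)

theorem GG_succ (r m : ℕ) : GG r (m + 1) = r * GG r m + 1 := by
  have h3 : Icc 1 (m + 1) = insert (m + 1) (Icc 1 m) := by
    ext k
    simp only [mem_Icc, mem_insert]
    omega
  rw [GG, h3, Finset.sum_insert (by simp only [mem_Icc]; omega), Nat.sub_self, pow_zero, GG,
    Finset.mul_sum, add_comm]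
  congr 1
  refine Finset.sum_congr rfl fun k hk => ?_
  have hk' := mem_Icc.mp hk
  have : m + 1 - k = (m - k) + 1 := by omega
  rw [this, pow_succ, mul_comm]

/-- Identity `(*)`. -/
theorem identity2 (h2 : (2 : K) ≠ 0) (m : ℕ) {α β : K} (hα : α ≠ 0) (hβ : β ≠ 0) :
    mid m α β + FF (m + 2) α β = 2 * Fintype.card K ^ m + 2 * GG (Fintype.card K) m := by
  have h1 := identity1 h2 m hα hβ
  have h3 : ∑ k ∈ Icc 1 m, Fintype.card K ^ (m - k) * L' K k + 2 * GG (Fintype.card K) m =
      m * Fintype.card K ^ m := by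
    rw [GG, Finset.mul_sum, ← Finset.sum_add_distrib]
    rw [Finset.sum_congr rfl (g := fun _ => Fintype.card K ^ m)]
    · simp
    · intro k hk
      have hk' := mem_Icc.mp hk
      rw [mul_comm 2, ← mul_add, L'_add_two h2 hk'.1, ← pow_add]
      congr 1
      omega
  have h4 : (m + 2) * Fintype.card K ^ m = m * Fintype.card K ^ m + 2 * Fintype.card K ^ m := by
    ring
  omega

/-- The upper bound in degree `m + 2`. -/
theorem FF_le (h2 : (2 : K) ≠ 0) (m : ℕ) {α β : K} (hα : α ≠ 0) (hβ : β ≠ 0) :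
    FF (m + 2) α β ≤ 2 * Fintype.card K ^ m + 2 * GG (Fintype.card K) m := by
  have := identity2 h2 m hα hβ
  omega

/-- the parameter bound for `mid`. -/
theorem mid_le (h2 : (2 : K) ≠ 0) (m : ℕ) :
    mid (m + 1) (1 : K) (-1) ≤
      (Fintype.card K - 2) * (2 * Fintype.card K ^ m + 2 * GG (Fintype.card K) m) := by
  have h3 : (1 : K) ≠ -1 := by
    intro h
    apply h2
    have : (2 : K) = 1 - (-1) := by ring
    rw [this, ← h]
    simp
  set T₀ : Finset K := ((univ : Finset K).erase 1).erase (-1) with hT₀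
  have hcard : T₀.card = Fintype.card K - 2 := by
    rw [hT₀, card_erase_of_mem (by simp [h3.symm]), card_erase_of_mem (mem_univ _), card_univ]
    omega
  have htm : ∀ t ∈ T₀, t ≠ 1 ∧ t ≠ -1 := by
    intro t ht
    rw [hT₀, mem_erase, mem_erase] at ht
    exact ⟨ht.2.1, ht.1⟩
  have h4 : mid (m + 1) (1 : K) (-1) ≤ ∑ t ∈ T₀, FF (m + 1 + 1) ((1 + t)⁻¹ : K) ((1 - t)⁻¹) := by
    rw [mid]
    simp only [FF]
    rw [Finset.sum_comm]
    refine Finset.sum_le_sum fun x hx => ?_
    split_ifs with hg
    · obtain ⟨⟨hA, hB⟩, hs⟩ := hg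
      set t : K := (vA x)⁻¹ - 1 with ht
      have ht1 : 1 + t = (vA x)⁻¹ := by rw [ht]; ring
      have ht2 : 1 - t = (vB x)⁻¹ := by
        rw [ht]
        have : (vB x)⁻¹ = 2 - (vA x)⁻¹ := by
          rw [← hs]
          field_simp
          ring
        rw [this]
        ring
      have hT : t ∈ T₀ := by
        rw [hT₀, mem_erase, mem_erase]
        refine ⟨?_, ?_, mem_univ _⟩
        · intro h
          rw [h] at ht1
          have : (vA x)⁻¹ = 0 := by rw [← ht1]; ring
          exact inv_ne_zero hA this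
        · intro h
          rw [h] at ht2
          have : (vB x)⁻¹ = 0 := by rw [← ht2]; ring
          exact inv_ne_zero hB this
      have h5 : vA x = (1 + t)⁻¹ ∧ vB x = (1 - t)⁻¹ := by
        rw [ht1, ht2, inv_inv, inv_inv]
        exact ⟨rfl, rfl⟩
      have h6 := Finset.single_le_sum
        (f := fun t => if vA x = (1 + t)⁻¹ ∧ vB x = (1 - t)⁻¹ then wt x else 0)
        (fun _ _ => Nat.zero_le _) hT
      rw [if_pos h5] at h6
      exact h6
    · exact Nat.zero_le _
  refine h4.trans ?_
  rw [← hcard, ← smul_eq_mul]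
  apply Finset.sum_le_card_nsmul
  intro t ht
  obtain ⟨h5, h6⟩ := htm t ht
  apply FF_le h2 m
  · apply inv_ne_zero
    intro h
    apply h6
    have : t = (1 + t) - 1 := by ring
    rw [this, h]
    ring
  · apply inv_ne_zero
    intro h
    apply h5
    have : t = 1 - (1 - t) := by ring
    rw [this, h]
    ring

/-- Lower bound for the class of `X` in degree `m + 3`. -/
theorem two_le_FF (h2 : (2 : K) ≠ 0) (m : ℕ) :
    2 ≤ FF (m + 3) (1 : K) (-1) := by
  have h1 := identity2 h2 (m + 1) (one_ne_zero) (neg_ne_zero.mpr (one_ne_zero (α := K)))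
  have h3 := mid_le h2 m
  rw [GG_succ] at h1
  have hr : 2 ≤ Fintype.card K := Fintype.one_lt_card
  obtain ⟨s, hs⟩ : ∃ s, Fintype.card K = s + 2 := ⟨Fintype.card K - 2, by omega⟩
  rw [hs] at h1 h3
  simp only [Nat.add_sub_cancel] at h3
  set A := (s + 2) ^ m with hA
  set B := GG (s + 2) m with hB
  have h4 : (s + 2) ^ (m + 1) = (s + 2) * A := by rw [pow_succ, mul_comm]
  rw [h4] at h1
  have h5 : m + 1 + 2 = m + 3 := by omega
  rw [h5] at h1
  have h6 : 1 ≤ A := Nat.one_le_pow _ _ (by omega)
  nlinarith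

/-- There is a monic irreducible polynomial of degree `q` with values `1` and `-1` at `±1`. -/
theorem exists_irreducible (h2 : (2 : K) ≠ 0) {q : ℕ} (hq : q.Prime) (hq2 : q ≠ 2)
    (hroot : ∀ c : K, c ^ q = 1 → c = 1) :
    ∃ P : K[X], P.Monic ∧ Irreducible P ∧ P.natDegree = q ∧ P.eval 1 = 1 ∧ P.eval (-1) = -1 := by
  by_contra hno
  push Not at hno
  obtain ⟨m, rfl⟩ : ∃ m, q = m + 3 := ⟨q - 3, by have := hq.two_le; omega⟩
  have h1 := two_le_FF h2 m
  rw [FF, ← Finset.sum_filter] at h1
  have hsub : (PP K (m + 3)).filter (fun x => vA x = 1 ∧ vB x = -1) ⊆ {((X : K[X]), m + 3)} := by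
    intro x hx
    rw [mem_filter, mem_PP] at hx
    obtain ⟨⟨h3, h4, h5, h6⟩, h7, h8⟩ := hx
    rw [mem_singleton]
    have h9 : x.2 ∣ m + 3 := ⟨_, h6.symm⟩
    rcases (Nat.dvd_prime hq).mp h9 with h10 | h10
    · exfalso
      rw [h10, one_mul] at h6
      rw [vA, val, h10, pow_one] at h7
      rw [vB, val, h10, pow_one] at h8
      exact hno x.1 h3 h4 h6 h7 h8
    · have h11 : x.1.natDegree = 1 := by
        rw [h10] at h6
        exact Nat.eq_of_mul_eq_mul_left (by omega) (h6.trans (mul_one _).symm)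
      have h12 := h3.eq_X_add_C h11
      rw [vA, val, eval_pow, h10] at h7
      have h13 := hroot _ h7
      rw [h12] at h13
      simp at h13
      ext1
      · show x.1 = X
        rw [h12, h13]
        simp
      · exact h10
  have h3 := Finset.sum_le_sum_of_subset (f := fun x : K[X] × ℕ => wt x) hsub
  rw [Finset.sum_singleton] at h3
  have h4 : wt ((X : K[X]), m + 3) = 1 := by simp [wt]
  rw [h4] at h3
  exact absurd (h1.trans h3) (by norm_num)

end Cfsg.Agent.Lib.Cl.AppC2
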