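import Mathlib
import Cfsg.Agent.Lib.Cl.AppC
import Cfsg.Agent.Lib.Cl.AppC2

/-!
Appendix C of Bender–Glauberman: there are at least two elements `a` with `N a = N (2 - a) = 1`.
-/

set_option autoImplicit false

namespace Cfsg.Agent.Lib.Cl.AppC3

open Polynomial Module

/-- The norm of `c - root P` is `P c`. -/
theorem norm_sub_root {K : Type*} [Field K] {P : K[X]} (hm : P.Monic) [hi : Fact (Irreducible P)]
    (c : K) :
    Algebra.norm K (algebraMap K (AdjoinRoot P) c - AdjoinRoot.root P) = P.eval c := by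
  classical
  have hP0 : P ≠ 0 := hm.ne_zero
  let pb := AdjoinRoot.powerBasis hP0
  have hgen : pb.gen = AdjoinRoot.root P := AdjoinRoot.powerBasis_gen hP0
  have hmin : minpoly K pb.gen = P := AdjoinRoot.minpoly_powerBasis_gen_of_monic hm hP0
  let M := Algebra.leftMulMatrix pb.basis pb.gen
  have hchar : M.charpoly = P := (charpoly_leftMulMatrix pb).trans hmin
  have h1 := Matrix.eval_charpoly M c
  rw [hchar] at h1
  rw [Algebra.norm_eq_matrix_det pb.basis, h1]
  congr 1
  have h0 : Matrix.scalar (Fin pb.dim) c = algebraMap K (Matrix (Fin pb.dim) (Fin pb.dim) K) c := by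
    ext i j
    simp [Matrix.algebraMap_matrix_apply, Matrix.scalar_apply, Matrix.diagonal_apply]
  rw [map_sub, AlgHom.commutes, h0, ← hgen]

theorem two_le_ncard (p q : ℕ) [Fact p.Prime] [Fact q.Prime] (hp : p ≠ 2) (hq : q ≠ 2)
    (hA : Nat.Coprime ((p ^ q - 1) / (p - 1)) (p - 1)) :
    2 ≤ Set.ncard {a : GaloisField p q |
      Algebra.norm (ZMod p) a = 1 ∧ Algebra.norm (ZMod p) (2 - a) = 1} := by
  have hpp : p.Prime := Fact.out
  have hqq : q.Prime := Fact.out
  have hc := AppC.coprime_of_hA hpp.two_le hA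
  have h20 : (2 : ZMod p) ≠ 0 := by
    intro h
    have h1 : ((2 : ℕ) : ZMod p) = 0 := by exact_mod_cast h
    rw [ZMod.natCast_eq_zero_iff] at h1
    exact hp ((Nat.prime_dvd_prime_iff_eq hpp Nat.prime_two).mp h1)
  obtain ⟨P, hm, hi, hd, h1, h2⟩ := AppC2.exists_irreducible (K := ZMod p) h20 hqq hq
    (fun c hcq => AppC.eq_one_of_pow_eq_one hc hcq hqq.ne_zero)
  haveI : Fact (Irreducible P) := ⟨hi⟩
  have hP0 : P ≠ 0 := hm.ne_zero
  let pb := AdjoinRoot.powerBasis hP0
  haveI : FiniteDimensional (ZMod p) (AdjoinRoot P) := pb.finite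
  have hfin : finrank (ZMod p) (AdjoinRoot P) = q := by
    rw [pb.finrank]
    exact hd
  haveI : Finite (AdjoinRoot P) := Module.finite_of_finite (ZMod p)
  letI : Fintype (AdjoinRoot P) := Fintype.ofFinite _
  letI : Fintype (GaloisField p q) := Fintype.ofFinite _
  have hcard : Fintype.card (AdjoinRoot P) = Fintype.card (GaloisField p q) := by
    rw [← Nat.card_eq_fintype_card, ← Nat.card_eq_fintype_card, GaloisField.card p q hqq.ne_zero,
      Module.natCard_eq_pow_finrank (K := ZMod p), hfin, Nat.card_zmod]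
  let e : AdjoinRoot P ≃ₐ[ZMod p] GaloisField p q := FiniteField.algEquivOfCardEq p hcard
  set x : GaloisField p q := e (AdjoinRoot.root P) with hx
  have hnorm : ∀ c : ZMod p, Algebra.norm (ZMod p) (algebraMap (ZMod p) (GaloisField p q) c - x) =
      P.eval c := by
    intro c
    have h3 : algebraMap (ZMod p) (GaloisField p q) c - x =
        e (algebraMap (ZMod p) (AdjoinRoot P) c - AdjoinRoot.root P) := by
      rw [map_sub e, AlgEquiv.commutes]
    rw [h3, Algebra.norm_eq_of_algEquiv e, norm_sub_root hm c]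
  have hN1 : Algebra.norm (ZMod p) (1 - x) = 1 := by
    have := hnorm 1
    rwa [map_one, h1] at this
  have hodd : Odd q := hqq.odd_of_ne_two hq
  have hN2 : Algebra.norm (ZMod p) (1 + x) = 1 := by
    have h3 := hnorm (-1)
    rw [map_neg, map_one, h2] at h3
    have h4 : (-1 - x : GaloisField p q) = algebraMap (ZMod p) (GaloisField p q) (-1) * (1 + x) := by
      rw [map_neg, map_one]
      ring
    rw [h4, map_mul, Algebra.norm_algebraMap, AppC.finrank_eq, hodd.neg_one_pow] at h3
    linear_combination -h3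
  have hx0 : x ≠ 0 := by
    intro h
    have h3 := hnorm 0
    have h6 : algebraMap (ZMod p) (GaloisField p q) 0 - x = 0 := by
      rw [h]
      simp
    rw [h6, Algebra.norm_zero] at h3
    have h4 := AppC2.eq_of_root hm hi h3.symm
    rw [h4, natDegree_X_sub_C] at hd
    have := hqq.two_le
    omega
  refine (Set.one_lt_ncard_iff (Set.toFinite _)).mpr ⟨1, 1 + x, ?_, ?_, ?_⟩
  · refine ⟨map_one _, ?_⟩
    have : (2 : GaloisField p q) - 1 = 1 := by norm_num
    rw [this, map_one]
  · refine ⟨hN2, ?_⟩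
    have : (2 : GaloisField p q) - (1 + x) = 1 - x := by ring
    rw [this]
    exact hN1
  · intro h
    apply hx0
    have : x = (1 + x) - 1 := by ring
    rw [this, ← h]
    ring

end Cfsg.Agent.Lib.Cl.AppC3
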