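import Mathlib

/-!
# A characteristic critical-type subgroup of a nilpotent group

(Adapted from helper29's `exists_critical`: there the subgroup is normal in an overgroup.)
-/

set_option autoImplicit false

namespace Cfsg.Agent.Lib.Cl

open Subgroup
open scoped commutatorElement

/-- Thompson's critical subgroup lemma, weak form: a finite nilpotent group `P` has a characteristic
subgroup `C` with `[P, C] ≤ Z(C)` and `C_P(C) ≤ C`. -/
theorem exists_char_critical {P : Type*} [Group P] [Finite P] (hnil : Group.IsNilpotent P) :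
    ∃ C : Subgroup P, C.Characteristic ∧
      (∀ r c : P, c ∈ C → ⁅r, c⁆ ∈ C ⊓ centralizer (C : Set P)) ∧
      centralizer (C : Set P) ≤ C := by
  classical
  let S : Set (Subgroup P) := {C | C.Characteristic ∧
      ∀ r c : P, c ∈ C → ⁅r, c⁆ ∈ C ⊓ centralizer (C : Set P)}
  have hbot : (⊥ : Subgroup P) ∈ S := by
    refine ⟨inferInstance, ?_⟩
    intro r c hc
    rw [Subgroup.mem_bot] at hc
    subst hc
    rw [commutatorElement_one_right]
    exact Subgroup.one_mem _
  obtain ⟨C, hC⟩ := Set.Finite.exists_maximal (Set.toFinite S) ⟨⊥, hbot⟩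
  obtain ⟨hCn, hCcomm⟩ := hC.prop
  refine ⟨C, hCn, hCcomm, ?_⟩
  set cen := centralizer (C : Set P) with hcen
  haveI hcenN : cen.Characteristic := inferInstance
  set Z := C ⊓ cen with hZ
  haveI hZch : Z.Characteristic := inferInstance
  have hZn : Z.Normal := inferInstance
  have hDn : cen.Normal := inferInstance
  let T : Subgroup P :=
    { carrier := {c | ∀ r : P, ⁅r, c⁆ ∈ Z}
      one_mem' := fun r => by rw [commutatorElement_one_right]; exact Z.one_mem
      mul_mem' := by
        rintro c d hc' hd'
        intro r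
        have : ⁅r, c * d⁆ = ⁅r, c⁆ * (c * ⁅r, d⁆ * c⁻¹) := by
          simp only [commutatorElement_def]; group
        rw [this]
        exact Z.mul_mem (hc' r) (hZn.conj_mem _ (hd' r) c)
      inv_mem' := by
        rintro c hc'
        intro r
        have : ⁅r, c⁻¹⁆ = c⁻¹ * ⁅r, c⁆⁻¹ * c⁻¹⁻¹ := by
          simp only [commutatorElement_def]; group
        rw [this]
        exact hZn.conj_mem _ (Z.inv_mem (hc' r)) c⁻¹ }
  have hmemT : ∀ c : P, c ∈ T ↔ ∀ r : P, ⁅r, c⁆ ∈ Z := fun c => Iff.rfl
  haveI hTch : T.Characteristic := by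
    rw [characteristic_iff_le_comap]
    intro φ c hc
    rw [Subgroup.mem_comap, hmemT]
    intro r
    have h1 : ⁅r, φ c⁆ = φ ⁅φ.symm r, c⁆ := by
      simp only [commutatorElement_def, map_mul, map_inv, MulEquiv.apply_symm_apply]
    have h2 := (characteristic_iff_le_comap.mp hZch φ) ((hmemT c).mp hc (φ.symm r))
    rw [Subgroup.mem_comap] at h2
    show ⁅r, φ c⁆ ∈ Z
    rw [h1]
    exact h2
  have hCT : C ≤ T := fun c hc r => hCcomm r c hc
  let X : Subgroup P := T ⊓ cen
  haveI hXch : X.Characteristic := inferInstance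
  have hC'S : C ⊔ X ∈ S := by
    refine ⟨inferInstance, ?_⟩
    intro r c hc
    have hC'T : C ⊔ X ≤ T := sup_le hCT inf_le_left
    have h1 : ⁅r, c⁆ ∈ Z := (hC'T hc) r
    refine ⟨le_sup_left (a := C) h1.1, ?_⟩
    -- `Z` centralises `C ⊔ X`
    have h2 : C ⊔ X ≤ centralizer (Z : Set P) := by
      refine sup_le ?_ ?_
      · intro c' hc'
        rw [Subgroup.mem_centralizer_iff]
        intro z hz
        have := (Subgroup.mem_centralizer_iff.1 hz.2) c' hc'
        exact this.symm
      · intro x hx
        rw [Subgroup.mem_centralizer_iff]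
        intro z hz
        exact (Subgroup.mem_centralizer_iff.1 hx.2) z hz.1
    change ⁅r, c⁆ ∈ centralizer _
    rw [Subgroup.mem_centralizer_iff]
    intro y hy
    exact (Subgroup.mem_centralizer_iff.1 (h2 hy) _ h1).symm
  have hXC : X ≤ C := (hC.le_of_ge hC'S le_sup_left).trans' le_sup_right
  -- the descent along the lower central series
  obtain ⟨n, hn⟩ := _root_.nilpotent_iff_lowerCentralSeries.1 hnil
  have key : ∀ m k, k + m = n → ∀ x, x ∈ cen → x ∈ (⊤ : Subgroup P).lowerCentralSeries k → x ∈ Z := by
    intro m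
    induction m with
    | zero =>
      intro k hk x hx hxL
      rw [add_zero] at hk
      rw [hk, hn, Subgroup.mem_bot] at hxL
      rw [hxL]
      exact Z.one_mem
    | succ m ih =>
      intro k hk x hx hxL
      have hT : x ∈ T := by
        intro r
        have h1 : ⁅r, x⁆ ∈ cen := by
          have h2 : r * x * r⁻¹ ∈ cen := hDn.conj_mem x hx r
          rw [commutatorElement_def]
          exact cen.mul_mem h2 (cen.inv_mem hx)
        apply ih (k + 1) (by omega) _ h1
        have h3 : ⁅x, r⁆ ∈ (⊤ : Subgroup P).lowerCentralSeries (k + 1) := by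
          rw [Subgroup.lowerCentralSeries_succ]
          exact Subgroup.commutator_mem_commutator hxL (Subgroup.mem_top _)
        have h4 := Subgroup.inv_mem _ h3
        rw [commutatorElement_inv] at h4
        exact h4
      exact ⟨hXC ⟨hT, hx⟩, hx⟩
  intro x hx
  have := key n 0 (by omega) x hx (by rw [Subgroup.lowerCentralSeries_zero]; exact Subgroup.mem_top _)
  exact this.1

end Cfsg.Agent.Lib.Cl
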