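import Mathlib
import Cfsg.Prelude.Def_FusionSystem
import Cfsg.Prelude.Def_Transfer

set_option autoImplicit false

namespace Cfsg.Agent.Lib.Cl.EssChain

variable {p : ℕ} [hp : Fact p.Prime]

/-- An endomorphism of a group of order dividing `p` whose `p^k`-th iterate is the identity
is the identity. -/
theorem iter_trivial {Q : Type*} [Group Q] [Finite Q] (hQ : Nat.card Q ∣ p) (f : Q →* Q) (k : ℕ)
    (hf : ∀ y, f^[p ^ k] y = y) (y : Q) : f y = y := by
  rcases (Nat.dvd_prime hp.out).1 hQ with h1 | h1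
  · have : Subsingleton Q := (Nat.card_eq_one_iff_unique.1 h1).1
    exact Subsingleton.elim _ _
  have hcyc : IsCyclic Q := isCyclic_of_prime_card (p := p) h1
  obtain ⟨m, hm⟩ := MonoidHom.map_cyclic f
  have hit : ∀ j : ℕ, ∀ g : Q, f^[j] g = g ^ (m ^ j) := by
    intro j
    induction j with
    | zero => intro g; simp
    | succ j ih =>
      intro g
      rw [Function.iterate_succ_apply', ih, hm, pow_succ, zpow_mul]
  have hgp : ∀ g : Q, g ^ p = 1 := fun g => by
    rw [← h1]; exact pow_card_eq_one'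
  have h2 := hf y
  rw [hit] at h2
  have h3 : (p : ℤ) ∣ m ^ (p ^ k) - m := by
    rw [← ZMod.intCast_zmod_eq_zero_iff_dvd]
    push_cast
    rw [ZMod.pow_card_pow, sub_self]
  obtain ⟨t, ht⟩ := h3
  have h4 : m ^ (p ^ k) = m + p * t := by linarith
  rw [h4, zpow_add, zpow_mul, zpow_natCast, hgp, one_zpow, mul_one] at h2
  rw [hm, h2]

/-- A `p`-element acting on a factor of order `p` acts trivially. -/
theorem trivial_on_factor {H : Type*} [Group H] [Finite H] (hP : IsPGroup p H) (K L : Subgroup H)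
    [K.Normal] (hKL : K ≤ L) (hcard : Nat.card L ≤ p * Nat.card K) (α : MulAut H)
    (hαK : ∀ x ∈ K, α x ∈ K) (hαL : ∀ x ∈ L, α x ∈ L) (k : ℕ) (hk : α ^ (p ^ k) = 1) :
    ∀ x ∈ L, x⁻¹ * α x ∈ K := by
  intro x hx
  let K' : Subgroup L := K.subgroupOf L
  let αL : L →* L := ((α : H →* H).comp L.subtype).codRestrict L (fun y => hαL y y.2)
  have hαLc : ∀ y : L, ((αL y : L) : H) = α y := fun y => rfl
  have hK' : K'.map αL ≤ K' := by
    rintro _ ⟨y, hy, rfl⟩
    exact hαK _ hy
  let f : (L ⧸ K') →* (L ⧸ K') := QuotientGroup.map K' K' αL (Subgroup.map_le_iff_le_comap.1 hK')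
  have hfmk : ∀ y : L, f (y : L ⧸ K') = ((αL y : L) : L ⧸ K') := fun y => rfl
  have hmem : ∀ j : ℕ, ∀ y : L, (α ^ j) (y : H) ∈ L := by
    intro j y
    induction j with
    | zero => exact y.2
    | succ j ih =>
      rw [pow_succ', MulAut.mul_apply]
      exact hαL _ ih
  have hit : ∀ j : ℕ, ∀ y : L, f^[j] (y : L ⧸ K') = ((⟨(α ^ j) (y : H), hmem j y⟩ : L) : L ⧸ K') := by
    intro j y
    induction j with
    | zero => rfl
    | succ j ih =>
      rw [Function.iterate_succ_apply', ih, hfmk]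
      congr 1
      apply Subtype.ext
      show α ((α ^ j) (y : H)) = (α ^ (j + 1)) (y : H)
      rw [pow_succ', MulAut.mul_apply]
  have hQ : Nat.card (L ⧸ K') ∣ p := by
    have h1 : Nat.card K' * Nat.card (L ⧸ K') = Nat.card L := by
      rw [← Subgroup.index_eq_card]; exact Subgroup.card_mul_index K'
    have h2 : Nat.card K' = Nat.card K := Nat.card_congr (Subgroup.subgroupOfEquivOfLe hKL).toEquiv
    have hKpos : 0 < Nat.card K := Nat.card_pos
    have h3 : Nat.card (L ⧸ K') ≤ p := by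
      rw [h2] at h1
      rw [← h1, mul_comm] at hcard
      exact Nat.le_of_mul_le_mul_right hcard hKpos
    have hL : IsPGroup p L := hP.to_subgroup L
    have hq : IsPGroup p (L ⧸ K') := hL.to_quotient K'
    obtain ⟨t, ht⟩ := IsPGroup.iff_card.1 hq
    rw [ht] at h3 ⊢
    rcases t with _ | _ | t
    · simp
    · simp
    · exfalso
      have hp2 := hp.out.two_le
      have : p ^ (t + 1 + 1) ≥ p ^ 2 := Nat.pow_le_pow_right (by omega) (by omega)
      nlinarith
  have hiter : ∀ q : L ⧸ K', f^[p ^ k] q = q := by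
    intro q
    obtain ⟨y, rfl⟩ := QuotientGroup.mk_surjective q
    rw [hit]
    congr 1
    apply Subtype.ext
    simp [hk]
  have h5 := iter_trivial hQ f k hiter ((⟨x, hx⟩ : L) : L ⧸ K')
  rw [hfmk, eq_comm, QuotientGroup.eq] at h5
  exact h5

theorem char_mem {H : Type*} [Group H] (K : Subgroup H) [hK : K.Characteristic] (α : MulAut H) {x : H}
    (hx : x ∈ K) : α x ∈ K := by
  have h1 := hK.fixed α
  have h2 : x ∈ K.comap (α.toMonoidHom) := by rw [h1]; exact hx
  exact h2

theorem coprime_step {H : Type*} [Group H] [Finite H] (hP : IsPGroup p H) (K L : Subgroup H) [K.Normal]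
    (β : MulAut H) (hβL : ∀ z ∈ L, β z ∈ L) (hβ : ∀ z ∈ L, z⁻¹ * β z ∈ K) (m : ℕ) (hm : β ^ m = 1)
    (hcop : m.Coprime p) {x : H} (hx : x⁻¹ * β x ∈ L) : x⁻¹ * β x ∈ K := by
  set y := x⁻¹ * β x with hy
  have hβx : β x = x * y := by rw [hy]; group
  let g : H →* H ⧸ K := QuotientGroup.mk' K
  have hgz : ∀ z ∈ L, g (β z) = g z := by
    intro z hz
    have h1 := hβ z hz
    have h2 : g (z⁻¹ * β z) = 1 := by
      rw [← MonoidHom.mem_ker, QuotientGroup.ker_mk']; exact h1
    rw [map_mul, map_inv] at h2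
    exact (inv_mul_eq_one.1 h2).symm
  have h1 : ∀ j : ℕ, ∀ z ∈ L, (β ^ j) z ∈ L ∧ g ((β ^ j) z) = g z := by
    intro j z hz
    induction j with
    | zero => exact ⟨hz, rfl⟩
    | succ j ih =>
      rw [pow_succ', MulAut.mul_apply]
      exact ⟨hβL _ ih.1, by rw [hgz _ ih.1, ih.2]⟩
  have h2 : ∀ j : ℕ, g ((β ^ j) x) = g x * (g y) ^ j := by
    intro j
    induction j with
    | zero => simp
    | succ j ih =>
      rw [pow_succ, MulAut.mul_apply, hβx, map_mul, map_mul, ih, (h1 j y hx).2, pow_succ, mul_assoc]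
  have h3 := h2 m
  rw [hm] at h3
  have h4 : (g y) ^ m = 1 := by
    have : g x = g x * (g y) ^ m := h3
    exact (mul_eq_left.1 this.symm)
  have hQ : IsPGroup p (H ⧸ K) := hP.to_quotient K
  obtain ⟨s, hs⟩ := hQ (g y)
  have h5 : g y = 1 := by
    have hd1 := orderOf_dvd_of_pow_eq_one h4
    have hd2 := orderOf_dvd_of_pow_eq_one hs
    have hcop2 : m.Coprime (p ^ s) := hcop.pow_right s
    have h6 := Nat.eq_one_of_dvd_coprimes hcop2 hd1 hd2
    exact orderOf_eq_one_iff.1 h6
  have h6 : y ∈ g.ker := h5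
  rwa [QuotientGroup.ker_mk'] at h6

/-- The stabiliser in `A` of a chain of characteristic subgroups. -/
def stab {H : Type*} [Group H] (A : Subgroup (MulAut H)) (n : ℕ) (c : ℕ → Subgroup H)
    (hchar : ∀ i, (c i).Characteristic) (hle : ∀ i, i < n → c (i + 1) ≤ c i) : Subgroup A where
  carrier := {a | ∀ i, i < n → ∀ x ∈ c i, x⁻¹ * (a : MulAut H) x ∈ c (i + 1)}
  one_mem' := by
    intro i _ x _
    simp [(c (i + 1)).one_mem]
  mul_mem' := by
    intro a b ha hb i hi x hx
    have h1 := hb i hi x hx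
    have h2 := hle i hi h1
    have h3 : (b : MulAut H) x = x * (x⁻¹ * (b : MulAut H) x) := by group
    have h4 : ((a * b : A) : MulAut H) x = (a : MulAut H) ((b : MulAut H) x) := rfl
    rw [h4, h3, map_mul, ← mul_assoc]
    haveI := hchar (i + 1)
    exact (c (i + 1)).mul_mem (ha i hi x hx) (char_mem _ _ h1)
  inv_mem' := by
    intro a ha i hi x hx
    haveI := hchar i
    haveI := hchar (i + 1)
    have hy : ((a⁻¹ : A) : MulAut H) x ∈ c i := char_mem _ _ hx
    have h1 := ha i hi _ hy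
    have h2 : (a : MulAut H) (((a⁻¹ : A) : MulAut H) x) = x := by
      show ((a * a⁻¹ : A) : MulAut H) x = x
      simp
    rw [h2] at h1
    have h3 := (c (i + 1)).inv_mem h1
    have h4 : ((((a⁻¹ : A) : MulAut H) x)⁻¹ * x)⁻¹ = x⁻¹ * ((a⁻¹ : A) : MulAut H) x := by group
    rw [h4] at h3
    exact h3


theorem stab_normal {H : Type*} [Group H] (A : Subgroup (MulAut H)) (n : ℕ) (c : ℕ → Subgroup H)
    (hchar : ∀ i, (c i).Characteristic) (hle : ∀ i, i < n → c (i + 1) ≤ c i) :
    (stab A n c hchar hle).Normal := by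
  constructor
  intro a ha g i hi x hx
  haveI := hchar i
  haveI := hchar (i + 1)
  have hy : ((g⁻¹ : A) : MulAut H) x ∈ c i := char_mem _ _ hx
  have h1 := ha i hi _ hy
  have h2 := char_mem (c (i + 1)) (g : MulAut H) h1
  have h3 : (g : MulAut H) (((g⁻¹ : A) : MulAut H) x) = x := by
    show ((g * g⁻¹ : A) : MulAut H) x = x
    simp
  rw [map_mul, map_inv, h3] at h2
  exact h2

/-- The main lemma: a `p`-group `H` with a chain of characteristic subgroups whose factors have
order at most `p`, ending at a subgroup `c n` such that every `p'`-automorphism centralising `H / c n` is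
trivial, cannot have `p ∣ |A : A ∩ Inn H|` when normal `p`-subgroups of `A` are inner. -/
theorem no_chain {H : Type*} [Group H] [Finite H] (hP : IsPGroup p H) (A : Subgroup (MulAut H))
    (n : ℕ) (c : ℕ → Subgroup H) (h0 : c 0 = ⊤) (hchar : ∀ i, (c i).Characteristic)
    (hle : ∀ i, i < n → c (i + 1) ≤ c i) (hcard : ∀ i, i < n → Nat.card (c i) ≤ p * Nat.card (c (i + 1)))
    (hburn : ∀ α : MulAut H, (orderOf α).Coprime p → (∀ x, x⁻¹ * α x ∈ c n) → α = 1)
    (hO : ∀ B : Subgroup A, B.Normal → IsPGroup p B → ∀ b ∈ B, (b : MulAut H) ∈ Inn H)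
    (hdvd : p ∣ ((Inn H).subgroupOf A).index) : False := by
  classical
  haveI : Finite (MulAut H) := Finite.of_injective (fun α : MulAut H => (α : H → H)) DFunLike.coe_injective
  have hcm : ∀ i (α : MulAut H) {x : H}, x ∈ c i → α x ∈ c i := by
    intro i α x hx
    haveI := hchar i
    exact char_mem _ _ hx
  haveI hnorm : ∀ i, (c i).Normal := fun i => by
    haveI := hchar i
    exact Subgroup.normal_of_characteristic _
  let B := stab A n c hchar hle
  have hBn : B.Normal := stab_normal A n c hchar hle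
  -- `B` is a `p`-group
  have hBp : IsPGroup p B := by
    rintro ⟨b, hb⟩
    have ho : orderOf (b : MulAut H) ≠ 0 := (orderOf_pos _).ne'
    obtain ⟨e, m, hm, hom⟩ := Nat.exists_eq_pow_mul_and_not_dvd ho p hp.out.ne_one
    refine ⟨e, ?_⟩
    have hbB : b ^ (p ^ e) ∈ B := B.pow_mem hb _
    set β : MulAut H := ((b ^ (p ^ e) : A) : MulAut H) with hβ
    have hβm : β ^ m = 1 := by
      rw [hβ, Subgroup.coe_pow, ← pow_mul, ← hom, pow_orderOf_eq_one]
    have hcop : m.Coprime p := ((Nat.Prime.coprime_iff_not_dvd hp.out).2 hm).symm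
    have hstep : ∀ i, i ≤ n → ∀ x, x⁻¹ * β x ∈ c i := by
      intro i
      induction i with
      | zero => intro _ x; rw [h0]; exact Subgroup.mem_top _
      | succ i ih =>
        intro hi x
        have hin : i < n := hi
        have h1 := ih (by omega) x
        exact coprime_step hP (c (i + 1)) (c i) β (fun z hz => hcm i β hz) (hbB i hin) m hβm hcop h1
    have hβ1 : β = 1 := by
      apply hburn β
      · exact Nat.Coprime.coprime_dvd_left (orderOf_dvd_of_pow_eq_one hβm) hcop
      · exact hstep n le_rfl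
    apply Subtype.ext
    apply Subtype.ext
    simpa [hβ] using hβ1
  -- all `p`-elements of `A` lie in `B`
  have hsyl : ∀ a : A, ∀ k : ℕ, a ^ (p ^ k) = 1 → a ∈ B := by
    intro a k hk i hi x hx
    exact trivial_on_factor hP (c (i + 1)) (c i) (hle i hi) (hcard i hi) a
      (fun y hy => hcm _ _ hy) (fun y hy => hcm _ _ hy) k
      (by rw [← Subgroup.coe_pow, hk]; rfl) x hx
  let P : Sylow p A := default
  have hPB : (P : Subgroup A) ≤ B := by
    intro a ha
    obtain ⟨k, hk⟩ := P.isPGroup' ⟨a, ha⟩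
    exact hsyl a k (congrArg Subtype.val hk)
  have hBI : B ≤ (Inn H).subgroupOf A := fun b hb => Subgroup.mem_subgroupOf.2 (hO B hBn hBp b hb)
  have h1 : ((Inn H).subgroupOf A).index ∣ (P : Subgroup A).index :=
    Subgroup.index_dvd_of_le (hPB.trans hBI)
  exact P.not_dvd_index (hdvd.trans h1)


end Cfsg.Agent.Lib.Cl.EssChain
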