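import Cfsg.Agent.Lib.Cl.EssChain
import Cfsg.Agent.Lib.Amalgam.ResOf
import Cfsg.Agent.Lib.Cl.CycNormal
import Cfsg.Agent.Lib.Transfer.Frat

set_option autoImplicit false

namespace Cfsg.Agent.Lib.Cl.EssCube

open Cfsg.Agent.Lib.Cl.EssChain
open scoped commutatorElement

variable {p : ℕ} [hp : Fact p.Prime]

theorem char_of_forall {H : Type*} [Group H] (K : Subgroup H) (h : ∀ α : MulAut H, ∀ x ∈ K, α x ∈ K) :
    K.Characteristic := by
  rw [Subgroup.characteristic_iff_le_comap]
  intro ϕ x hx
  exact h ϕ x hx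

theorem burn_bot {H : Type*} [Group H] (α : MulAut H) (h : ∀ x, x⁻¹ * α x ∈ (⊥ : Subgroup H)) : α = 1 := by
  apply MulEquiv.ext
  intro x
  have := Subgroup.mem_bot.1 (h x)
  rw [inv_mul_eq_one] at this
  exact this.symm

theorem no_chain3 {H : Type*} [Group H] [Finite H] (hP : IsPGroup p H) (A : Subgroup (MulAut H))
    (L M K : Subgroup H) (hL : L.Characteristic) (hM : M.Characteristic) (hK : K.Characteristic)
    (hLM : M ≤ L) (hMK : K ≤ M) (c1 : Nat.card H ≤ p * Nat.card L) (c2 : Nat.card L ≤ p * Nat.card M)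
    (c3 : Nat.card M ≤ p * Nat.card K)
    (hburn : ∀ α : MulAut H, (orderOf α).Coprime p → (∀ x, x⁻¹ * α x ∈ K) → α = 1)
    (hO : ∀ B : Subgroup A, B.Normal → IsPGroup p B → ∀ b ∈ B, (b : MulAut H) ∈ Inn H)
    (hdvd : p ∣ ((Inn H).subgroupOf A).index) : False := by
  let c : ℕ → Subgroup H := fun i => match i with
    | 0 => ⊤
    | 1 => L
    | 2 => M
    | _ => K
  refine no_chain hP A 3 c rfl ?_ ?_ ?_ hburn hO hdvd
  · intro i
    match i with
    | 0 => exact Subgroup.topCharacteristic
    | 1 => exact hL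
    | 2 => exact hM
    | (_ + 3) => exact hK
  · intro i hi
    match i, hi with
    | 0, _ => exact le_top
    | 1, _ => exact hLM
    | 2, _ => exact hMK
  · intro i hi
    match i, hi with
    | 0, _ =>
      show Nat.card (⊤ : Subgroup H) ≤ p * Nat.card L
      rw [Subgroup.card_top]; exact c1
    | 1, _ => exact c2
    | 2, _ => exact c3

/-- Non-elementary abelian groups of order `p³`. -/
theorem abelian_cube {H : Type*} [CommGroup H] [Finite H] (hcard : Nat.card H = p ^ 3)
    (A : Subgroup (MulAut H))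
    (hO : ∀ B : Subgroup A, B.Normal → IsPGroup p B → ∀ b ∈ B, (b : MulAut H) ∈ Inn H)
    (hdvd : p ∣ ((Inn H).subgroupOf A).index) : ∀ x : H, x ^ p = 1 := by
  by_contra hne
  push Not at hne
  obtain ⟨x, hx⟩ := hne
  have hpp := hp.out
  have hP : IsPGroup p H := IsPGroup.of_card hcard
  set f : H →* H := powMonoidHom p with hf
  have hmul : Nat.card f.ker * Nat.card f.range = p ^ 3 := by
    rw [← Subgroup.index_ker, Subgroup.card_mul_index, hcard]
  obtain ⟨s, -, hs⟩ := (Nat.dvd_prime_pow hpp).1 (Dvd.intro _ hmul)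
  obtain ⟨t, -, ht⟩ := (Nat.dvd_prime_pow hpp).1 (Dvd.intro_left _ hmul)
  have hst : s + t = 3 := by
    rw [hs, ht, ← pow_add] at hmul
    exact Nat.pow_right_injective hpp.two_le hmul
  have ht0 : t ≠ 0 := by
    rintro rfl
    rw [pow_zero] at ht
    have h1 : f.range = ⊥ := Subgroup.eq_bot_of_card_eq _ ht
    have h2 : f x ∈ f.range := ⟨x, rfl⟩
    rw [h1] at h2
    exact hx (Subgroup.mem_bot.1 h2)
  have hs0 : s ≠ 0 := by
    rintro rfl
    rw [pow_zero] at hs
    have h1 : f.ker = ⊥ := Subgroup.eq_bot_of_card_eq _ hs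
    obtain ⟨w, hw⟩ := exists_prime_orderOf_dvd_card' (G := H) p (by rw [hcard]; exact dvd_pow_self _ (by norm_num))
    have h2 : w ∈ f.ker := by
      show w ^ p = 1
      rw [← hw]; exact pow_orderOf_eq_one w
    rw [h1, Subgroup.mem_bot] at h2
    rw [h2, orderOf_one] at hw
    exact hpp.one_lt.ne hw
  have hcR : f.range.Characteristic := char_of_forall _ (by
    rintro α _ ⟨y, rfl⟩
    exact ⟨α y, by simp [hf, map_pow]⟩)
  have hcK : f.ker.Characteristic := char_of_forall _ (by
    intro α y hy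
    have h1 : y ^ p = 1 := hy
    show (α y) ^ p = 1
    rw [← map_pow, h1, map_one])
  have hp3 : p ^ 3 = p * p ^ 2 := by ring
  have hp2 : p ^ 2 = p * p := by ring
  have hbot : Nat.card (⊥ : Subgroup H) = 1 := Subgroup.card_bot
  obtain h1 | h2 : t = 1 ∨ t = 2 := by omega
  · -- `|℧| = p`: chain `H > Ω > ℧ > 1`
    have hs2 : s = 2 := by omega
    subst h1 hs2
    have hRK : f.range ≤ f.ker := by
      rintro _ ⟨y, rfl⟩
      have h3 : (⟨f y, ⟨y, rfl⟩⟩ : f.range) ^ Nat.card f.range = 1 := pow_card_eq_one'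
      rw [ht, pow_one] at h3
      have h4 := congrArg Subtype.val h3
      exact h4
    refine no_chain3 hP A f.ker f.range ⊥ hcK hcR Subgroup.botCharacteristic hRK bot_le ?_ ?_ ?_ ?_ hO hdvd
    · rw [hcard, hs, hp3]
    · rw [hs, ht, hp2, pow_one]
    · rw [ht, hbot]; simp
    · exact fun α _ h => burn_bot α h
  · -- `|℧| = p²`: chain `H > ℧ > Ω > 1`
    have hs1 : s = 1 := by omega
    subst h2 hs1
    have hKR : f.ker ≤ f.range := by
      obtain ⟨w, hw⟩ := exists_prime_orderOf_dvd_card' (G := f.range) p (by rw [ht]; exact dvd_pow_self _ (by norm_num))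
      have hw1 : (w : H) ∈ f.ker := by
        show (w : H) ^ p = 1
        have h3 : orderOf (w : H) = p := by rw [Subgroup.orderOf_coe, hw]
        rw [← h3]; exact pow_orderOf_eq_one _
      have h4 : Subgroup.zpowers (w : H) ≤ f.ker := by rw [Subgroup.zpowers_le]; exact hw1
      have h5 : Subgroup.zpowers (w : H) = f.ker := by
        apply Subgroup.eq_of_le_of_card_ge h4
        rw [Nat.card_zpowers, Subgroup.orderOf_coe, hw, hs, pow_one]
      rw [← h5, Subgroup.zpowers_le]
      exact w.2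
    refine no_chain3 hP A f.range f.ker ⊥ hcR hcK Subgroup.botCharacteristic hKR bot_le ?_ ?_ ?_ ?_ hO hdvd
    · rw [hcard, ht, hp3]
    · rw [ht, hs, hp2, pow_one]
    · rw [hs, hbot]; simp
    · exact fun α _ h => burn_bot α h

/-- A nonabelian group of order `8` is quaternion or has a characteristic cyclic subgroup of order `4`. -/
theorem order8_cases {H : Type*} [Group H] [Finite H] (hcard : Nat.card H = 8)
    (hna : ¬ ∀ a b : H, a * b = b * a) :
    Nonempty (H ≃* QuaternionGroup 2) ∨ ∃ c : H, orderOf c = 4 ∧ (∀ α : MulAut H, α c ∈ Subgroup.zpowers c) ∧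
      ∀ b : H, b ∉ Subgroup.zpowers c → b ^ 2 = 1 := by
  classical
  have h2 : ∀ c : H, c ^ 2 ≠ 1 → orderOf c = 4 := by
    intro c hc
    have h1 : orderOf c ∣ 2 ^ 3 := by rw [show (2 : ℕ) ^ 3 = 8 from rfl, ← hcard]; exact orderOf_dvd_natCard c
    obtain ⟨k, hk, hkc⟩ := (Nat.dvd_prime_pow Nat.prime_two).1 h1
    interval_cases k
    · exact absurd (by rw [← orderOf_dvd_iff_pow_eq_one, hkc]; norm_num) hc
    · exact absurd (by rw [← orderOf_dvd_iff_pow_eq_one, hkc]; norm_num) hc
    · simpa using hkc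
    · exfalso
      have h3 : orderOf c = Nat.card H := by rw [hkc, hcard]; rfl
      have hcyc : IsCyclic H := isCyclic_of_orderOf_eq_card c h3
      exact hna (fun a b => hcyc.isMulCommutative.is_comm.comm a b)
  obtain ⟨c, hc⟩ : ∃ c : H, c ^ 2 ≠ 1 := by
    by_contra hall
    push Not at hall
    apply hna
    intro a b
    have e : a * b * (a * b) = 1 := by simpa [pow_two] using hall (a * b)
    have ea : a * a = 1 := by simpa [pow_two] using hall a
    have eb : b * b = 1 := by simpa [pow_two] using hall b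
    have e1 := eq_inv_of_mul_eq_one_left e
    rw [mul_inv_rev, inv_eq_of_mul_eq_one_left ea, inv_eq_of_mul_eq_one_left eb] at e1
    exact e1
  have ho := h2 c hc
  let L := Subgroup.zpowers c
  have hLc : Nat.card L = 4 := by rw [Nat.card_zpowers, ho]
  have hLi : L.index = 2 := by
    have := Subgroup.card_mul_index L
    rw [hLc, hcard] at this
    omega
  haveI hLn : L.Normal := Subgroup.normal_of_index_eq_two hLi
  have hcL : c ∈ L := Subgroup.mem_zpowers c
  have hpowL : ∀ y ∈ L, ∃ k < 4, c ^ k = y := by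
    intro y hy
    obtain ⟨k, hk⟩ := (mem_powers_iff_mem_zpowers).2 hy
    refine ⟨k % 4, Nat.mod_lt _ (by norm_num), ?_⟩
    rw [← ho, pow_mod_orderOf]
    exact hk
  have hc4 : c ^ 4 = 1 := by rw [← ho]; exact pow_orderOf_eq_one c
  by_cases hb : ∃ b : H, b ∉ L ∧ b ^ 2 ≠ 1
  · obtain ⟨b, hbL, hb2⟩ := hb
    left
    -- `b` does not centralise `c`
    have hconj : b * c * b⁻¹ ∈ L := hLn.conj_mem c hcL b
    obtain ⟨k, hk, hkc⟩ := hpowL _ hconj
    have hb4 := h2 b hb2
    have hsq : b ^ 2 ∈ L := Subgroup.sq_mem_of_index_two hLi b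
    obtain ⟨j, hj, hjc⟩ := hpowL _ hsq
    have hb4' : b ^ 4 = 1 := by rw [← hb4]; exact pow_orderOf_eq_one b
    have hbc : b ^ 2 = c ^ 2 := by
      interval_cases j
      · exact absurd hjc.symm (by simpa using hb2)
      · exfalso
        have : c ^ 2 = 1 := by
          have h3 : (b ^ 2) ^ 2 = 1 := by rw [← pow_mul]; exact hb4'
          rw [← hjc, ← pow_mul] at h3
          simpa using h3
        exact hc this
      · exact hjc.symm
      · exfalso
        have h3 : (b ^ 2) ^ 2 = 1 := by rw [← pow_mul]; exact hb4'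
        rw [← hjc, ← pow_mul, show 3 * 2 = 4 + 2 from rfl, pow_add, hc4, one_mul] at h3
        exact hc h3
    have hcases : b * c * b⁻¹ = c ∨ b * c * b⁻¹ = c⁻¹ := by
      interval_cases k
      · exfalso
        rw [pow_zero] at hkc
        have : c = 1 := by
          have h3 : b⁻¹ * (b * c * b⁻¹) * b = 1 := by rw [← hkc]; group
          simpa [mul_assoc] using h3
        rw [this] at hc
        exact hc (one_pow _)
      · left; rw [← hkc, pow_one]
      · exfalso
        have h3 : (b * c * b⁻¹) ^ 2 = 1 := by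
          rw [← hkc, ← pow_mul]; exact hc4
        rw [conj_pow] at h3
        have : c ^ 2 = 1 := by
          have h4 : b⁻¹ * (b * c ^ 2 * b⁻¹) * b = 1 := by rw [h3]; group
          simpa [mul_assoc] using h4
        exact hc this
      · right
        rw [← hkc]
        apply eq_inv_of_mul_eq_one_left
        rw [← pow_succ]; exact hc4
    rcases hcases with hcomm | hinv
    · exfalso
      apply hna
      have hcc : ∀ g : H, g * c = c * g := by
        intro g
        by_cases hg : g ∈ L
        · obtain ⟨k, -, rfl⟩ := hpowL g hg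
          exact ((Commute.refl c).pow_left k).eq
        · have hgb : g * b ∈ L := (Subgroup.mul_mem_iff_of_index_two hLi).2 (by simp [hg, hbL])
          obtain ⟨k, -, hk⟩ := hpowL _ hgb
          have hg' : g = c ^ k * b⁻¹ := by rw [hk]; group
          have hbcc : Commute b c := by
            show b * c = c * b
            have := congrArg (· * b) hcomm
            simpa [mul_assoc] using this
          have : Commute (c ^ k * b⁻¹) c := ((Commute.refl c).pow_left k).mul_left hbcc.inv_left
          rw [hg']; exact this.eq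
      have hLZ : L ≤ Subgroup.center H := by
        rw [Subgroup.zpowers_le, Subgroup.mem_center_iff]
        exact hcc
      have hQ : Nat.card (H ⧸ L) = 2 := by rw [← Subgroup.index_eq_card]; exact hLi
      haveI : Fact (Nat.Prime 2) := ⟨Nat.prime_two⟩
      have hcyc : IsCyclic (H ⧸ L) := isCyclic_of_prime_card (p := 2) hQ
      exact (MonoidHom.isMulCommutative_of_isCyclic_of_ker_le_center (QuotientGroup.mk' L) (by rw [QuotientGroup.ker_mk']; exact hLZ)).is_comm.comm
    · obtain ⟨m, ⟨e⟩⟩ := Cfsg.Agent.Lib.Cl.quaternion_of_inverts (n := 2) (by rw [ho]; rfl) (by norm_num)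
        (by rw [hcard]; rfl) hbL (by simpa using hbc) hinv
      have h4 : Nat.card (QuaternionGroup m) = 8 := by rw [← Nat.card_congr e.toEquiv, hcard]
      have hm : m = 2 := by
        by_cases hm0 : m = 0
        · subst hm0
          haveI : Infinite (QuaternionGroup 0) := by
            exact Infinite.of_injective (fun i : ZMod 0 => QuaternionGroup.a i) (fun i j h => by simpa using h)
          rw [Nat.card_eq_zero_of_infinite] at h4
          omega
        · haveI : NeZero m := ⟨hm0⟩
          rw [Nat.card_eq_fintype_card, QuaternionGroup.card] at h4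
          omega
      subst hm
      exact ⟨e⟩
  · push Not at hb
    right
    refine ⟨c, ho, fun α => ?_, hb⟩
    by_contra hα
    have h3 := hb _ hα
    rw [← map_pow] at h3
    have h4 : α (c ^ 2) = α 1 := by rw [h3, map_one]
    exact hc (α.injective h4)


/-- The dihedral case: no chain. -/
theorem no_dihedral {H : Type*} [Group H] [Finite H] [Fact (Nat.Prime 2)] (hcard : Nat.card H = 8) (A : Subgroup (MulAut H))
    (hO : ∀ B : Subgroup A, B.Normal → IsPGroup 2 B → ∀ b ∈ B, (b : MulAut H) ∈ Inn H)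
    (hdvd : 2 ∣ ((Inn H).subgroupOf A).index) (c : H) (ho : orderOf c = 4)
    (hc : ∀ α : MulAut H, α c ∈ Subgroup.zpowers c) : False := by
  have hP : IsPGroup 2 H := IsPGroup.of_card (n := 3) (by rw [hcard]; rfl)
  have hcL : (Subgroup.zpowers c).Characteristic := char_of_forall _ (by
    rintro α _ ⟨k, rfl⟩
    show α (c ^ k) ∈ _
    rw [map_zpow]
    exact Subgroup.zpow_mem _ (hc α) k)
  have hcM : (Subgroup.zpowers (c ^ 2)).Characteristic := char_of_forall _ (by
    rintro α _ ⟨k, rfl⟩
    show α ((c ^ 2) ^ k) ∈ _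
    rw [map_zpow, map_pow]
    obtain ⟨j, hj⟩ := Subgroup.mem_zpowers_iff.1 (hc α)
    apply Subgroup.zpow_mem
    rw [← hj, show (c ^ j) ^ 2 = (c ^ 2) ^ j by
      rw [← zpow_natCast, ← zpow_natCast, ← zpow_mul, ← zpow_mul, mul_comm]]
    exact Subgroup.zpow_mem _ (Subgroup.mem_zpowers _) _)
  have hML : Subgroup.zpowers (c ^ 2) ≤ Subgroup.zpowers c := by
    rw [Subgroup.zpowers_le]
    exact Subgroup.pow_mem _ (Subgroup.mem_zpowers c) 2
  have hcardM : Nat.card (Subgroup.zpowers (c ^ 2)) = 2 := by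
    rw [Nat.card_zpowers, orderOf_pow_of_dvd (by norm_num) (by rw [ho]; norm_num), ho]
  refine no_chain3 hP A _ _ ⊥ hcL hcM Subgroup.botCharacteristic hML bot_le ?_ ?_ ?_ (fun α _ h => burn_bot α h) hO hdvd
  · rw [hcard, Nat.card_zpowers, ho]
  · rw [Nat.card_zpowers, ho, hcardM]
  · rw [hcardM, Subgroup.card_bot]

/-- Basic facts on nonabelian groups of order `p³`. -/
theorem nonab_cube {H : Type*} [Group H] [Finite H] (hcard : Nat.card H = p ^ 3)
    (hna : ¬ ∀ a b : H, a * b = b * a) :
    Nat.card (Subgroup.center H) = p ∧ (∀ a b : H, ⁅a, b⁆ ∈ Subgroup.center H) ∧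
      (∀ a : H, a ^ p ∈ Subgroup.center H) ∧ commutator H = Subgroup.center H ∧
      frattini H = Subgroup.center H := by
  classical
  have hpp := hp.out
  have hP : IsPGroup p H := IsPGroup.of_card hcard
  haveI : Nontrivial H := by
    apply Finite.one_lt_card_iff_nontrivial.1
    rw [hcard]
    exact Nat.one_lt_pow (by norm_num) hpp.one_lt
  set Z := Subgroup.center H with hZ
  have hQcomm : ∀ q : H ⧸ Z, ¬ IsCyclic (H ⧸ Z) := fun _ hc => hna (fun a b =>
    (MonoidHom.isMulCommutative_of_isCyclic_of_ker_le_center (QuotientGroup.mk' Z) (by rw [QuotientGroup.ker_mk'])).is_comm.comm a b)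
  have hnc : ¬ IsCyclic (H ⧸ Z) := hQcomm 1
  have hmul : Nat.card Z * Nat.card (H ⧸ Z) = p ^ 3 := by
    rw [← Subgroup.index_eq_card, Subgroup.card_mul_index, hcard]
  obtain ⟨t, -, ht⟩ := (Nat.dvd_prime_pow hpp).1 (Dvd.intro _ hmul)
  obtain ⟨s, -, hs⟩ := (Nat.dvd_prime_pow hpp).1 (Dvd.intro_left _ hmul)
  have hst : t + s = 3 := by
    rw [ht, hs, ← pow_add] at hmul
    exact Nat.pow_right_injective hpp.two_le hmul
  have ht0 : t ≠ 0 := by
    rintro rfl
    have hn := hP.center_nontrivial
    have := Finite.one_lt_card (α := Z)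
    rw [ht] at this
    simp at this
  have hs01 : s ≠ 0 ∧ s ≠ 1 := by
    constructor
    · rintro rfl
      apply hnc
      rw [pow_zero] at hs
      have : Subsingleton (H ⧸ Z) := (Nat.card_eq_one_iff_unique.1 hs).1
      infer_instance
    · rintro rfl
      apply hnc
      rw [pow_one] at hs
      exact isCyclic_of_prime_card (p := p) hs
  have ht1 : t = 1 := by omega
  have hs2 : s = 2 := by omega
  subst ht1 hs2
  have hZc : Nat.card Z = p := by rw [ht, pow_one]
  have hQab := IsPGroup.isMulCommutative_of_card_eq_prime_sq (p := p) (G := H ⧸ Z) hs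
  have hcomm : ∀ a b : H, ⁅a, b⁆ ∈ Z := by
    intro a b
    rw [← QuotientGroup.eq_one_iff, commutatorElement_def]
    simp only [QuotientGroup.mk_mul, QuotientGroup.mk_inv]
    rw [hQab.is_comm.comm (a : H ⧸ Z) (b : H ⧸ Z)]
    group
  have hpow : ∀ a : H, a ^ p ∈ Z := by
    intro a
    rw [← QuotientGroup.eq_one_iff, QuotientGroup.mk_pow]
    have h1 : orderOf (a : H ⧸ Z) ∣ p ^ 2 := by rw [← hs]; exact orderOf_dvd_natCard _
    obtain ⟨k, hk, hkc⟩ := (Nat.dvd_prime_pow hpp).1 h1
    have hk2 : k ≠ 2 := by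
      rintro rfl
      exact hnc (isCyclic_of_orderOf_eq_card (a : H ⧸ Z) (by rw [hkc, hs]))
    have hk1 : k ≤ 1 := by omega
    rw [← orderOf_dvd_iff_pow_eq_one, hkc]
    exact (pow_dvd_pow p hk1).trans (by simp)
  have hcZ : commutator H ≤ Z := by
    rw [commutator_def, Subgroup.commutator_le]
    intro a _ b _
    exact hcomm a b
  have hcne : commutator H ≠ ⊥ := by
    intro h
    apply hna
    intro a b
    have h1 : ⁅a, b⁆ ∈ commutator H := Subgroup.commutator_mem_commutator (Subgroup.mem_top a) (Subgroup.mem_top b)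
    rw [h, Subgroup.mem_bot] at h1
    exact commutatorElement_eq_one_iff_mul_comm.1 h1
  have hcard1 : commutator H = Z := by
    apply Subgroup.eq_of_le_of_card_ge hcZ
    have hd : Nat.card (commutator H) ∣ Nat.card Z := Subgroup.card_dvd_of_le hcZ
    rw [hZc] at hd ⊢
    rcases (Nat.dvd_prime hpp).1 hd with h1 | h1
    · exact absurd (Subgroup.eq_bot_of_card_eq _ h1) hcne
    · exact h1.ge
  refine ⟨hZc, hcomm, hpow, hcard1, le_antisymm ?_ ?_⟩
  · exact Cfsg.Agent.Lib.Amalgam.frattini_le_of_elementary_quotient Z hcomm hpow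
  · rw [← hcard1]
    exact Cfsg.Agent.Lib.Transfer.commutator_le_frattini hP

/-- For odd `p`, a nonabelian group of order `p³` of exponent `p²` is not essential. -/
theorem odd_nonab {H : Type*} [Group H] [Finite H] (hodd : p ≠ 2) (hcard : Nat.card H = p ^ 3)
    (hna : ¬ ∀ a b : H, a * b = b * a) (A : Subgroup (MulAut H))
    (hO : ∀ B : Subgroup A, B.Normal → IsPGroup p B → ∀ b ∈ B, (b : MulAut H) ∈ Inn H)
    (hdvd : p ∣ ((Inn H).subgroupOf A).index) : ∀ x : H, x ^ p = 1 := by
  by_contra hne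
  push Not at hne
  obtain ⟨x, hx⟩ := hne
  have hpp := hp.out
  have hP : IsPGroup p H := IsPGroup.of_card hcard
  obtain ⟨hZc, hcomm, hpow, -, -⟩ := nonab_cube hcard hna
  set Z := Subgroup.center H with hZ
  have hZp : ∀ z ∈ Z, z ^ p = 1 := by
    intro z hz
    have h3 : (⟨z, hz⟩ : Z) ^ Nat.card Z = 1 := pow_card_eq_one'
    rw [hZc] at h3
    exact congrArg Subtype.val h3
  have hcen : ∀ z ∈ Z, ∀ y : H, Commute z y := fun z hz y =>
    (Subgroup.mem_center_iff.1 hz y).symm
  let f : H →* H := MonoidHom.mk' (fun y => y ^ p) (by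
    intro a b
    have hc := hcomm b a
    rw [Cfsg.Agent.Lib.Transfer.mul_pow_class2 (hcen _ hc a) (hcen _ hc b)]
    have h2 : 2 < p := lt_of_le_of_ne hpp.two_le (Ne.symm hodd)
    obtain ⟨k, hk⟩ := hpp.dvd_choose_self (by norm_num : (2 : ℕ) ≠ 0) h2
    rw [hk, pow_mul, hZp _ hc, one_pow, mul_one])
  have hfy : ∀ y, f y = y ^ p := fun _ => rfl
  have hmul : Nat.card f.ker * Nat.card f.range = p ^ 3 := by
    rw [← Subgroup.index_ker, Subgroup.card_mul_index, hcard]
  have hRZ : f.range ≤ Z := by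
    rintro _ ⟨y, rfl⟩
    exact hpow y
  have hRc : Nat.card f.range = p := by
    have hd : Nat.card f.range ∣ Nat.card Z := Subgroup.card_dvd_of_le hRZ
    rw [hZc] at hd
    rcases (Nat.dvd_prime hpp).1 hd with h1 | h1
    · have h2 := Subgroup.eq_bot_of_card_eq _ h1
      have h3 : f x ∈ f.range := ⟨x, rfl⟩
      rw [h2] at h3
      exact absurd (Subgroup.mem_bot.1 h3) hx
    · exact h1
  have hKc : Nat.card f.ker = p ^ 2 := by
    rw [hRc, show p ^ 3 = p ^ 2 * p by ring] at hmul
    exact Nat.eq_of_mul_eq_mul_right hpp.pos hmul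
  have hcK : f.ker.Characteristic := char_of_forall _ (by
    intro α y hy
    have h1 : y ^ p = 1 := hy
    show (α y) ^ p = 1
    rw [← map_pow, h1, map_one])
  have hZK : Z ≤ f.ker := fun z hz => hZp z hz
  refine no_chain3 hP A f.ker Z ⊥ hcK Subgroup.centerCharacteristic Subgroup.botCharacteristic hZK bot_le
    ?_ ?_ ?_ (fun α _ h => burn_bot α h) hO hdvd
  · rw [hcard, hKc]; exact (by ring : p ^ 3 = p * p ^ 2).le
  · rw [hKc, hZc]; exact (by ring : p ^ 2 = p * p).le
  · rw [hZc, Subgroup.card_bot]; simp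

/-- The classification of essential groups of order `p³`. -/
theorem cube_main {H : Type*} [Group H] [Finite H] (hcard : Nat.card H = p ^ 3) (A : Subgroup (MulAut H))
    (hO : ∀ B : Subgroup A, B.Normal → IsPGroup p B → ∀ b ∈ B, (b : MulAut H) ∈ Inn H)
    (hdvd : p ∣ ((Inn H).subgroupOf A).index) :
    ((∀ a b : H, a * b = b * a) ∧ ∀ x : H, x ^ p = 1) ∨
      (Odd p ∧ Cfsg.IsExtraspecial p H ∧ ∀ x : H, x ^ p = 1) ∨
      (p = 2 ∧ Nonempty (H ≃* QuaternionGroup 2)) := by
  by_cases hab : ∀ a b : H, a * b = b * a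
  · left
    refine ⟨hab, ?_⟩
    letI : CommGroup H := { (inferInstance : Group H) with mul_comm := hab }
    exact abelian_cube hcard A hO hdvd
  · by_cases hp2 : p = 2
    · subst hp2
      right; right
      refine ⟨rfl, ?_⟩
      rcases order8_cases (H := H) (by rw [hcard]; rfl) hab with h1 | ⟨c, ho, hc, -⟩
      · exact h1
      · exact (no_dihedral (by rw [hcard]; rfl) A hO hdvd c ho hc).elim
    · right; left
      refine ⟨hp.out.odd_of_ne_two hp2, ?_, odd_nonab hp2 hcard hab A hO hdvd⟩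
      obtain ⟨hZc, -, -, h1, h2⟩ := nonab_cube hcard hab
      exact ⟨⟨IsPGroup.of_card hcard, h2, h1⟩, hZc⟩


end Cfsg.Agent.Lib.Cl.EssCube
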