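import Mathlib
import Cfsg.Agent.Lib.Fusion.Radical

set_option autoImplicit false
universe u

namespace Cfsg.Agent.Lib.Cl.EssData

open Cfsg

variable {p : ℕ} [hp : Fact p.Prime] {Ω : Type u} [Group Ω] {S : Subgroup Ω} [Finite S]

/-- What we use of an essential subgroup. -/
theorem data (hS : IsPGroup p S) (F : Cfsg.FusionSystem S) {H : Subgroup Ω} (hH : F.IsEssential p H) :
    H ≤ S ∧
    (∀ B : Subgroup (F.autGroup H), B.Normal → IsPGroup p B → ∀ b ∈ B, (b : MulAut H) ∈ Inn H) ∧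
    p ∣ ((Inn H).subgroupOf (F.autGroup H)).index := by
  classical
  have hHS : H ≤ S := hH.1.1
  haveI : Finite (F.autGroup H) := Cfsg.Agent.Lib.Fusion.finite_autGroup F hHS
  have hrad := Cfsg.Agent.Lib.Fusion.isRadical_of_essential hS hH
  refine ⟨hHS, ?_, ?_⟩
  · intro B hB hBP b hb
    rw [← hrad.2]
    exact ⟨b, Cfsg.Agent.Lib.Core.le_pCore hB hBP hb, rfl⟩
  · obtain ⟨-, -, hN, Y, hY⟩ := hH
    have := hY.1
    rwa [← Subgroup.index_eq_card] at this

end Cfsg.Agent.Lib.Cl.EssData
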