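import Cfsg.Agent.Lib.Cl.EssRank2
import Cfsg.Agent.Lib.PGroup.ClassTwo

set_option autoImplicit false

namespace Cfsg.Agent.Lib.Cl.EssFour

open Cfsg.Agent.Lib.Cl.EssChain Cfsg.Agent.Lib.Cl.EssCube Cfsg.Agent.Lib.Cl.EssRank2
open scoped commutatorElement

variable {p : ℕ} [hp : Fact p.Prime]

theorem no_chain4 {H : Type*} [Group H] [Finite H] (hP : IsPGroup p H) (A : Subgroup (MulAut H))
    (L M K : Subgroup H) (hL : L.Characteristic) (hM : M.Characteristic) (hK : K.Characteristic)
    (hLM : M ≤ L) (hMK : K ≤ M) (c1 : Nat.card H ≤ p * Nat.card L) (c2 : Nat.card L ≤ p * Nat.card M)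
    (c3 : Nat.card M ≤ p * Nat.card K) (c4 : Nat.card K ≤ p)
    (hO : ∀ B : Subgroup A, B.Normal → IsPGroup p B → ∀ b ∈ B, (b : MulAut H) ∈ Inn H)
    (hdvd : p ∣ ((Inn H).subgroupOf A).index) : False := by
  let c : ℕ → Subgroup H := fun i => match i with
    | 0 => ⊤
    | 1 => L
    | 2 => M
    | 3 => K
    | _ => ⊥
  refine no_chain hP A 4 c rfl ?_ ?_ ?_ (fun α _ h => burn_bot α h) hO hdvd
  · intro i
    match i with
    | 0 => exact Subgroup.topCharacteristic
    | 1 => exact hL
    | 2 => exact hM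
    | 3 => exact hK
    | (_ + 4) => exact Subgroup.botCharacteristic
  · intro i hi
    match i, hi with
    | 0, _ => exact le_top
    | 1, _ => exact hLM
    | 2, _ => exact hMK
    | 3, _ => exact bot_le
  · intro i hi
    match i, hi with
    | 0, _ =>
      show Nat.card (⊤ : Subgroup H) ≤ p * Nat.card L
      rw [Subgroup.card_top]; exact c1
    | 1, _ => exact c2
    | 2, _ => exact c3
    | 3, _ =>
      show Nat.card K ≤ p * Nat.card (⊥ : Subgroup H)
      rw [Subgroup.card_bot, mul_one]; exact c4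

theorem card_mul_relIndex_of_le {H : Type*} [Group H] {K L : Subgroup H} (hKL : K ≤ L) :
    Nat.card K * K.relIndex L = Nat.card L := by
  have h1 := Subgroup.card_mul_index (K.subgroupOf L)
  have h2 : Nat.card (K.subgroupOf L) = Nat.card K :=
    Nat.card_congr (Subgroup.subgroupOfEquivOfLe hKL).toEquiv
  rw [h2] at h1
  exact h1

/-- The additive hom from `ZMod n` given an element of order dividing `n`. -/
noncomputable def zmodAddHom {H : Type*} [Group H] (n : ℕ) (x : H) (hx : x ^ n = 1) : ZMod n →+ Additive H :=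
  ZMod.lift n ⟨zmultiplesHom (Additive H) (Additive.ofMul x), by
    rw [zmultiplesHom_apply, natCast_zsmul, ← ofMul_pow, hx]; rfl⟩

theorem zmodAddHom_natCast {H : Type*} [Group H] (n : ℕ) (x : H) (hx : x ^ n = 1) (i : ℕ) :
    zmodAddHom n x hx (i : ZMod n) = Additive.ofMul (x ^ i) := by
  have h1 : ((i : ℕ) : ZMod n) = (((i : ℤ)) : ZMod n) := by push_cast; rfl
  show ZMod.lift n _ ((i : ℕ) : ZMod n) = _
  rw [h1, ZMod.lift_coe]
  show (zmultiplesHom (Additive H) (Additive.ofMul x)) (i : ℤ) = _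
  rw [zmultiplesHom_apply, natCast_zsmul]
  rfl

/-- The hom from `ZMod n` given an element of order dividing `n`. -/
noncomputable def zmodHom {H : Type*} [Group H] (n : ℕ) (x : H) (hx : x ^ n = 1) : Multiplicative (ZMod n) →* H :=
  AddMonoidHom.toMultiplicativeLeft (ZMod.lift n ⟨zmultiplesHom (Additive H) (Additive.ofMul x), by
    rw [zmultiplesHom_apply, natCast_zsmul, ← ofMul_pow, hx]; rfl⟩)

theorem zmodHom_natCast {H : Type*} [Group H] (n : ℕ) (x : H) (hx : x ^ n = 1) (i : ℕ) :
    zmodHom n x hx (Multiplicative.ofAdd (i : ZMod n)) = x ^ i := by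
  have h1 : ((i : ℕ) : ZMod n) = (((i : ℤ)) : ZMod n) := by push_cast; rfl
  show Additive.toMul (ZMod.lift n _ ((i : ℕ) : ZMod n)) = _
  rw [h1, ZMod.lift_coe]
  show Additive.toMul ((zmultiplesHom (Additive H) (Additive.ofMul x)) (i : ℤ)) = _
  rw [zmultiplesHom_apply, natCast_zsmul]
  rfl

theorem exists_small_copy (M : Type*) [Group M] [Finite M] :
    ∃ (E : Type) (_ : Group E) (_ : Finite E), Nonempty (M ≃* E) := by
  let e : M ≃ {i : ℕ // i < Nat.card M} := (Finite.equivFin M).trans Fin.equivSubtype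
  letI : Group {i : ℕ // i < Nat.card M} := e.symm.group
  exact ⟨{i : ℕ // i < Nat.card M}, inferInstance, Finite.of_equiv M e, ⟨(e.symm.mulEquiv).symm⟩⟩

/-- The direct product with a central subgroup of order `p`. -/
theorem prod_of_central {H : Type*} [Group H] [Finite H] (M : Subgroup H) (c : H)
    (hc : c ∈ Subgroup.center H) (hcp : c ^ p = 1) (hcM : c ∉ M) (hcard : Nat.card H = p * Nat.card M) :
    Nonempty (H ≃* M × Multiplicative (ZMod p)) := by
  classical
  have hpp := hp.out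
  haveI : NeZero p := ⟨hpp.ne_zero⟩
  have hne1 : c ≠ 1 := fun h => hcM (h ▸ M.one_mem)
  have ho : orderOf c = p := orderOf_eq_prime hcp hne1
  let g : Multiplicative (ZMod p) →* H := zmodHom p c hcp
  have hcen : ∀ (m : H) (t : Multiplicative (ZMod p)), Commute m (g t) := by
    intro m t
    obtain ⟨i, hi⟩ : ∃ i : ℕ, t = Multiplicative.ofAdd (i : ZMod p) :=
      ⟨(Multiplicative.toAdd t).val, by rw [ZMod.natCast_zmod_val]; rfl⟩
    rw [hi, zmodHom_natCast]
    have hcm : Commute m c := Subgroup.mem_center_iff.1 hc m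
    exact hcm.pow_right i
  let f : M × Multiplicative (ZMod p) →* H :=
    MonoidHom.noncommCoprod M.subtype g (fun m t => hcen m t)
  have hf : ∀ (m : M) (i : ℕ), f (m, Multiplicative.ofAdd (i : ZMod p)) = (m : H) * c ^ i := by
    intro m i
    show (m : H) * g (Multiplicative.ofAdd (i : ZMod p)) = _
    rw [zmodHom_natCast]
  have hinj : Function.Injective f := by
    rw [injective_iff_map_eq_one]
    rintro ⟨m, t⟩ h
    obtain ⟨i, hi⟩ : ∃ i : ℕ, i < p ∧ t = Multiplicative.ofAdd (i : ZMod p) :=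
      ⟨(Multiplicative.toAdd t).val, ZMod.val_lt _, by rw [ZMod.natCast_zmod_val]; rfl⟩
    rw [hi.2, hf] at h
    have h1 : c ^ i = (m : H)⁻¹ := eq_inv_of_mul_eq_one_right h
    have h2 : c ^ i ∈ M := by rw [h1]; exact M.inv_mem m.2
    have hi0 : i = 0 := by
      by_contra hi0
      have hd : ¬ p ∣ i := fun hd => by
        have := Nat.le_of_dvd (Nat.pos_of_ne_zero hi0) hd
        omega
      obtain ⟨k, -, hk⟩ := Nat.exists_mul_mod_eq_one_of_coprime ((Nat.Prime.coprime_iff_not_dvd hpp).2 hd).symm hpp.one_lt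
      apply hcM
      have h3 : c = (c ^ i) ^ k := by
        rw [← pow_mul]
        nth_rewrite 1 [← pow_one c]
        rw [← hk, ← ho, pow_mod_orderOf]
      rw [h3]
      exact M.pow_mem h2 k
    subst hi0
    simp only [pow_zero, mul_one] at h
    have hm : m = 1 := Subtype.ext h
    rw [hm, hi.2]
    simp
  have hbij : Function.Bijective f := by
    apply hinj.bijective_of_nat_card_le
    rw [Nat.card_prod, Nat.card_eq_fintype_card (α := Multiplicative (ZMod p)), hcard]
    simp only [Fintype.card_multiplicative, ZMod.card]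
    rw [mul_comm]
  exact ⟨(MulEquiv.ofBijective f hbij).symm⟩

section abelian

variable {H : Type*} [CommGroup H] [Finite H]

theorem pos_of_card {K : Type*} [Group K] [Finite K] : 0 < Nat.card K := Nat.card_pos

/-- The chain in an abelian group of order `p³` that is not elementary. -/
theorem abelian_cube_chain (hcard : Nat.card H = p ^ 3) (hne : ∃ x : H, x ^ p ≠ 1) :
    ∃ L M : Subgroup H, L.Characteristic ∧ M.Characteristic ∧ M ≤ L ∧ Nat.card L = p ^ 2 ∧ Nat.card M = p := by
  obtain ⟨x, hx⟩ := hne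
  have hpp := hp.out
  set f : H →* H := powMonoidHom p with hf
  have hmul : Nat.card f.ker * Nat.card f.range = p ^ 3 := by
    rw [← Subgroup.index_ker, Subgroup.card_mul_index, hcard]
  obtain ⟨s, -, hs⟩ := (Nat.dvd_prime_pow hpp).1 (Dvd.intro _ hmul)
  obtain ⟨t, -, ht⟩ := (Nat.dvd_prime_pow hpp).1 (Dvd.intro_left _ hmul)
  have hst : s + t = 3 := by
    rw [hs, ht, ← pow_add] at hmul
    exact Nat.pow_right_injective hpp.two_le hmul
  have ht0 : t ≠ 0 := by
    rintro rfl
    rw [pow_zero] at ht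
    have h1 : f.range = ⊥ := Subgroup.eq_bot_of_card_eq _ ht
    have h2 : f x ∈ f.range := ⟨x, rfl⟩
    rw [h1] at h2
    exact hx (Subgroup.mem_bot.1 h2)
  have hs0 : s ≠ 0 := by
    rintro rfl
    rw [pow_zero] at hs
    have h1 : f.ker = ⊥ := Subgroup.eq_bot_of_card_eq _ hs
    obtain ⟨w, hw⟩ := exists_prime_orderOf_dvd_card' (G := H) p (by rw [hcard]; exact dvd_pow_self _ (by norm_num))
    have h2 : w ∈ f.ker := by
      show w ^ p = 1
      rw [← hw]; exact pow_orderOf_eq_one w
    rw [h1, Subgroup.mem_bot] at h2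
    rw [h2, orderOf_one] at hw
    exact hpp.one_lt.ne hw
  have hcR : f.range.Characteristic := char_powRange p
  have hcK : f.ker.Characteristic := char_powKer p
  obtain h1 | h2 : t = 1 ∨ t = 2 := by omega
  · have hs2 : s = 2 := by omega
    subst h1 hs2
    refine ⟨f.ker, f.range, hcK, hcR, ?_, hs, by rw [ht, pow_one]⟩
    rintro _ ⟨y, rfl⟩
    have h3 : (⟨f y, ⟨y, rfl⟩⟩ : f.range) ^ Nat.card f.range = 1 := pow_card_eq_one'
    rw [ht, pow_one] at h3
    exact congrArg Subtype.val h3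
  · have hs1 : s = 1 := by omega
    subst h2 hs1
    refine ⟨f.range, f.ker, hcR, hcK, ?_, ht, by rw [hs, pow_one]⟩
    obtain ⟨w, hw⟩ := exists_prime_orderOf_dvd_card' (G := f.range) p (by rw [ht]; exact dvd_pow_self _ (by norm_num))
    have hw1 : (w : H) ∈ f.ker := by
      show (w : H) ^ p = 1
      have h3 : orderOf (w : H) = p := by rw [Subgroup.orderOf_coe, hw]
      rw [← h3]; exact pow_orderOf_eq_one _
    have h4 : Subgroup.zpowers (w : H) ≤ f.ker := by rw [Subgroup.zpowers_le]; exact hw1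
    have h5 : Subgroup.zpowers (w : H) = f.ker := by
      apply Subgroup.eq_of_le_of_card_ge h4
      rw [Nat.card_zpowers, Subgroup.orderOf_coe, hw, hs, pow_one]
    rw [← h5, Subgroup.zpowers_le]
    exact w.2

/-- Abelian groups of order `p⁴` with `|℧(H)| = p`. -/
theorem abelian_p2pp (hP : IsPGroup p H) (hcard : Nat.card H = p ^ 4)
    (hR : Nat.card (powMonoidHom p : H →* H).range = p) :
    Nonempty (H ≃* Multiplicative (ZMod (p ^ 2) × ZMod p × ZMod p)) := by
  classical
  have hpp := hp.out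
  haveI : NeZero p := ⟨hpp.ne_zero⟩
  haveI : NeZero (p ^ 2) := ⟨pow_ne_zero _ hpp.ne_zero⟩
  set R := (powMonoidHom p : H →* H).range with hRd
  set Ω₁ := (powMonoidHom p : H →* H).ker with hΩ
  have hmul : Nat.card Ω₁ * Nat.card R = p ^ 4 := by
    rw [← Subgroup.index_ker, Subgroup.card_mul_index, hcard]
  have hΩc : Nat.card Ω₁ = p ^ 3 := by
    rw [hR, show p ^ 4 = p ^ 3 * p by ring] at hmul
    exact Nat.eq_of_mul_eq_mul_right hpp.pos hmul
  obtain ⟨u, hu⟩ : ∃ u : H, u ^ p ≠ 1 := by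
    by_contra hall
    push Not at hall
    have h1 : R = ⊥ := by
      rw [eq_bot_iff]
      rintro _ ⟨y, rfl⟩
      exact Subgroup.mem_bot.2 (hall y)
    rw [h1, Subgroup.card_bot] at hR
    exact hpp.one_lt.ne hR
  have hRp : ∀ y : H, (y ^ p) ^ p = 1 := by
    intro y
    have h3 : (⟨y ^ p, ⟨y, rfl⟩⟩ : R) ^ Nat.card R = 1 := pow_card_eq_one'
    rw [hR] at h3
    exact congrArg Subtype.val h3
  set t := u ^ p with ht
  have hto : orderOf t = p := orderOf_eq_prime (hRp u) hu
  have htΩ : t ∈ Ω₁ := hRp u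
  have hZ1 : Nat.card (Subgroup.zpowers t) = p := by rw [Nat.card_zpowers, hto]
  obtain ⟨v, hvΩ, hv⟩ : ∃ v ∈ Ω₁, v ∉ Subgroup.zpowers t := by
    by_contra hall
    push Not at hall
    have h2 := Subgroup.card_le_of_le (show Ω₁ ≤ Subgroup.zpowers t from hall)
    rw [hΩc, hZ1] at h2
    have h3 : p ^ 3 > p := by
      calc p ^ 3 = p * p ^ 2 := by ring
        _ > p * 1 := Nat.mul_lt_mul_of_pos_left (Nat.one_lt_pow (by norm_num) hpp.one_lt) hpp.pos
        _ = p := mul_one p
    omega
  have hvp : v ^ p = 1 := hvΩ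
  set W := Subgroup.zpowers t ⊔ Subgroup.zpowers v with hW
  have hWcard : Nat.card W ≤ p ^ 2 := by
    have h1 := card_mul_relIndex_of_le (show Subgroup.zpowers v ≤ W from le_sup_right)
    have h2 : (Subgroup.zpowers v).relIndex W = (Subgroup.zpowers v).relIndex (Subgroup.zpowers t) :=
      Subgroup.relIndex_sup_right _ _
    have h3 : (Subgroup.zpowers v).relIndex (Subgroup.zpowers t) ∣ Nat.card (Subgroup.zpowers t) :=
      Subgroup.relIndex_dvd_card _ _
    rw [hZ1] at h3
    have h4 := Nat.le_of_dvd hpp.pos h3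
    have hvo : orderOf v = p := by
      apply orderOf_eq_prime hvp
      rintro rfl
      exact hv (Subgroup.one_mem _)
    rw [← h1, h2, Nat.card_zpowers, hvo, pow_two]
    exact Nat.mul_le_mul_left _ h4
  obtain ⟨w, hwΩ, hw⟩ : ∃ w ∈ Ω₁, w ∉ W := by
    by_contra hall
    push Not at hall
    have h2 := Subgroup.card_le_of_le (show Ω₁ ≤ W from hall)
    rw [hΩc] at h2
    have h3 : p ^ 2 < p ^ 3 := Nat.pow_lt_pow_right hpp.one_lt (by norm_num)
    omega
  have hwp : w ^ p = 1 := hwΩ
  have hinv : ∀ (x : H) (n : ℕ), x ^ p = 1 → ¬ p ∣ n → ∃ m : ℕ, (x ^ n) ^ m = x := by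
    intro x n hx hn
    obtain ⟨m, -, hm⟩ := Nat.exists_mul_mod_eq_one_of_coprime ((Nat.Prime.coprime_iff_not_dvd hpp).2 hn).symm hpp.one_lt
    refine ⟨m, ?_⟩
    rw [← pow_mul, ← Nat.mod_add_div (n * m) p, hm, pow_add, pow_mul, hx]
    simp
  have hind : ∀ i j k : ℕ, t ^ i * (v ^ j * w ^ k) = 1 → p ∣ i ∧ p ∣ j ∧ p ∣ k := by
    intro i j k h
    have hk : p ∣ k := by
      by_contra hk
      obtain ⟨m, hm⟩ := hinv w k hwp hk
      apply hw
      rw [← hm]
      apply Subgroup.pow_mem
      have h1 : w ^ k = (t ^ i * v ^ j)⁻¹ := by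
        apply eq_inv_of_mul_eq_one_right
        rw [mul_assoc]; exact h
      rw [h1]
      exact W.inv_mem (W.mul_mem (Subgroup.mem_sup_left (Subgroup.pow_mem _ (Subgroup.mem_zpowers t) i))
        (Subgroup.mem_sup_right (Subgroup.pow_mem _ (Subgroup.mem_zpowers v) j)))
    have hwk : w ^ k = 1 := by
      obtain ⟨m, rfl⟩ := hk
      rw [pow_mul, hwp, one_pow]
    rw [hwk, mul_one] at h
    have hj : p ∣ j := by
      by_contra hj
      obtain ⟨m, hm⟩ := hinv v j hvp hj
      apply hv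
      rw [← hm]
      apply Subgroup.pow_mem
      have h1 : v ^ j = (t ^ i)⁻¹ := eq_inv_of_mul_eq_one_right h
      rw [h1]
      exact Subgroup.inv_mem _ (Subgroup.pow_mem _ (Subgroup.mem_zpowers t) i)
    have hvj : v ^ j = 1 := by
      obtain ⟨m, rfl⟩ := hj
      rw [pow_mul, hvp, one_pow]
    rw [hvj, mul_one] at h
    refine ⟨?_, hj, hk⟩
    rw [← hto]
    exact orderOf_dvd_of_pow_eq_one h
  have hu2 : u ^ (p ^ 2) = 1 := by
    rw [pow_two, pow_mul]; exact hRp u
  let F : ZMod (p ^ 2) × ZMod p × ZMod p →+ Additive H :=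
    (zmodAddHom (p ^ 2) u hu2).coprod ((zmodAddHom p v hvp).coprod (zmodAddHom p w hwp))
  let f : Multiplicative (ZMod (p ^ 2) × ZMod p × ZMod p) →* H := AddMonoidHom.toMultiplicativeLeft F
  have hf : ∀ i j k : ℕ, f (Multiplicative.ofAdd ((i : ZMod (p ^ 2)), (j : ZMod p), (k : ZMod p))) =
      u ^ i * (v ^ j * w ^ k) := by
    intro i j k
    show Additive.toMul (zmodAddHom (p ^ 2) u hu2 (i : ZMod (p ^ 2)) +
      (zmodAddHom p v hvp (j : ZMod p) + zmodAddHom p w hwp (k : ZMod p))) = _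
    rw [zmodAddHom_natCast, zmodAddHom_natCast, zmodAddHom_natCast]
    rfl
  have hinj : Function.Injective f := by
    rw [injective_iff_map_eq_one]
    intro z hz
    set a := (Multiplicative.toAdd z).1 with ha
    set b := (Multiplicative.toAdd z).2.1 with hb
    set c := (Multiplicative.toAdd z).2.2 with hc
    have ea : (a.val : ZMod (p ^ 2)) = a := ZMod.natCast_zmod_val a
    have eb : (b.val : ZMod p) = b := ZMod.natCast_zmod_val b
    have ec : (c.val : ZMod p) = c := ZMod.natCast_zmod_val c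
    have hz' : z = Multiplicative.ofAdd ((a.val : ZMod (p ^ 2)), (b.val : ZMod p), (c.val : ZMod p)) := by
      rw [ea, eb, ec]; rfl
    rw [hz', hf] at hz
    have hip : p ∣ a.val := by
      have h1 := congrArg (· ^ p) hz
      simp only [one_pow] at h1
      rw [mul_pow, mul_pow, ← pow_mul, ← pow_mul, ← pow_mul, mul_comm b.val p, mul_comm c.val p,
        pow_mul v, pow_mul w, hvp, hwp, one_pow, one_pow, mul_one, mul_one, mul_comm, pow_mul] at h1
      have h3 : orderOf t ∣ a.val := orderOf_dvd_of_pow_eq_one h1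
      rwa [hto] at h3
    obtain ⟨i', hi'⟩ := hip
    have h2 : t ^ i' * (v ^ b.val * w ^ c.val) = 1 := by
      rw [ht, ← pow_mul, ← hi']; exact hz
    obtain ⟨⟨i'', hi''⟩, hj, hk⟩ := hind _ _ _ h2
    have hb0 : b.val = 0 := Nat.eq_zero_of_dvd_of_lt hj (ZMod.val_lt b)
    have hc0 : c.val = 0 := Nat.eq_zero_of_dvd_of_lt hk (ZMod.val_lt c)
    have ha0 : a.val = 0 := by
      apply Nat.eq_zero_of_dvd_of_lt (a := p ^ 2) _ (ZMod.val_lt a)
      rw [hi', hi'', pow_two]
      exact ⟨i'', by ring⟩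
    rw [hz', ha0, hb0, hc0]
    simp
  have hbij : Function.Bijective f := by
    apply hinj.bijective_of_nat_card_le
    rw [hcard, Nat.card_eq_fintype_card, Fintype.card_multiplicative, Fintype.card_prod, Fintype.card_prod,
      ZMod.card, ZMod.card]
    exact (by ring : p ^ 4 = p ^ 2 * (p * p)).le
  exact ⟨(MulEquiv.ofBijective f hbij).symm⟩

theorem abelian_four (hcard : Nat.card H = p ^ 4) (A : Subgroup (MulAut H))
    (hO : ∀ B : Subgroup A, B.Normal → IsPGroup p B → ∀ b ∈ B, (b : MulAut H) ∈ Inn H)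
    (hdvd : p ∣ ((Inn H).subgroupOf A).index) :
    (∀ x : H, x ^ p = 1) ∨ Nonempty (H ≃* Multiplicative (ZMod (p ^ 2) × ZMod p × ZMod p)) ∨
      ((p = 2 ∨ p = 3) ∧ Nonempty (H ≃* Multiplicative (ZMod (p ^ 2) × ZMod (p ^ 2)))) := by
  classical
  have hpp := hp.out
  have hP : IsPGroup p H := IsPGroup.of_card hcard
  by_cases hel : ∀ x : H, x ^ p = 1
  · exact Or.inl hel
  push Not at hel
  obtain ⟨x, hx⟩ := hel
  right
  set R := (powMonoidHom p : H →* H).range with hRd
  obtain ⟨t, ht⟩ := IsPGroup.iff_card.1 (hP.to_subgroup R)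
  have ht0 : t ≠ 0 := by
    rintro rfl
    rw [pow_zero] at ht
    have h1 := Subgroup.eq_bot_of_card_eq _ ht
    have h2 : x ^ p ∈ R := ⟨x, rfl⟩
    rw [h1] at h2
    exact hx (Subgroup.mem_bot.1 h2)
  by_cases ht1 : t = 1
  · left
    subst ht1
    exact abelian_p2pp hP hcard (by rw [ht, pow_one])
  right
  have hmul := Subgroup.card_mul_index R
  rw [hcard, ht] at hmul
  have hidx : R.index ≤ p ^ 2 := by
    have h1 : p ^ 2 * R.index ≤ p ^ 2 * p ^ 2 := by
      calc p ^ 2 * R.index ≤ p ^ t * R.index :=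
            Nat.mul_le_mul_right _ (Nat.pow_le_pow_right hpp.pos (by omega))
        _ = p ^ 4 := hmul
        _ = p ^ 2 * p ^ 2 := by ring
    exact Nat.le_of_mul_le_mul_left h1 (pow_pos hpp.pos 2)
  have hRΦ : R ≤ frattini H := by
    rintro _ ⟨y, rfl⟩
    exact Cfsg.Agent.Lib.PGroup.pow_mem_frattini hP y
  have hrk : (frattini H).index ≤ p ^ 2 :=
    (Nat.le_of_dvd (Nat.pos_of_ne_zero Subgroup.index_ne_zero_of_finite) (Subgroup.index_dvd_of_le hRΦ)).trans hidx
  rcases rank2_main hP hrk A hO hdvd with ⟨-, h2⟩ | ⟨h3, k, ⟨e⟩⟩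
  · exfalso
    rw [hcard] at h2
    have := Nat.pow_right_injective hpp.two_le h2
    omega
  · have hk : k = 2 := by
      have h1 := Nat.card_congr e.toEquiv
      haveI : NeZero (p ^ k) := ⟨pow_ne_zero _ hpp.ne_zero⟩
      rw [hcard, Nat.card_eq_fintype_card, Fintype.card_multiplicative, Fintype.card_prod, ZMod.card,
        ← pow_add] at h1
      have := Nat.pow_right_injective hpp.two_le h1
      omega
    subst hk
    refine ⟨?_, ⟨e⟩⟩
    have h4 : p ≠ 1 := hpp.ne_one
    have h5 : p ≠ 0 := hpp.ne_zero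
    omega

end abelian

section nonabelian

variable {H : Type*} [Group H] [Finite H]

theorem comm_mul_left_of_central {x y w : H} (h : ⁅y, w⁆ ∈ Subgroup.center H) :
    ⁅x * y, w⁆ = ⁅x, w⁆ * ⁅y, w⁆ := by
  have hc : ∀ g : H, g * ⁅y, w⁆ = ⁅y, w⁆ * g := fun g => Subgroup.mem_center_iff.1 h g
  have e1 : y * w * y⁻¹ = ⁅y, w⁆ * w := by rw [commutatorElement_def]; group
  calc ⁅x * y, w⁆ = x * (y * w * y⁻¹) * x⁻¹ * w⁻¹ := by rw [commutatorElement_def]; group
    _ = x * (⁅y, w⁆ * w) * x⁻¹ * w⁻¹ := by rw [e1]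
    _ = (x * ⁅y, w⁆) * w * x⁻¹ * w⁻¹ := by group
    _ = (⁅y, w⁆ * x) * w * x⁻¹ * w⁻¹ := by rw [hc x]
    _ = ⁅y, w⁆ * (x * w * x⁻¹ * w⁻¹) := by group
    _ = ⁅x, w⁆ * ⁅y, w⁆ := by
      have h2 := hc (x * w * x⁻¹ * w⁻¹)
      rw [← h2, commutatorElement_def x w]

/-- Groups of order `p⁴` with centre of order `p` (maximal class) are not essential. -/
theorem no_max_class (hcard : Nat.card H = p ^ 4) (hna : ¬ ∀ a b : H, a * b = b * a)
    (hZ : Nat.card (Subgroup.center H) = p) (A : Subgroup (MulAut H))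
    (hO : ∀ B : Subgroup A, B.Normal → IsPGroup p B → ∀ b ∈ B, (b : MulAut H) ∈ Inn H)
    (hdvd : p ∣ ((Inn H).subgroupOf A).index) : False := by
  classical
  have hpp := hp.out
  have hP : IsPGroup p H := IsPGroup.of_card hcard
  set Z := Subgroup.center H with hZd
  set N := commutator H with hNd
  have hNne : N ≠ ⊥ := by
    intro h
    apply hna
    intro a b
    have h1 : ⁅a, b⁆ ∈ N := Subgroup.commutator_mem_commutator (Subgroup.mem_top a) (Subgroup.mem_top b)
    rw [h, Subgroup.mem_bot] at h1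
    exact commutatorElement_eq_one_iff_mul_comm.1 h1
  have hQc : Nat.card (H ⧸ Z) = p ^ 3 := by
    have h1 := Subgroup.card_mul_index Z
    rw [hcard, hZ, Subgroup.index_eq_card, show p ^ 4 = p * p ^ 3 by ring] at h1
    exact Nat.eq_of_mul_eq_mul_left hpp.pos h1
  -- `Q = H / Z` is nonabelian
  have hQna : ¬ ∀ a b : H ⧸ Z, a * b = b * a := by
    intro hab
    have hNZ : N ≤ Z := by
      rw [hNd, commutator_def, Subgroup.commutator_le]
      intro a _ b _
      rw [← QuotientGroup.eq_one_iff, commutatorElement_def]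
      simp only [QuotientGroup.mk_mul, QuotientGroup.mk_inv]
      rw [hab (a : H ⧸ Z) (b : H ⧸ Z)]
      group
    have hd : Nat.card N ∣ p := by rw [← hZ]; exact Subgroup.card_dvd_of_le hNZ
    have hNc : Nat.card N = p := by
      rcases (Nat.dvd_prime hpp).1 hd with h1 | h1
      · exact absurd (Subgroup.eq_bot_of_card_eq _ h1) hNne
      · exact h1
    obtain ⟨n, hn⟩ := Cfsg.Agent.Lib.PGroup.exists_index_center_eq_sq (p := p) (T := H) hNZ (Or.inr hNc)
    rw [Subgroup.index_eq_card, hQc] at hn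
    have := Nat.pow_right_injective hpp.two_le hn
    omega
  obtain ⟨hQZ, hQcomm, -, hQN, -⟩ := nonab_cube hQc hQna
  -- `Z ≤ N`
  have hZN : Z ≤ N := by
    haveI : Group.IsNilpotent H := hP.isNilpotent
    have h1 : N ⊓ Z ≠ ⊥ := Cfsg.Agent.Lib.Core.normal_inf_center_ne_bot N hNne
    have h2 : N ⊓ Z = Z := by
      apply Subgroup.eq_of_le_of_card_ge inf_le_right
      have hd : Nat.card (N ⊓ Z : Subgroup H) ∣ p := by rw [← hZ]; exact Subgroup.card_dvd_of_le inf_le_right
      rcases (Nat.dvd_prime hpp).1 hd with h3 | h3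
      · exact absurd (Subgroup.eq_bot_of_card_eq _ h3) h1
      · rw [hZ, h3]
    exact inf_eq_right.1 h2
  have hmapN : N.map (QuotientGroup.mk' Z) = commutator (H ⧸ Z) := by
    rw [hNd, commutator_def, commutator_def, Subgroup.map_commutator, ← MonoidHom.range_eq_map,
      MonoidHom.range_eq_top.2 (QuotientGroup.mk'_surjective Z)]
  have hNc : Nat.card N = p ^ 2 := by
    have h1 : Z.relIndex N = p := by
      have h2 := Subgroup.relIndex_ker (K := N) (QuotientGroup.mk' Z)
      rw [QuotientGroup.ker_mk', hmapN, hQN, hQZ] at h2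
      exact h2
    have h3 := card_mul_relIndex_of_le hZN
    rw [hZ, h1] at h3
    rw [← h3, pow_two]
  have hNab := IsPGroup.isMulCommutative_of_card_eq_prime_sq (p := p) (G := N) hNc
  obtain ⟨w, hwN, hwZ⟩ : ∃ w ∈ N, w ∉ Z := by
    by_contra hall
    push Not at hall
    have h1 := Subgroup.card_le_of_le (show N ≤ Z from hall)
    rw [hNc, hZ, pow_two] at h1
    have := hpp.two_le
    nlinarith
  have hwc : ∀ x : H, ⁅x, w⁆ ∈ Z := by
    intro x
    have h1 : (QuotientGroup.mk' Z) w ∈ Subgroup.center (H ⧸ Z) := by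
      rw [← hQN, ← hmapN]
      exact ⟨w, hwN, rfl⟩
    rw [← QuotientGroup.eq_one_iff, commutatorElement_def]
    simp only [QuotientGroup.mk_mul, QuotientGroup.mk_inv]
    have h2 : (x : H ⧸ Z) * (w : H ⧸ Z) = (w : H ⧸ Z) * (x : H ⧸ Z) :=
      (Subgroup.mem_center_iff.1 h1 (x : H ⧸ Z))
    rw [h2]
    group
  let ψ : H →* H := MonoidHom.mk' (fun x => ⁅x, w⁆) (fun a b => comm_mul_left_of_central (hwc b))
  have hψ : ∀ x, ψ x = ⁅x, w⁆ := fun _ => rfl
  have hψZ : ψ.range ≤ Z := by
    rintro _ ⟨x, rfl⟩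
    exact hwc x
  have hcψ : Nat.card H ≤ p * Nat.card ψ.ker := by
    have h1 := Subgroup.card_mul_index ψ.ker
    rw [Subgroup.index_ker] at h1
    have h2 := Subgroup.card_le_of_le hψZ
    rw [hZ] at h2
    rw [← h1, mul_comm]
    exact Nat.mul_le_mul_right _ h2
  set C := Subgroup.centralizer (N : Set H) with hC
  have hNeq : Z ⊔ Subgroup.zpowers w = N := by
    apply Subgroup.eq_of_le_of_card_ge (sup_le hZN (by rw [Subgroup.zpowers_le]; exact hwN))
    have hne : Z ≠ Z ⊔ Subgroup.zpowers w := fun h =>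
      hwZ (h ▸ Subgroup.mem_sup_right (Subgroup.mem_zpowers w))
    have h1 := p_mul_card_le hP (le_sup_left : Z ≤ Z ⊔ Subgroup.zpowers w) hne
    rw [hZ] at h1
    rw [hNc, pow_two]
    exact h1
  have hkerC : ψ.ker ≤ C := by
    intro x hx
    have h1 : ⁅x, w⁆ = 1 := hx
    have h2 : x * w = w * x := commutatorElement_eq_one_iff_mul_comm.1 h1
    have h3 : N ≤ Subgroup.centralizer ({x} : Set H) := by
      rw [← hNeq]
      apply sup_le
      · intro z hz
        rw [Subgroup.mem_centralizer_singleton_iff]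
        exact (Subgroup.mem_center_iff.1 hz x).symm
      · rw [Subgroup.zpowers_le, Subgroup.mem_centralizer_singleton_iff]
        exact h2.symm
    rw [hC, Subgroup.mem_centralizer_iff]
    intro n hn
    have h4 := h3 hn
    rw [Subgroup.mem_centralizer_singleton_iff] at h4
    exact h4
  have hNC : N ≤ C := by
    intro a ha
    rw [hC, Subgroup.mem_centralizer_iff]
    intro b hb
    exact congrArg Subtype.val (hNab.is_comm.comm (⟨b, hb⟩ : N) ⟨a, ha⟩)
  have hCne : C ≠ ⊤ := by
    intro h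
    apply hwZ
    rw [hZd, Subgroup.mem_center_iff]
    intro g
    have h1 : g ∈ C := by rw [h]; exact Subgroup.mem_top g
    rw [hC, Subgroup.mem_centralizer_iff] at h1
    exact (h1 w hwN).symm
  have hCc : Nat.card C ≤ p ^ 3 := by
    have h1 := p_mul_card_le hP (le_top : C ≤ ⊤) hCne
    rw [Subgroup.card_top, hcard, show p ^ 4 = p * p ^ 3 by ring] at h1
    exact Nat.le_of_mul_le_mul_left h1 hpp.pos
  haveI hNchar : N.Characteristic := by
    rw [hNd, commutator_def]
    infer_instance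
  have hCchar : C.Characteristic := char_of_forall _ (by
    intro α x hx
    rw [hC, Subgroup.mem_centralizer_iff] at hx ⊢
    intro n hn
    have h1 := hx (α⁻¹ n) (char_mem N α⁻¹ hn)
    have h2 := congrArg α h1
    rw [map_mul, map_mul] at h2
    have h3 : α (α⁻¹ n) = n := by simp
    rwa [h3] at h2)
  refine no_chain4 hP A C N Z hCchar hNchar Subgroup.centerCharacteristic hNC hZN ?_ ?_ ?_ hZ.le hO hdvd
  · exact hcψ.trans (Nat.mul_le_mul_left _ (Subgroup.card_le_of_le hkerC))
  · rw [hNc]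
    exact hCc.trans (by ring_nf; exact le_rfl)
  · rw [hNc, hZ, pow_two]

/-- The basic facts when the centre has order `p²`. -/
theorem class2_data (hcard : Nat.card H = p ^ 4) (hna : ¬ ∀ a b : H, a * b = b * a)
    (hZ : Nat.card (Subgroup.center H) = p ^ 2) :
    (∀ a b : H, ⁅a, b⁆ ∈ Subgroup.center H) ∧ (∀ a : H, a ^ p ∈ Subgroup.center H) ∧
      Nat.card (commutator H) = p := by
  classical
  have hpp := hp.out
  have hP : IsPGroup p H := IsPGroup.of_card hcard
  set Z := Subgroup.center H with hZd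
  have hQc : Nat.card (H ⧸ Z) = p ^ 2 := by
    have h1 := Subgroup.card_mul_index Z
    rw [hcard, hZ, Subgroup.index_eq_card, show p ^ 4 = p ^ 2 * p ^ 2 by ring] at h1
    exact Nat.eq_of_mul_eq_mul_left (pow_pos hpp.pos 2) h1
  have hnc : ¬ IsCyclic (H ⧸ Z) := fun hc => hna (fun a b =>
    (MonoidHom.isMulCommutative_of_isCyclic_of_ker_le_center (QuotientGroup.mk' Z)
      (by rw [QuotientGroup.ker_mk'])).is_comm.comm a b)
  have hQab := IsPGroup.isMulCommutative_of_card_eq_prime_sq (p := p) (G := H ⧸ Z) hQc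
  have hcomm : ∀ a b : H, ⁅a, b⁆ ∈ Z := by
    intro a b
    rw [← QuotientGroup.eq_one_iff, commutatorElement_def]
    simp only [QuotientGroup.mk_mul, QuotientGroup.mk_inv]
    rw [hQab.is_comm.comm (a : H ⧸ Z) (b : H ⧸ Z)]
    group
  have hpow : ∀ a : H, a ^ p ∈ Z := by
    intro a
    rw [← QuotientGroup.eq_one_iff, QuotientGroup.mk_pow]
    have h1 : orderOf (a : H ⧸ Z) ∣ p ^ 2 := by rw [← hQc]; exact orderOf_dvd_natCard _
    obtain ⟨k, hk, hkc⟩ := (Nat.dvd_prime_pow hpp).1 h1
    have hk2 : k ≠ 2 := by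
      rintro rfl
      exact hnc (isCyclic_of_orderOf_eq_card (a : H ⧸ Z) (by rw [hkc, hQc]))
    have hk1 : k ≤ 1 := by omega
    rw [← orderOf_dvd_iff_pow_eq_one, hkc]
    exact (pow_dvd_pow p hk1).trans (by simp)
  refine ⟨hcomm, hpow, ?_⟩
  -- an abelian maximal subgroup
  obtain ⟨a, ha⟩ : ∃ a : H, a ∉ Z := by
    by_contra hall
    push Not at hall
    apply hna
    intro x y
    exact (Subgroup.mem_center_iff.1 (hall y) x)
  set B := Z ⊔ Subgroup.zpowers a with hB
  have hcZ : IsMulCommutative Z := Cfsg.Agent.Lib.PGroup.isMulCommutative_of_comm fun x hx y _ =>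
    (Subgroup.mem_center_iff.mp hx y).symm
  have hcA : IsMulCommutative (Subgroup.zpowers a) := inferInstance
  have hBab : IsMulCommutative B := Cfsg.Agent.Lib.Core.isMulCommutative_sup hcZ hcA
    (fun x hx y _ => (Subgroup.mem_center_iff.mp hx y).symm)
  have hna' : ¬ IsMulCommutative H := fun h => hna h.is_comm.comm
  have hBne : B ≠ ⊤ := by
    intro h
    apply hna
    intro x y
    rw [h] at hBab
    exact Cfsg.Agent.Lib.PGroup.comm_of_isMulCommutative hBab (Subgroup.mem_top x) (Subgroup.mem_top y)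
  have hZB : Z ≠ B := fun h => ha (h ▸ Subgroup.mem_sup_right (Subgroup.mem_zpowers a))
  have h1 := p_mul_card_le hP (le_sup_left : Z ≤ B) hZB
  have h2 := p_mul_card_le hP (le_top : B ≤ ⊤) hBne
  rw [Subgroup.card_top, hcard, show p ^ 4 = p * p ^ 3 by ring] at h2
  have h3 := Nat.le_of_mul_le_mul_left h2 hpp.pos
  rw [hZ, show p * p ^ 2 = p ^ 3 by ring] at h1
  have hBc : Nat.card B = p ^ 3 := le_antisymm h3 h1
  have hBi : B.index = p := by
    have h4 := Subgroup.card_mul_index B
    rw [hcard, hBc, show p ^ 4 = p ^ 3 * p by ring] at h4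
    exact Nat.eq_of_mul_eq_mul_left (pow_pos hpp.pos 3) h4
  have h5 := Cfsg.Agent.Lib.PGroup.index_center_of_abelian_index_prime hP hna' hBab hBi
  rw [Subgroup.index_eq_card, hQc, pow_two] at h5
  exact (Nat.eq_of_mul_eq_mul_left hpp.pos h5).symm

/-- The preimage in `H` of a characteristic subgroup of `H^{ab}` is characteristic. -/
theorem comap_char (C : Subgroup (Abelianization H)) (hC : C.Characteristic) :
    (C.comap (Abelianization.of : H →* Abelianization H)).Characteristic :=
  char_of_forall _ (by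
    intro α x hx
    have h1 : (Abelianization.of : H →* Abelianization H) x ∈ C := hx
    show (Abelianization.of : H →* Abelianization H) (α x) ∈ C
    rw [← abelianizationCongr_of]
    exact char_mem C (MulEquiv.abelianizationCongr α) h1)

/-- If `H/H'` is not elementary abelian, with `|H'| = p`, `H` is not essential. -/
theorem no_nonelem_quot (hcard : Nat.card H = p ^ 4) (hN : Nat.card (commutator H) = p)
    (x : H) (hx : x ^ p ∉ commutator H) (A : Subgroup (MulAut H))
    (hO : ∀ B : Subgroup A, B.Normal → IsPGroup p B → ∀ b ∈ B, (b : MulAut H) ∈ Inn H)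
    (hdvd : p ∣ ((Inn H).subgroupOf A).index) : False := by
  classical
  have hpp := hp.out
  have hP : IsPGroup p H := IsPGroup.of_card hcard
  let of' : H →* Abelianization H := Abelianization.of
  have hker : of'.ker = commutator H := Abelianization.ker_of H
  have hsurj : Function.Surjective of' := QuotientGroup.mk_surjective
  have hcQ : Nat.card (Abelianization H) = p ^ 3 := by
    have h1 := Subgroup.card_mul_index (commutator H)
    rw [hcard, hN, Subgroup.index_eq_card, show p ^ 4 = p * p ^ 3 by ring] at h1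
    exact Nat.eq_of_mul_eq_mul_left hpp.pos h1
  have hne : ∃ y : Abelianization H, y ^ p ≠ 1 := by
    refine ⟨of' x, ?_⟩
    intro h
    apply hx
    rw [← hker, MonoidHom.mem_ker, map_pow, h]
  obtain ⟨L, M, hL, hM, hML, hLc, hMc⟩ := abelian_cube_chain hcQ hne
  have hcomap : ∀ C : Subgroup (Abelianization H), Nat.card (C.comap of') = p * Nat.card C := by
    intro C
    have h1 := Subgroup.card_mul_index (C.comap of')
    have h2 := Subgroup.card_mul_index C
    rw [Subgroup.index_comap_of_surjective C hsurj, hcard] at h1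
    rw [hcQ] at h2
    have hipos : 0 < C.index := Nat.pos_of_ne_zero Subgroup.index_ne_zero_of_finite
    apply Nat.eq_of_mul_eq_mul_right hipos
    rw [h1, mul_assoc, h2]
    ring
  have hNM : commutator H ≤ M.comap of' := by
    intro y hy
    have h1 : of' y = 1 := by
      rw [← MonoidHom.mem_ker, hker]; exact hy
    show of' y ∈ M
    rw [h1]
    exact M.one_mem
  haveI hNchar : (commutator H).Characteristic := by
    rw [commutator_def]
    infer_instance
  refine no_chain4 hP A (L.comap of') (M.comap of') (commutator H) (comap_char L hL) (comap_char M hM) hNchar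
    (Subgroup.comap_mono hML) hNM ?_ ?_ ?_ hN.le hO hdvd
  · rw [hcard, hcomap, hLc]
    exact (by ring : p ^ 4 = p * (p * p ^ 2)).le
  · rw [hcomap, hcomap, hLc, hMc]
    exact (by ring : p * p ^ 2 = p * (p * p)).le
  · rw [hcomap, hMc, hN]

/-- For `p` odd, the case `|H'| = p`, `Z` elementary, with an element of order `p²`. -/
theorem no_odd_exp (hodd : p ≠ 2) (hcard : Nat.card H = p ^ 4) (hZ : Nat.card (Subgroup.center H) = p ^ 2)
    (hN : Nat.card (commutator H) = p) (hNZ : commutator H ≤ Subgroup.center H)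
    (hpow : ∀ x : H, x ^ p ∈ commutator H) (hZel : ∀ z ∈ Subgroup.center H, z ^ p = 1)
    (x : H) (hx : x ^ p ≠ 1) (A : Subgroup (MulAut H))
    (hO : ∀ B : Subgroup A, B.Normal → IsPGroup p B → ∀ b ∈ B, (b : MulAut H) ∈ Inn H)
    (hdvd : p ∣ ((Inn H).subgroupOf A).index) : False := by
  classical
  have hpp := hp.out
  have hP : IsPGroup p H := IsPGroup.of_card hcard
  set Z := Subgroup.center H with hZd
  set N := commutator H with hNd
  have hcen : ∀ z ∈ Z, ∀ y : H, Commute z y := fun z hz y =>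
    (Subgroup.mem_center_iff.1 hz y).symm
  have hcN : ∀ a b : H, ⁅a, b⁆ ∈ N := fun a b =>
    Subgroup.commutator_mem_commutator (Subgroup.mem_top a) (Subgroup.mem_top b)
  let f : H →* H := MonoidHom.mk' (fun y => y ^ p) (by
    intro a b
    have hc := hNZ (hcN b a)
    rw [Cfsg.Agent.Lib.Transfer.mul_pow_class2 (hcen _ hc a) (hcen _ hc b)]
    have h2 : 2 < p := lt_of_le_of_ne hpp.two_le (Ne.symm hodd)
    obtain ⟨k, hk⟩ := hpp.dvd_choose_self (by norm_num : (2 : ℕ) ≠ 0) h2
    rw [hk, pow_mul, hZel _ hc, one_pow, mul_one])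
  have hmul : Nat.card f.ker * Nat.card f.range = p ^ 4 := by
    rw [← Subgroup.index_ker, Subgroup.card_mul_index, hcard]
  have hRN : f.range ≤ N := by
    rintro _ ⟨y, rfl⟩
    exact hpow y
  have hRc : Nat.card f.range = p := by
    have hd : Nat.card f.range ∣ Nat.card N := Subgroup.card_dvd_of_le hRN
    rw [hN] at hd
    rcases (Nat.dvd_prime hpp).1 hd with h1 | h1
    · have h2 := Subgroup.eq_bot_of_card_eq _ h1
      have h3 : f x ∈ f.range := ⟨x, rfl⟩
      rw [h2] at h3
      exact absurd (Subgroup.mem_bot.1 h3) hx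
    · exact h1
  have hKc : Nat.card f.ker = p ^ 3 := by
    rw [hRc, show p ^ 4 = p ^ 3 * p by ring] at hmul
    exact Nat.eq_of_mul_eq_mul_right hpp.pos hmul
  have hcK : f.ker.Characteristic := char_of_forall _ (by
    intro α y hy
    have h1 : y ^ p = 1 := hy
    show (α y) ^ p = 1
    rw [← map_pow, h1, map_one])
  have hZK : Z ≤ f.ker := fun z hz => hZel z hz
  haveI hNchar : N.Characteristic := by
    rw [hNd, commutator_def]
    infer_instance
  refine no_chain4 hP A f.ker Z N hcK Subgroup.centerCharacteristic hNchar hZK hNZ ?_ ?_ ?_ hN.le hO hdvd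
  · rw [hcard, hKc]; exact (by ring : p ^ 4 = p * p ^ 3).le
  · rw [hKc, hZ]; exact (by ring : p ^ 3 = p * p ^ 2).le
  · rw [hZ, hN]; exact (by ring : p ^ 2 = p * p).le

/-- `D₈ × C₂` is not essential. -/
theorem no_D8C2 [Fact (Nat.Prime 2)] (hcard : Nat.card H = 2 ^ 4) (hZ : Nat.card (Subgroup.center H) = 2 ^ 2)
    (hN : Nat.card (commutator H) = 2) (hNZ : commutator H ≤ Subgroup.center H)
    (hpow : ∀ x : H, x ^ 2 ∈ commutator H) (M : Subgroup H) (hMi : M.index = 2) (hMc : Nat.card M = 2 ^ 3)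
    (c : H) (hc : c ∈ Subgroup.center H) (hcp : c ^ 2 = 1) (hcM : c ∉ M) (hcN : c ∉ commutator H)
    (e : M) (ho : orderOf e = 4) (hinv : ∀ b : M, b ∉ Subgroup.zpowers e → b ^ 2 = 1)
    (A : Subgroup (MulAut H))
    (hO : ∀ B : Subgroup A, B.Normal → IsPGroup 2 B → ∀ b ∈ B, (b : MulAut H) ∈ Inn H)
    (hdvd : 2 ∣ ((Inn H).subgroupOf A).index) : False := by
  classical
  have hP : IsPGroup 2 H := IsPGroup.of_card hcard
  set Z := Subgroup.center H with hZd
  set N := commutator H with hNd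
  have hcc : ∀ y : H, Commute c y := fun y => (Subgroup.mem_center_iff.1 hc y).symm
  set e' : H := (e : H) with he'
  have ho' : orderOf e' = 4 := by rw [he', Subgroup.orderOf_coe, ho]
  have he2 : e' ^ 2 ≠ 1 := by
    intro h
    have := orderOf_dvd_of_pow_eq_one h
    rw [ho'] at this
    omega
  let D : Subgroup H := Subgroup.closure {x : H | x ^ 2 ≠ 1}
  have hDm : ∀ x : H, x ^ 2 ≠ 1 → x ∈ D := fun x hx => Subgroup.subset_closure hx
  have hDchar : D.Characteristic := by
    rw [Subgroup.characteristic_iff_le_comap]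
    intro ϕ
    rw [Subgroup.closure_le]
    intro x hx
    apply hDm
    show (ϕ x) ^ 2 ≠ 1
    rw [← map_pow]
    intro h
    apply hx
    exact ϕ.injective (by rw [h, map_one])
  have heD : e' ∈ D := hDm _ he2
  have hecD : e' * c ∈ D := by
    apply hDm
    rw [(hcc e').symm.mul_pow, hcp, mul_one]
    exact he2
  have hcD : c ∈ D := by
    have := D.mul_mem (D.inv_mem heD) hecD
    simpa using this
  haveI hMn : M.Normal := Subgroup.normal_of_index_eq_two hMi
  have hsup : M ⊔ Subgroup.zpowers c = ⊤ := by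
    apply Subgroup.eq_top_of_card_eq
    apply le_antisymm (Subgroup.card_le_card_group _)
    have hne : M ≠ M ⊔ Subgroup.zpowers c := fun h =>
      hcM (h ▸ Subgroup.mem_sup_right (Subgroup.mem_zpowers c))
    have h1 := p_mul_card_le hP (le_sup_left : M ≤ M ⊔ Subgroup.zpowers c) hne
    rw [hMc] at h1
    rw [hcard]
    exact h1
  haveI hcn : (Subgroup.zpowers c).Normal := by
    constructor
    rintro _ ⟨i, rfl⟩ g
    show g * c ^ i * g⁻¹ ∈ _
    have h1 : Commute (c ^ i) g := (hcc g).zpow_left i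
    rw [← h1.eq, mul_inv_cancel_right]
    exact ⟨i, rfl⟩
  -- `D` lies in `⟨e⟩⟨c⟩`
  set B := Subgroup.zpowers e' ⊔ Subgroup.zpowers c with hB
  have hDB : D ≤ B := by
    rw [Subgroup.closure_le]
    intro x hx
    have hx' : x ^ 2 ≠ 1 := hx
    have hxs : x ∈ M ⊔ Subgroup.zpowers c := by rw [hsup]; exact Subgroup.mem_top x
    obtain ⟨u, hu, v, ⟨i, rfl⟩, rfl⟩ := Subgroup.mem_sup_of_normal_left.mp hxs
    have hv2 : ((fun k : ℤ => c ^ k) i) ^ 2 = 1 := by
      show (c ^ i) ^ 2 = 1
      rw [← zpow_natCast, ← zpow_mul, mul_comm, zpow_mul, zpow_natCast, hcp, one_zpow]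
    have hvc : Commute u ((fun k : ℤ => c ^ k) i) := ((hcc u).zpow_left i).symm
    rw [hvc.mul_pow, hv2, mul_one] at hx'
    have hu2 : (⟨u, hu⟩ : M) ^ 2 ≠ 1 := fun h => hx' (congrArg Subtype.val h)
    have hue : (⟨u, hu⟩ : M) ∈ Subgroup.zpowers e := by
      by_contra h
      exact hu2 (hinv _ h)
    obtain ⟨k, hk⟩ := Subgroup.mem_zpowers_iff.1 hue
    have hku : e' ^ k = u := by
      have := congrArg Subtype.val hk
      simpa [he'] using this
    apply B.mul_mem
    · exact Subgroup.mem_sup_left ⟨k, hku⟩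
    · exact Subgroup.mem_sup_right ⟨i, rfl⟩
  have hco : orderOf c = 2 := orderOf_eq_prime hcp (fun h => hcM (h ▸ M.one_mem))
  have hBc : Nat.card B ≤ 2 ^ 3 := by
    have h1 := card_mul_relIndex_of_le (show Subgroup.zpowers c ≤ B from le_sup_right)
    have h2 : (Subgroup.zpowers c).relIndex B = (Subgroup.zpowers c).relIndex (Subgroup.zpowers e') :=
      Subgroup.relIndex_sup_right _ _
    have h3 : (Subgroup.zpowers c).relIndex (Subgroup.zpowers e') ∣ Nat.card (Subgroup.zpowers e') :=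
      Subgroup.relIndex_dvd_card _ _
    rw [Nat.card_zpowers, ho'] at h3
    have h4 := Nat.le_of_dvd (by norm_num) h3
    rw [← h1, h2, Nat.card_zpowers, hco]
    omega
  have heM : e' ∈ M := e.2
  have hZD : Subgroup.zpowers e' ≠ D := by
    intro h
    apply hcM
    have : c ∈ Subgroup.zpowers e' := by rw [h]; exact hcD
    exact (Subgroup.zpowers_le.2 heM) this
  have hDc1 := p_mul_card_le hP (show Subgroup.zpowers e' ≤ D by rw [Subgroup.zpowers_le]; exact heD) hZD
  rw [Nat.card_zpowers, ho'] at hDc1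
  have hDc2 := (Subgroup.card_le_of_le hDB).trans hBc
  -- `N ≤ D`
  have hND : N ≤ D := by
    have h1 : Subgroup.zpowers (e' ^ 2) ≤ N := by
      rw [Subgroup.zpowers_le]; exact hpow e'
    have h2 : Subgroup.zpowers (e' ^ 2) = N := by
      apply Subgroup.eq_of_le_of_card_ge h1
      rw [hN, Nat.card_zpowers, orderOf_pow_of_dvd (by norm_num) (by rw [ho']; norm_num), ho']
    rw [← h2, Subgroup.zpowers_le]
    exact D.pow_mem heD 2
  have hZDle : Z ≤ D := by
    have hne : N ≠ D ⊓ Z := fun h => hcN (h ▸ (⟨hcD, hc⟩ : c ∈ D ⊓ Z))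
    have h1 := p_mul_card_le hP (le_inf hND hNZ) hne
    rw [hN] at h1
    have h2 : D ⊓ Z = Z := by
      apply Subgroup.eq_of_le_of_card_ge inf_le_right
      rw [hZ]
      exact h1
    exact inf_eq_right.1 h2
  haveI hNchar : N.Characteristic := by
    rw [hNd, commutator_def]
    infer_instance
  refine no_chain4 hP A D Z N hDchar Subgroup.centerCharacteristic hNchar hZDle hNZ ?_ ?_ ?_ hN.le hO hdvd
  · rw [hcard]; omega
  · rw [hZ]; omega
  · rw [hZ, hN]; norm_num

/-- The case where `H/H'` is elementary abelian. -/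
theorem b_case (hcard : Nat.card H = p ^ 4) (hna : ¬ ∀ a b : H, a * b = b * a)
    (hZ : Nat.card (Subgroup.center H) = p ^ 2) (hN : Nat.card (commutator H) = p)
    (hNZ : commutator H ≤ Subgroup.center H) (hpow : ∀ x : H, x ^ p ∈ commutator H)
    (A : Subgroup (MulAut H))
    (hO : ∀ B : Subgroup A, B.Normal → IsPGroup p B → ∀ b ∈ B, (b : MulAut H) ∈ Inn H)
    (hdvd : p ∣ ((Inn H).subgroupOf A).index) :
    (Odd p ∧ ∃ (E : Type) (_ : Group E) (_ : Finite E), Cfsg.IsExtraspecial p E ∧ Nat.card E = p ^ 3 ∧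
        (∀ x : E, x ^ p = 1) ∧ Nonempty (H ≃* E × Multiplicative (ZMod p))) ∨
      (p = 2 ∧ Nonempty (H ≃* QuaternionGroup 2 × Multiplicative (ZMod 2))) ∨
      ((∀ x : H, x ^ (p ^ 2) = 1) ∧ IsCyclic (Subgroup.center H) ∧ Nat.card (Subgroup.center H) = p ^ 2) := by
  classical
  have hpp := hp.out
  have hP : IsPGroup p H := IsPGroup.of_card hcard
  set Z := Subgroup.center H with hZd
  set N := commutator H with hNd
  have hcN : ∀ a b : H, ⁅a, b⁆ ∈ N := fun a b =>
    Subgroup.commutator_mem_commutator (Subgroup.mem_top a) (Subgroup.mem_top b)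
  have hNp : ∀ y ∈ N, y ^ p = 1 := by
    intro y hy
    have h3 : (⟨y, hy⟩ : N) ^ Nat.card N = 1 := pow_card_eq_one'
    rw [hN] at h3
    exact congrArg Subtype.val h3
  have hexp : ∀ x : H, x ^ (p ^ 2) = 1 := by
    intro x
    rw [pow_two, pow_mul]
    exact hNp _ (hpow x)
  by_cases hcyc : IsCyclic Z
  · exact Or.inr (Or.inr ⟨hexp, hcyc, hZ⟩)
  have hZel : ∀ z ∈ Z, z ^ p = 1 := by
    intro z hz
    have h1 : orderOf (⟨z, hz⟩ : Z) ∣ p ^ 2 := by rw [← hZ]; exact orderOf_dvd_natCard _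
    obtain ⟨k, hk, hkc⟩ := (Nat.dvd_prime_pow hpp).1 h1
    have hk2 : k ≠ 2 := by
      rintro rfl
      exact hcyc (isCyclic_of_orderOf_eq_card (⟨z, hz⟩ : Z) (by rw [hkc, hZ]))
    have hk1 : k ≤ 1 := by omega
    have h2 : (⟨z, hz⟩ : Z) ^ p = 1 := by
      rw [← orderOf_dvd_iff_pow_eq_one, hkc]
      exact (pow_dvd_pow p hk1).trans (by simp)
    exact congrArg Subtype.val h2
  obtain ⟨c, hc, hcNn⟩ : ∃ c ∈ Z, c ∉ N := by
    by_contra hall
    push Not at hall
    have h1 := Subgroup.card_le_of_le (show Z ≤ N from hall)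
    rw [hZ, hN, pow_two] at h1
    have := hpp.two_le
    nlinarith
  have hΦ : frattini H ≤ N :=
    Cfsg.Agent.Lib.Amalgam.frattini_le_of_elementary_quotient N hcN hpow
  obtain ⟨M, hMco, hcM⟩ : ∃ M : Subgroup H, IsCoatom M ∧ c ∉ M := by
    by_contra hall
    push Not at hall
    exact hcNn (hΦ (Cfsg.Agent.Lib.Core.mem_frattini_iff.2 hall))
  have hMi : M.index = p := Cfsg.Agent.Lib.PGroup.index_eq_prime_of_isCoatom hP hMco
  have hMc : Nat.card M = p ^ 3 := by
    have h1 := Subgroup.card_mul_index M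
    rw [hcard, hMi, show p ^ 4 = p ^ 3 * p by ring] at h1
    exact Nat.eq_of_mul_eq_mul_right hpp.pos h1
  have hcp := hZel c hc
  obtain ⟨eH⟩ := prod_of_central M c hc hcp hcM (by rw [hcard, hMc]; ring)
  have hMna : ¬ ∀ a b : M, a * b = b * a := by
    intro hab
    apply hna
    intro a b
    apply eH.injective
    rw [map_mul, map_mul]
    apply Prod.ext
    · exact hab _ _
    · exact mul_comm _ _
  by_cases hp2 : p = 2
  · subst hp2
    right; left
    refine ⟨rfl, ?_⟩
    rcases order8_cases (H := M) (by rw [hMc]; rfl) hMna with ⟨⟨eQ⟩⟩ | ⟨e, ho, -, hinv⟩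
    · exact ⟨eH.trans (MulEquiv.prodCongr eQ (MulEquiv.refl _))⟩
    · exact (no_D8C2 hcard hZ hN hNZ hpow M hMi hMc c hc hcp hcM hcNn e ho hinv A hO hdvd).elim
  · left
    refine ⟨hpp.odd_of_ne_two hp2, ?_⟩
    by_cases hexpP : ∀ x : H, x ^ p = 1
    · obtain ⟨E, iG, iF, ⟨eE⟩⟩ := exists_small_copy M
      have hEc : Nat.card E = p ^ 3 := by rw [← Nat.card_congr eE.toEquiv, hMc]
      have hEna : ¬ ∀ a b : E, a * b = b * a := by
        intro hab
        apply hMna
        intro a b
        apply eE.injective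
        rw [map_mul, map_mul]
        exact hab _ _
      obtain ⟨hZc, -, -, h1, h2⟩ := nonab_cube hEc hEna
      refine ⟨E, iG, iF, ⟨⟨IsPGroup.of_card hEc, h2, h1⟩, hZc⟩, hEc, ?_, ?_⟩
      · intro x
        obtain ⟨m, rfl⟩ := eE.surjective x
        rw [← map_pow]
        have h3 : m ^ p = 1 := Subtype.ext (hexpP m)
        rw [h3, map_one]
      · exact ⟨eH.trans (MulEquiv.prodCongr eE (MulEquiv.refl _))⟩
    · push Not at hexpP
      obtain ⟨x, hx⟩ := hexpP
      exact (no_odd_exp hp2 hcard hZ hN hNZ hpow hZel x hx A hO hdvd).elim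

/-- The classification for nonabelian groups of order `p⁴`. -/
theorem nonab_four (hcard : Nat.card H = p ^ 4) (hna : ¬ ∀ a b : H, a * b = b * a)
    (A : Subgroup (MulAut H))
    (hO : ∀ B : Subgroup A, B.Normal → IsPGroup p B → ∀ b ∈ B, (b : MulAut H) ∈ Inn H)
    (hdvd : p ∣ ((Inn H).subgroupOf A).index) :
    (Odd p ∧ ∃ (E : Type) (_ : Group E) (_ : Finite E), Cfsg.IsExtraspecial p E ∧ Nat.card E = p ^ 3 ∧
        (∀ x : E, x ^ p = 1) ∧ Nonempty (H ≃* E × Multiplicative (ZMod p))) ∨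
      (p = 2 ∧ Nonempty (H ≃* QuaternionGroup 2 × Multiplicative (ZMod 2))) ∨
      ((∀ x : H, x ^ (p ^ 2) = 1) ∧ IsCyclic (Subgroup.center H) ∧ Nat.card (Subgroup.center H) = p ^ 2) := by
  classical
  have hpp := hp.out
  have hP : IsPGroup p H := IsPGroup.of_card hcard
  haveI : Nontrivial H := by
    apply Finite.one_lt_card_iff_nontrivial.1
    rw [hcard]
    exact Nat.one_lt_pow (by norm_num) hpp.one_lt
  -- the order of the centre
  obtain ⟨t, ht⟩ := IsPGroup.iff_card.1 (hP.to_subgroup (Subgroup.center H))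
  have ht0 : t ≠ 0 := by
    rintro rfl
    have hn := hP.center_nontrivial
    have := Finite.one_lt_card (α := Subgroup.center H)
    rw [ht] at this
    simp at this
  have hmul := Subgroup.card_mul_index (Subgroup.center H)
  rw [hcard, ht] at hmul
  obtain ⟨s, -, hs⟩ := (Nat.dvd_prime_pow hpp).1 (Dvd.intro_left _ hmul)
  have hst : t + s = 4 := by
    rw [hs, ← pow_add] at hmul
    exact Nat.pow_right_injective hpp.two_le hmul
  have hnc : ¬ IsCyclic (H ⧸ Subgroup.center H) := fun hc => hna (fun a b =>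
    (MonoidHom.isMulCommutative_of_isCyclic_of_ker_le_center (QuotientGroup.mk' (Subgroup.center H))
      (by rw [QuotientGroup.ker_mk'])).is_comm.comm a b)
  have hs01 : s ≠ 0 ∧ s ≠ 1 := by
    constructor
    · rintro rfl
      apply hnc
      rw [pow_zero, Subgroup.index_eq_card] at hs
      have : Subsingleton (H ⧸ Subgroup.center H) := (Nat.card_eq_one_iff_unique.1 hs).1
      infer_instance
    · rintro rfl
      apply hnc
      rw [pow_one, Subgroup.index_eq_card] at hs
      exact isCyclic_of_prime_card (p := p) hs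
  obtain h1 | h2 : t = 1 ∨ t = 2 := by omega
  · subst h1
    exact (no_max_class hcard hna (by rw [ht, pow_one]) A hO hdvd).elim
  · subst h2
    obtain ⟨hcomm, -, hN⟩ := class2_data hcard hna ht
    have hNZ : commutator H ≤ Subgroup.center H := by
      rw [commutator_def, Subgroup.commutator_le]
      intro a _ b _
      exact hcomm a b
    by_cases hpow : ∀ x : H, x ^ p ∈ commutator H
    · exact b_case hcard hna ht hN hNZ hpow A hO hdvd
    · push Not at hpow
      obtain ⟨x, hx⟩ := hpow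
      exact (no_nonelem_quot hcard hN x hx A hO hdvd).elim

end nonabelian

end Cfsg.Agent.Lib.Cl.EssFour
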