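import Cfsg.Agent.Lib.Cl.EssCube

set_option autoImplicit false

namespace Cfsg.Agent.Lib.Cl.EssRank2

open Cfsg.Agent.Lib.Cl.EssChain Cfsg.Agent.Lib.Cl.EssCube

variable {p : ℕ} [hp : Fact p.Prime]

/-- The stabiliser of a chain is a `p`-group. -/
theorem stab_isPGroup {H : Type*} [Group H] [Finite H] (hP : IsPGroup p H) (A : Subgroup (MulAut H))
    (n : ℕ) (c : ℕ → Subgroup H) (h0 : c 0 = ⊤) (hchar : ∀ i, (c i).Characteristic)
    (hle : ∀ i, i < n → c (i + 1) ≤ c i)
    (hburn : ∀ α : MulAut H, (orderOf α).Coprime p → (∀ x, x⁻¹ * α x ∈ c n) → α = 1) :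
    IsPGroup p (stab A n c hchar hle) := by
  classical
  haveI : Finite (MulAut H) := Finite.of_injective (fun α : MulAut H => (α : H → H)) DFunLike.coe_injective
  have hcm : ∀ i (α : MulAut H) {x : H}, x ∈ c i → α x ∈ c i := by
    intro i α x hx
    haveI := hchar i
    exact char_mem _ _ hx
  haveI hnorm : ∀ i, (c i).Normal := fun i => by
    haveI := hchar i
    exact Subgroup.normal_of_characteristic _
  set B := stab A n c hchar hle with hB
  rintro ⟨b, hb⟩
  have ho : orderOf (b : MulAut H) ≠ 0 := (orderOf_pos _).ne'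
  obtain ⟨e, m, hm, hom⟩ := Nat.exists_eq_pow_mul_and_not_dvd ho p hp.out.ne_one
  refine ⟨e, ?_⟩
  have hbB : b ^ (p ^ e) ∈ B := B.pow_mem hb _
  set β : MulAut H := ((b ^ (p ^ e) : A) : MulAut H) with hβ
  have hβm : β ^ m = 1 := by
    rw [hβ, Subgroup.coe_pow, ← pow_mul, ← hom, pow_orderOf_eq_one]
  have hcop : m.Coprime p := ((Nat.Prime.coprime_iff_not_dvd hp.out).2 hm).symm
  have hstep : ∀ i, i ≤ n → ∀ x, x⁻¹ * β x ∈ c i := by
    intro i
    induction i with
    | zero => intro _ x; rw [h0]; exact Subgroup.mem_top _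
    | succ i ih =>
      intro hi x
      have hin : i < n := hi
      have h1 := ih (by omega) x
      exact coprime_step hP (c (i + 1)) (c i) β (fun z hz => hcm i β hz) (hbB i hin) m hβm hcop h1
  have hβ1 : β = 1 := by
    apply hburn β
    · exact Nat.Coprime.coprime_dvd_left (orderOf_dvd_of_pow_eq_one hβm) hcop
    · exact hstep n le_rfl
  apply Subtype.ext
  apply Subtype.ext
  simpa [hβ] using hβ1

section abelian

variable {H : Type*} [CommGroup H] [Finite H]

theorem iter_top (hP : IsPGroup p H) (C : Subgroup H) (hC : ∀ x : H, ∃ c ∈ C, ∃ y : H, x = c * y ^ p) (x : H) :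
    x ∈ C := by
  have h1 : ∀ e : ℕ, ∀ x : H, ∃ c ∈ C, ∃ y : H, x = c * y ^ (p ^ e) := by
    intro e
    induction e with
    | zero => intro x; exact ⟨1, C.one_mem, x, by simp⟩
    | succ e ih =>
      intro x
      obtain ⟨c, hc, y, rfl⟩ := ih x
      obtain ⟨c', hc', z, rfl⟩ := hC y
      refine ⟨c * c' ^ (p ^ e), C.mul_mem hc (C.pow_mem hc' _), z, ?_⟩
      rw [mul_pow, ← pow_mul, mul_assoc, pow_succ, mul_comm (p ^ e) p]
  obtain ⟨n, hn⟩ := IsPGroup.iff_card.1 hP
  obtain ⟨c, hc, y, rfl⟩ := h1 n x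
  rw [← hn, pow_card_eq_one', mul_one]
  exact hc

theorem char_powRange (k : ℕ) : ((powMonoidHom k : H →* H).range).Characteristic :=
  char_of_forall _ (by
    rintro α _ ⟨y, rfl⟩
    exact ⟨α y, by simp [map_pow]⟩)

theorem char_powKer (k : ℕ) : ((powMonoidHom k : H →* H).ker).Characteristic :=
  char_of_forall _ (by
    intro α y hy
    have h1 : y ^ k = 1 := hy
    show (α y) ^ k = 1
    rw [← map_pow, h1, map_one])

/-- Burnside's theorem for abelian `p`-groups. -/
theorem burn_abelian (hP : IsPGroup p H) (α : MulAut H) (hco : (orderOf α).Coprime p)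
    (hα : ∀ x, x⁻¹ * α x ∈ (powMonoidHom p : H →* H).range) : α = 1 := by
  classical
  haveI : Finite (MulAut H) := Finite.of_injective (fun α : MulAut H => (α : H → H)) DFunLike.coe_injective
  set R := (powMonoidHom p : H →* H).range with hR
  set m := orderOf α with hm
  have hαm : α ^ m = 1 := pow_orderOf_eq_one α
  let C : Subgroup H := (α.toMonoidHom).eqLocus (MonoidHom.id H)
  have hCm : ∀ x, x ∈ C ↔ α x = x := fun x => Iff.rfl
  let T : H → H := fun x => ∏ j ∈ Finset.range m, (α ^ j) x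
  have hT : ∀ x, T x ∈ C := by
    intro x
    rw [hCm]
    show α (∏ j ∈ Finset.range m, (α ^ j) x) = ∏ j ∈ Finset.range m, (α ^ j) x
    rw [map_prod]
    have h1 := Finset.prod_range_succ (fun j => (α ^ j) x) m
    have h2 := Finset.prod_range_succ' (fun j => (α ^ j) x) m
    rw [h1] at h2
    have h3 : (α ^ m) x = (α ^ 0) x := by rw [hαm]; simp
    rw [h3] at h2
    have h4 := mul_right_cancel h2
    rw [h4]
    exact Finset.prod_congr rfl (fun j _ => by rw [pow_succ', MulAut.mul_apply])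
  have hw : ∀ j : ℕ, ∀ x, x⁻¹ * (α ^ j) x ∈ R := by
    intro j x
    induction j with
    | zero => simp [R.one_mem]
    | succ j ih =>
      have h1 := hα ((α ^ j) x)
      have h2 := R.mul_mem ih h1
      have e : x⁻¹ * (α ^ (j + 1)) x = x⁻¹ * (α ^ j) x * (((α ^ j) x)⁻¹ * α ((α ^ j) x)) := by
        rw [pow_succ', MulAut.mul_apply]; group
      rw [e]; exact h2
  have hTx : ∀ x, ∃ W ∈ R, T x = x ^ m * W := by
    intro x
    refine ⟨∏ j ∈ Finset.range m, (x⁻¹ * (α ^ j) x), Subgroup.prod_mem _ (fun j _ => hw j x), ?_⟩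
    have h1 : ∏ j ∈ Finset.range m, (α ^ j) x = ∏ j ∈ Finset.range m, (x * (x⁻¹ * (α ^ j) x)) :=
      Finset.prod_congr rfl (fun j _ => by group)
    show ∏ j ∈ Finset.range m, (α ^ j) x = _
    rw [h1, Finset.prod_mul_distrib, Finset.prod_const, Finset.card_range]
  have hC : ∀ x : H, ∃ c ∈ C, ∃ y : H, x = c * y ^ p := by
    intro x
    obtain ⟨W, ⟨z, rfl⟩, hW⟩ := hTx x
    have hb := Nat.gcd_eq_gcd_ab m p
    rw [hco] at hb
    set u := Nat.gcdA m p
    set v := Nat.gcdB m p
    refine ⟨(T x) ^ u, C.zpow_mem (hT x) u, z ^ (-u) * x ^ v, ?_⟩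
    have h1 : x = x ^ (((m : ℤ) * u + (p : ℤ) * v)) := by rw [← hb]; simp
    have h2 : (z ^ (-u) * x ^ v) ^ p = ((powMonoidHom p) z) ^ (-u) * x ^ ((p : ℤ) * v) := by
      rw [mul_pow]
      congr 1
      · rw [powMonoidHom_apply, ← zpow_natCast, ← zpow_natCast, ← zpow_mul, ← zpow_mul, mul_comm]
      · rw [← zpow_natCast, ← zpow_mul, mul_comm]
    rw [h2, hW, mul_zpow]
    nth_rewrite 1 [h1]
    rw [zpow_add, zpow_mul, zpow_natCast, zpow_neg]
    group
  apply MulEquiv.ext
  intro x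
  exact (hCm x).1 (iter_top hP C hC x)

/-- A group with `|H : ℧(H)| ≤ p²` with `|H^q| = p`, `exp(H) ∣ p q`, is not essential. -/
theorem no_T_p (hP : IsPGroup p H) (A : Subgroup (MulAut H))
    (hO : ∀ B : Subgroup A, B.Normal → IsPGroup p B → ∀ b ∈ B, (b : MulAut H) ∈ Inn H)
    (hdvd : p ∣ ((Inn H).subgroupOf A).index)
    (hR : Nat.card H ≤ p ^ 2 * Nat.card (powMonoidHom p : H →* H).range)
    (q : ℕ) (hq : ∀ x : H, (x ^ p) ^ q = 1)
    (hT : Nat.card (powMonoidHom q : H →* H).range = p) : False := by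
  set K := (powMonoidHom q : H →* H).ker with hK
  set R := (powMonoidHom p : H →* H).range with hRd
  have hmul : Nat.card K * p = Nat.card H := by
    rw [← hT, ← Subgroup.index_ker, Subgroup.card_mul_index]
  have hRK : R ≤ K := by
    rintro _ ⟨y, rfl⟩
    exact hq y
  have hpos := hp.out.pos
  refine no_chain3 hP A K R R (char_powKer q) (char_powRange p) (char_powRange p) hRK le_rfl ?_ ?_ ?_
    (fun α h1 h2 => burn_abelian hP α h1 h2) hO hdvd
  · rw [← hmul, mul_comm]
  · rw [← hmul, show p ^ 2 = p * p by ring, mul_assoc, mul_comm] at hR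
    exact Nat.le_of_mul_le_mul_left hR hpos
  · exact Nat.le_mul_of_pos_left _ hpos

end abelian

/-- The binomial computation, for `p ≥ 5`. -/
theorem binom_step {M : Type*} [AddCommGroup M] (hp5 : 5 ≤ p) (N : AddMonoid.End M) (h1 : (N + 1) ^ p = 1)
    (h2 : ∀ x, ∃ y, N (N x) = p • y) (x : M) : ∃ w, p • (N x) = p • (p • w) := by
  classical
  have hpp := hp.out
  have key := (Commute.one_right N).add_pow_prime_eq' hpp
  rw [h1, one_pow] at key
  -- splitting off the term `k = 1`
  have h1mem : (1 : ℕ) ∈ Finset.Ioo 0 p := Finset.mem_Ioo.2 ⟨by norm_num, by omega⟩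
  rw [← Finset.add_sum_erase _ _ h1mem] at key
  have hc1 : p.choose 1 / p = 1 := by
    rw [Nat.choose_one_right, Nat.div_self hpp.pos]
  simp only [pow_one, one_pow, mul_one, hc1, Nat.cast_one] at key
  set S' : AddMonoid.End M := ∑ k ∈ (Finset.Ioo 0 p).erase 1, N ^ k * ((p.choose k / p : ℕ) : AddMonoid.End M) with hS'
  -- membership in `pM`
  let P₁ : AddSubgroup M := (nsmulAddMonoidHom p : M →+ M).range
  have hP₁ : ∀ z, z ∈ P₁ ↔ ∃ y, p • y = z := fun z => Iff.rfl
  have hS1 : S' x ∈ P₁ := by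
    have e1 : S' x = ∑ k ∈ (Finset.Ioo 0 p).erase 1, (N ^ k * ((p.choose k / p : ℕ) : AddMonoid.End M)) x :=
      AddMonoidHom.finset_sum_apply _ _ _
    rw [e1]
    apply AddSubgroup.sum_mem
    intro k hk
    have hk1 := Finset.mem_erase.1 hk
    have hk2 := Finset.mem_Ioo.1 hk1.2
    obtain ⟨j, rfl⟩ : ∃ j, k = 2 + j := ⟨k - 2, by omega⟩
    obtain ⟨y, hy⟩ := h2 ((N ^ j) ((((p.choose (2 + j) / p : ℕ) : AddMonoid.End M)) x))
    refine ⟨y, ?_⟩
    rw [pow_add, pow_two]
    exact hy.symm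
  have hN4 : ∃ y, (N ^ p) x = p • (p • y) := by
    obtain ⟨j, hj⟩ : ∃ j, p = 4 + j := ⟨p - 4, by omega⟩
    obtain ⟨y, hy⟩ := h2 ((N ^ j) x)
    obtain ⟨y', hy'⟩ := h2 y
    refine ⟨y', ?_⟩
    have e : (N ^ p) x = N (N (N (N ((N ^ j) x)))) := by
      rw [hj, pow_add, show (4 : ℕ) = 1 + 1 + 1 + 1 from rfl, pow_succ, pow_succ, pow_succ, pow_one]
      rfl
    rw [e, hy, map_nsmul, map_nsmul, hy']
  have ev : x = (N ^ p) x + x + p • (N x + S' x) := congrArg (fun E : AddMonoid.End M => E x) key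
  obtain ⟨y₀, hy₀⟩ := hN4
  obtain ⟨y₁, hy₁⟩ := hS1
  have hy₁' : S' x = p • y₁ := hy₁.symm
  refine ⟨-y₀ - y₁, ?_⟩
  rw [hy₀, hy₁'] at ev
  have ev2 : p • p • y₀ + p • (N x + p • y₁) = 0 := by
    have := ev
    have h3 : x + (p • p • y₀ + p • (N x + p • y₁)) = x + 0 := by
      rw [add_zero]
      nth_rewrite 3 [ev]
      abel
    exact add_left_cancel h3
  rw [smul_add] at ev2
  rw [smul_sub, smul_sub, smul_neg, smul_neg]
  have h4 : p • N x = - (p • p • y₀) - p • p • y₁ := by
    calc p • N x = (p • p • y₀ + (p • N x + p • p • y₁)) - p • p • y₀ - p • p • y₁ := by abel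
      _ = _ := by rw [ev2]; abel
  rw [h4]

theorem exists_fixed_ne_one {V : Type*} [Group V] [Finite V] (f : V →* V) (k : ℕ) (hf : ∀ y, f^[p ^ k] y = y)
    (hV : p ∣ Nat.card V) : ∃ v, v ≠ 1 ∧ f v = v := by
  classical
  haveI : Fintype V := Fintype.ofFinite V
  let F : Function.End V := (f : V → V)
  have hpow : ∀ n y, (F ^ n) y = f^[n] y := by
    intro n
    induction n with
    | zero => intro y; rfl
    | succ n ih =>
      intro y
      rw [pow_succ']
      show f ((F ^ n) y) = _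
      rw [ih, Function.iterate_succ_apply']
  have hF : F ^ (p ^ k) = 1 := by
    funext y
    rw [hpow, hf]
    rfl
  have h1 := Equiv.Perm.card_fixedPoints_modEq hF
  rw [← Nat.card_eq_fintype_card, ← Nat.card_eq_fintype_card] at h1
  have h2 : p ∣ Nat.card F.fixedPoints :=
    Nat.modEq_zero_iff_dvd.1 (h1.symm.trans (Nat.modEq_zero_iff_dvd.2 hV))
  have h3 : (1 : V) ∈ F.fixedPoints := by
    show f 1 = 1
    exact map_one f
  haveI : Nontrivial F.fixedPoints := by
    rw [← Finite.one_lt_card_iff_nontrivial]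
    haveI : Nonempty F.fixedPoints := ⟨⟨1, h3⟩⟩
    have h4 : 0 < Nat.card F.fixedPoints := Nat.card_pos
    have h5 := Nat.le_of_dvd h4 h2
    have := hp.out.two_le
    omega
  obtain ⟨⟨v, hv⟩, hne⟩ := exists_ne (⟨1, h3⟩ : F.fixedPoints)
  exact ⟨v, fun h => hne (Subtype.ext h), hv⟩

theorem p_mul_card_le {H : Type*} [Group H] [Finite H] (hP : IsPGroup p H) {R L : Subgroup H} (hRL : R ≤ L) (hne : R ≠ L) :
    p * Nat.card R ≤ Nat.card L := by
  obtain ⟨s, hs⟩ := IsPGroup.iff_card.1 (hP.to_subgroup L)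
  obtain ⟨t, ht⟩ := IsPGroup.iff_card.1 (hP.to_subgroup R)
  have hlt : t < s := by
    by_contra hcon
    push Not at hcon
    apply hne
    apply Subgroup.eq_of_le_of_card_ge hRL
    rw [hs, ht]
    exact Nat.pow_le_pow_right hp.out.pos hcon
  rw [hs, ht, ← pow_succ']
  exact Nat.pow_le_pow_right hp.out.pos hlt

section abelian2

variable {H : Type*} [CommGroup H] [Finite H]

/-- Automorphisms in `A` centralising `H / ℧(H)` are trivial. -/
theorem trivial_of_centralizes (hP : IsPGroup p H) (A : Subgroup (MulAut H))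
    (hO : ∀ B : Subgroup A, B.Normal → IsPGroup p B → ∀ b ∈ B, (b : MulAut H) ∈ Inn H)
    (a : A) (ha : ∀ x : H, x⁻¹ * (a : MulAut H) x ∈ (powMonoidHom p : H →* H).range) : a = 1 := by
  set R := (powMonoidHom p : H →* H).range with hRd
  let c : ℕ → Subgroup H := fun i => match i with
    | 0 => ⊤
    | _ => R
  have hchar : ∀ i, (c i).Characteristic := by
    intro i
    match i with
    | 0 => exact Subgroup.topCharacteristic
    | (_ + 1) => exact char_powRange p
  have hle : ∀ i, i < 1 → c (i + 1) ≤ c i := by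
    intro i hi
    match i, hi with
    | 0, _ => exact le_top
  have hB := stab_isPGroup hP A 1 c rfl hchar hle (fun α h1 h2 => burn_abelian hP α h1 h2)
  have hn := stab_normal A 1 c hchar hle
  have hmem : a ∈ stab A 1 c hchar hle := by
    intro i hi x _
    have hi0 : i = 0 := by omega
    subst hi0
    exact ha x
  have h1 := hO _ hn hB a hmem
  obtain ⟨y, hy⟩ := h1
  apply Subtype.ext
  rw [← hy]
  apply MulEquiv.ext
  intro x
  simp

/-- `p ≥ 5`: no automorphism of order `p` for the homocyclic group of exponent at least `p²`. -/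
theorem no_big (hp5 : 5 ≤ p) (hP : IsPGroup p H) (A : Subgroup (MulAut H))
    (hO : ∀ B : Subgroup A, B.Normal → IsPGroup p B → ∀ b ∈ B, (b : MulAut H) ∈ Inn H)
    (hdvd : p ∣ ((Inn H).subgroupOf A).index)
    (hR : Nat.card H ≤ p ^ 2 * Nat.card (powMonoidHom p : H →* H).range)
    (hE : ∀ y : H, y ^ p = 1 → y ∈ (powMonoidHom p : H →* H).range) : False := by
  classical
  haveI : Finite (MulAut H) := Finite.of_injective (fun α : MulAut H => (α : H → H)) DFunLike.coe_injective
  have hpp := hp.out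
  set R := (powMonoidHom p : H →* H).range with hRd
  have hpd : p ∣ Nat.card A := hdvd.trans (Subgroup.index_dvd_card _)
  obtain ⟨a, ha⟩ := exists_prime_orderOf_dvd_card' (G := A) p hpd
  have hap : (a : MulAut H) ^ p = 1 := by
    rw [← Subgroup.coe_pow, ← ha, pow_orderOf_eq_one]; rfl
  set α : MulAut H := (a : MulAut H) with hα
  have hαR : ∀ y ∈ R, α y ∈ R := by
    haveI := char_powRange (H := H) p
    exact fun y hy => char_mem R α hy
  -- the fixed points on `H / R`
  let L : Subgroup H :=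
    { carrier := {x | x⁻¹ * α x ∈ R}
      one_mem' := by simp [R.one_mem]
      mul_mem' := by
        intro x y hx hy
        have e : (x * y)⁻¹ * α (x * y) = (x⁻¹ * α x) * (y⁻¹ * α y) := by
          rw [map_mul, mul_inv]
          exact mul_mul_mul_comm _ _ _ _
        show (x * y)⁻¹ * α (x * y) ∈ R
        rw [e]; exact R.mul_mem hx hy
      inv_mem' := by
        intro x hx
        have e : (x⁻¹)⁻¹ * α x⁻¹ = (x⁻¹ * α x)⁻¹ := by
          rw [map_inv, mul_inv]
        show (x⁻¹)⁻¹ * α x⁻¹ ∈ R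
        rw [e]; exact R.inv_mem hx }
  have hLm : ∀ x, x ∈ L ↔ x⁻¹ * α x ∈ R := fun _ => Iff.rfl
  have hRL : R ≤ L := fun y hy => R.mul_mem (R.inv_mem hy) (hαR y hy)
  have hall : ∀ x, x⁻¹ * α x ∈ R := by
    by_contra hcon
    push Not at hcon
    obtain ⟨x₀, hx₀⟩ := hcon
    -- there is an element of `L` outside `R`
    have hRmap : R ≤ R.comap (α : H →* H) := fun y hy => hαR y hy
    let f : (H ⧸ R) →* (H ⧸ R) := QuotientGroup.map R R (α : H →* H) hRmap
    have hfmk : ∀ y : H, f (y : H ⧸ R) = ((α y : H) : H ⧸ R) := fun y => rfl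
    have hit : ∀ j : ℕ, ∀ y : H, f^[j] (y : H ⧸ R) = (((α ^ j) y : H) : H ⧸ R) := by
      intro j y
      induction j with
      | zero => rfl
      | succ j ih =>
        rw [Function.iterate_succ_apply', ih, hfmk, pow_succ', MulAut.mul_apply]
    have hfp : ∀ v, f^[p ^ 1] v = v := by
      intro v
      obtain ⟨y, rfl⟩ := QuotientGroup.mk_surjective v
      rw [hit, pow_one, hap]
      rfl
    have hVd : p ∣ Nat.card (H ⧸ R) := by
      obtain ⟨n, hn⟩ := IsPGroup.iff_card.1 (hP.to_quotient R)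
      rw [hn]
      refine dvd_pow_self _ ?_
      rintro rfl
      rw [pow_zero, ← Subgroup.index_eq_card, Subgroup.index_eq_one] at hn
      apply hx₀
      rw [hn]
      exact Subgroup.mem_top _
    obtain ⟨v, hv1, hvf⟩ := exists_fixed_ne_one f 1 hfp hVd
    obtain ⟨y, rfl⟩ := QuotientGroup.mk_surjective v
    have hyR : y ∉ R := fun h => hv1 ((QuotientGroup.eq_one_iff y).2 h)
    have hyL : y ∈ L := by
      rw [hfmk, eq_comm, QuotientGroup.eq] at hvf
      exact hvf
    have hne : R ≠ L := fun h => hyR (h ▸ hyL)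
    have hcL := p_mul_card_le hP hRL hne
    have hcH : Nat.card H ≤ p * Nat.card L := by
      calc Nat.card H ≤ p ^ 2 * Nat.card R := hR
        _ = p * (p * Nat.card R) := by ring
        _ ≤ p * Nat.card L := Nat.mul_le_mul_left _ hcL
    have hN2 : ∀ x, x⁻¹ * α x ∈ L := by
      intro x
      have h3 := trivial_on_factor hP L ⊤ le_top (by rw [Subgroup.card_top]; exact hcH) α
        (fun z hz => by
          rw [hLm] at hz ⊢
          have h4 := hαR _ hz
          rw [map_mul, map_inv] at h4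
          exact h4) (fun z _ => Subgroup.mem_top _) 1 (by rw [pow_one]; exact hap) x (Subgroup.mem_top _)
      exact h3
    -- the additive picture
    let α' : AddMonoid.End (Additive H) := MonoidHom.toAdditive (α : H →* H)
    have hα' : ∀ x : H, α' (Additive.ofMul x) = Additive.ofMul (α x) := fun _ => rfl
    let N : AddMonoid.End (Additive H) := α' - 1
    have hNz : ∀ x : H, N (Additive.ofMul x) = Additive.ofMul (x⁻¹ * α x) := by
      intro x
      show α' (Additive.ofMul x) - Additive.ofMul x = _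
      rw [hα', ← ofMul_div, div_eq_mul_inv, mul_comm]
    have hN1 : (N + 1) ^ p = 1 := by
      have e : N + 1 = α' := sub_add_cancel _ _
      rw [e]
      have hpw : ∀ j : ℕ, ∀ x : H, (α' ^ j) (Additive.ofMul x) = Additive.ofMul ((α ^ j) x) := by
        intro j x
        induction j with
        | zero => rfl
        | succ j ih =>
          rw [pow_succ', pow_succ', MulAut.mul_apply]
          show α' ((α' ^ j) (Additive.ofMul x)) = _
          rw [ih, hα']
      ext z
      have := hpw p (Additive.toMul z)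
      rw [hap] at this
      exact this
    have hN2' : ∀ z, ∃ y, N (N z) = p • y := by
      intro z
      obtain ⟨y, hy⟩ := hN2 (Additive.toMul z)
      refine ⟨Additive.ofMul y, ?_⟩
      have e1 : N z = Additive.ofMul ((Additive.toMul z)⁻¹ * α (Additive.toMul z)) := hNz _
      rw [e1, hNz, ← ofMul_pow]
      exact congrArg Additive.ofMul hy.symm
    apply hx₀
    obtain ⟨w, hw⟩ := binom_step hp5 N hN1 hN2' (Additive.ofMul x₀)
    rw [hNz, ← ofMul_pow] at hw
    set w' : H := Additive.toMul w with hw'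
    have e1 : p • p • w = Additive.ofMul ((w' ^ p) ^ p) := rfl
    rw [e1] at hw
    have e2 : (x₀⁻¹ * α x₀) ^ p = (w' ^ p) ^ p := Additive.ofMul.injective hw
    have e3 : ((x₀⁻¹ * α x₀) * (w' ^ p)⁻¹) ^ p = 1 := by
      rw [mul_pow, inv_pow, e2, mul_inv_cancel]
    have e4 := hE _ e3
    have e5 : x₀⁻¹ * α x₀ = ((x₀⁻¹ * α x₀) * (w' ^ p)⁻¹) * w' ^ p := by group
    rw [e5]
    exact R.mul_mem e4 ⟨w', rfl⟩
  have h1 := trivial_of_centralizes hP A hO a hall
  rw [h1, orderOf_one] at ha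
  exact hpp.one_lt.ne ha

/-- The homocyclic case. -/
theorem homocyclic_iso (hP : IsPGroup p H) (b : ℕ) (hexp : ∀ x : H, x ^ (p ^ (b + 1)) = 1)
    (hTc : Nat.card (powMonoidHom (p ^ b) : H →* H).range = p ^ 2)
    (hKR : ∀ y : H, y ^ (p ^ b) = 1 → y ∈ (powMonoidHom p : H →* H).range) :
    Nonempty (H ≃* Multiplicative (ZMod (p ^ (b + 1)) × ZMod (p ^ (b + 1)))) := by
  classical
  have hpp := hp.out
  set q := p ^ b with hq
  set R := (powMonoidHom p : H →* H).range with hRd
  set T := (powMonoidHom q : H →* H).range with hT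
  have hqp : ∀ x : H, (x ^ q) ^ p = 1 := by
    intro x
    rw [← pow_mul, hq, ← pow_succ]
    exact hexp x
  obtain ⟨u, hu⟩ : ∃ u : H, u ^ q ≠ 1 := by
    by_contra hall
    push Not at hall
    have h1 : T = ⊥ := by
      rw [eq_bot_iff]
      rintro _ ⟨y, rfl⟩
      exact Subgroup.mem_bot.2 (hall y)
    rw [h1, Subgroup.card_bot] at hTc
    have := Nat.one_lt_pow (n := 2) (by norm_num) hpp.one_lt
    omega
  set t₁ := u ^ q with ht₁
  have ho₁ : orderOf t₁ = p := orderOf_eq_prime (hqp u) hu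
  have hc₁ : Nat.card (Subgroup.zpowers t₁) = p := by rw [Nat.card_zpowers, ho₁]
  obtain ⟨v, hv⟩ : ∃ v : H, v ^ q ∉ Subgroup.zpowers t₁ := by
    by_contra hall
    push Not at hall
    have h1 : T ≤ Subgroup.zpowers t₁ := by
      rintro _ ⟨y, rfl⟩
      exact hall y
    have h2 := Subgroup.card_le_of_le h1
    rw [hTc, hc₁] at h2
    have := hpp.two_le
    nlinarith
  set t₂ := v ^ q with ht₂
  have ho₂ : orderOf t₂ = p := by
    apply orderOf_eq_prime (hqp v)
    intro h
    apply hv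
    have h' : t₂ = 1 := h
    rw [h']
    exact Subgroup.one_mem _
  have hind : ∀ i' j' : ℕ, t₁ ^ i' * t₂ ^ j' = 1 → p ∣ i' ∧ p ∣ j' := by
    intro i' j' h
    have hj : p ∣ j' := by
      by_contra hj
      obtain ⟨m, -, hm⟩ := Nat.exists_mul_mod_eq_one_of_coprime ((Nat.Prime.coprime_iff_not_dvd hpp).2 hj).symm hpp.one_lt
      apply hv
      have h1 : t₂ = (t₂ ^ j') ^ m := by
        rw [← pow_mul]
        nth_rewrite 1 [← pow_one t₂]
        rw [← hm, ← ho₂, pow_mod_orderOf]
      have h2 : t₂ ^ j' = (t₁ ^ i')⁻¹ := eq_inv_of_mul_eq_one_right h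
      rw [h1, h2]
      apply Subgroup.pow_mem
      apply Subgroup.inv_mem
      exact Subgroup.pow_mem _ (Subgroup.mem_zpowers _) _
    refine ⟨?_, hj⟩
    have h1 : t₂ ^ j' = 1 := by
      rw [← orderOf_dvd_iff_pow_eq_one, ho₂]; exact hj
    rw [h1, mul_one] at h
    rw [← ho₁]
    exact orderOf_dvd_of_pow_eq_one h
  set n := p ^ (b + 1) with hn
  haveI : NeZero n := ⟨pow_ne_zero _ hpp.ne_zero⟩
  let gg : H → H → ZMod n →+ Additive H := fun _ x => if hx : x ^ n = 1 then
    ZMod.lift n ⟨zmultiplesHom (Additive H) (Additive.ofMul x), by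
      rw [zmultiplesHom_apply, natCast_zsmul, ← ofMul_pow, hx]; rfl⟩ else 0
  have hgg : ∀ x : H, x ^ n = 1 → ∀ i : ℕ, gg 1 x (i : ZMod n) = Additive.ofMul (x ^ i) := by
    intro x hx i
    have h1 : ((i : ℕ) : ZMod n) = (((i : ℤ)) : ZMod n) := by push_cast; rfl
    simp only [gg, dif_pos hx]
    rw [h1, ZMod.lift_coe]
    show (zmultiplesHom (Additive H) (Additive.ofMul x)) (i : ℤ) = _
    rw [zmultiplesHom_apply, natCast_zsmul, ofMul_pow]
  let F : ZMod n × ZMod n →+ Additive H := (gg 1 u).coprod (gg 1 v)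
  let f : Multiplicative (ZMod n × ZMod n) →* H := AddMonoidHom.toMultiplicativeLeft F
  have hf : ∀ i j : ℕ, f (Multiplicative.ofAdd ((i : ZMod n), (j : ZMod n))) = u ^ i * v ^ j := by
    intro i j
    show Additive.toMul (gg 1 u (i : ZMod n) + gg 1 v (j : ZMod n)) = _
    rw [hgg u (hexp u) i, hgg v (hexp v) j]
    rfl
  -- surjectivity
  have hC : ∀ x : H, x ∈ f.range := by
    have hu' : u ∈ f.range := ⟨Multiplicative.ofAdd (((1 : ℕ) : ZMod n), ((0 : ℕ) : ZMod n)), by
      rw [hf]; simp⟩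
    have hv' : v ∈ f.range := ⟨Multiplicative.ofAdd (((0 : ℕ) : ZMod n), ((1 : ℕ) : ZMod n)), by
      rw [hf]; simp⟩
    apply iter_top hP
    set W := f.range.map (powMonoidHom q : H →* H) with hW
    have ht₁W : t₁ ∈ W := ⟨u, hu', rfl⟩
    have ht₂W : t₂ ∈ W := ⟨v, hv', rfl⟩
    have hWT : W ≤ T := by
      rintro _ ⟨y, -, rfl⟩
      exact ⟨y, rfl⟩
    have hZW : Subgroup.zpowers t₁ ≤ W := by rw [Subgroup.zpowers_le]; exact ht₁W
    have hne : Subgroup.zpowers t₁ ≠ W := fun h => hv (h ▸ ht₂W)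
    have hcW := p_mul_card_le hP hZW hne
    rw [hc₁] at hcW
    have hWeq : W = T := by
      apply Subgroup.eq_of_le_of_card_ge hWT
      rw [hTc, pow_two]
      exact hcW
    intro x
    have hxT : x ^ q ∈ W := by rw [hWeq]; exact ⟨x, rfl⟩
    obtain ⟨c, hc, hcx⟩ := hxT
    have h1 : c ^ q = x ^ q := hcx
    have h2 : (x * c⁻¹) ^ q = 1 := by rw [mul_pow, inv_pow, h1, mul_inv_cancel]
    obtain ⟨y, hy⟩ := hKR _ h2
    refine ⟨c, hc, y, ?_⟩
    have h3 : y ^ p = x * c⁻¹ := hy
    rw [h3, mul_comm x, mul_inv_cancel_left]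
  -- injectivity
  have hinj : Function.Injective f := by
    rw [injective_iff_map_eq_one]
    intro w hw
    set s := (Multiplicative.toAdd w).1 with hs
    set t := (Multiplicative.toAdd w).2 with ht
    set i := s.val with hid
    set j := t.val with hjd
    have hsi : (i : ZMod n) = s := ZMod.natCast_zmod_val s
    have htj : (j : ZMod n) = t := ZMod.natCast_zmod_val t
    have hw' : w = Multiplicative.ofAdd ((i : ZMod n), (j : ZMod n)) := by
      rw [hsi, htj]; rfl
    rw [hw', hf] at hw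
    have hi : i < n := ZMod.val_lt s
    have hj : j < n := ZMod.val_lt t
    by_cases hij : i = 0 ∧ j = 0
    · rw [hw', hij.1, hij.2]
      simp
    exfalso
    have hg : Nat.gcd i j ≠ 0 := by
      intro h
      exact hij (Nat.gcd_eq_zero_iff.1 h)
    obtain ⟨r, g', hg', hgr⟩ := Nat.exists_eq_pow_mul_and_not_dvd hg p hpp.ne_one
    have hrg : p ^ r ∣ Nat.gcd i j := Dvd.intro _ hgr.symm
    obtain ⟨i', hi'⟩ := hrg.trans (Nat.gcd_dvd_left i j)
    obtain ⟨j', hj'⟩ := hrg.trans (Nat.gcd_dvd_right i j)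
    have hglt : Nat.gcd i j < n := by
      by_cases hi0 : i = 0
      · have hj0 : j ≠ 0 := fun h => hij ⟨hi0, h⟩
        exact lt_of_le_of_lt (Nat.le_of_dvd (Nat.pos_of_ne_zero hj0) (Nat.gcd_dvd_right i j)) hj
      · exact lt_of_le_of_lt (Nat.le_of_dvd (Nat.pos_of_ne_zero hi0) (Nat.gcd_dvd_left i j)) hi
    have hrb : r ≤ b := by
      by_contra hcon
      have h1 : p ^ (b + 1) ≤ p ^ r := Nat.pow_le_pow_right hpp.pos (by omega)
      have h2 : p ^ r ≤ Nat.gcd i j := Nat.le_of_dvd (Nat.pos_of_ne_zero hg) hrg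
      omega
    have he : p ^ r * p ^ (b - r) = q := by
      rw [← pow_add, hq]
      congr 1
      omega
    have hpow : t₁ ^ i' * t₂ ^ j' = 1 := by
      have h1 := congrArg (· ^ (p ^ (b - r))) hw
      simp only [one_pow] at h1
      rw [mul_pow, ← pow_mul, ← pow_mul, hi', hj'] at h1
      rw [← h1, ht₁, ht₂, ← pow_mul, ← pow_mul, ← he]
      congr 2 <;> ring
    obtain ⟨⟨a, ha⟩, ⟨c, hc⟩⟩ := hind i' j' hpow
    have h2 : p ^ r * p ∣ Nat.gcd i j := by
      apply Nat.dvd_gcd
      · rw [hi', ha]; exact ⟨a, by ring⟩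
      · rw [hj', hc]; exact ⟨c, by ring⟩
    rw [hgr] at h2
    exact hg' (Nat.dvd_of_mul_dvd_mul_left (pow_pos hpp.pos r) h2)
  exact ⟨(MulEquiv.ofBijective f ⟨hinj, fun x => hC x⟩).symm⟩

end abelian2

section main

variable {H : Type*} [CommGroup H] [Finite H]

open scoped commutatorElement

theorem rank2_main (hP : IsPGroup p H) (hrk : (frattini H).index ≤ p ^ 2) (A : Subgroup (MulAut H))
    (hO : ∀ B : Subgroup A, B.Normal → IsPGroup p B → ∀ b ∈ B, (b : MulAut H) ∈ Inn H)
    (hdvd : p ∣ ((Inn H).subgroupOf A).index) :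
    ((∀ x : H, x ^ p = 1) ∧ Nat.card H = p ^ 2) ∨
      (p ≤ 3 ∧ ∃ k : ℕ, Nonempty (H ≃* Multiplicative (ZMod (p ^ k) × ZMod (p ^ k)))) := by
  classical
  have hpp := hp.out
  haveI : Finite (MulAut H) := Finite.of_injective (fun α : MulAut H => (α : H → H)) DFunLike.coe_injective
  set R := (powMonoidHom p : H →* H).range with hRd
  have hΦ : frattini H ≤ R :=
    Cfsg.Agent.Lib.Amalgam.frattini_le_of_elementary_quotient R
      (fun a b => by
        rw [commutatorElement_eq_one_iff_mul_comm.2 (mul_comm a b)]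
        exact R.one_mem)
      (fun a => ⟨a, rfl⟩)
  have hidx : R.index ≤ p ^ 2 :=
    (Nat.le_of_dvd (Nat.pos_of_ne_zero Subgroup.index_ne_zero_of_finite) (Subgroup.index_dvd_of_le hΦ)).trans hrk
  have hR : Nat.card H ≤ p ^ 2 * Nat.card R := by
    rw [← Subgroup.card_mul_index R, mul_comm]
    exact Nat.mul_le_mul_right _ hidx
  obtain ⟨N, hN⟩ := IsPGroup.iff_card.1 hP
  have hex : ∃ a, ∀ x : H, x ^ (p ^ a) = 1 := ⟨N, fun x => by rw [← hN]; exact pow_card_eq_one'⟩
  have hspec := Nat.find_spec hex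
  have hmin : ∀ m, m < Nat.find hex → ¬ ∀ x : H, x ^ (p ^ m) = 1 := fun m hm => Nat.find_min hex hm
  rcases hfind : Nat.find hex with _ | b
  · exfalso
    rw [hfind] at hspec
    have h1 : ∀ x : H, x = 1 := fun x => by simpa using hspec x
    have h2 : (Inn H).subgroupOf A = ⊤ := by
      rw [eq_top_iff]
      intro a _
      rw [Subgroup.mem_subgroupOf]
      have h3 : (a : MulAut H) = 1 := by
        apply MulEquiv.ext
        intro x
        rw [h1 x]
        simp
      rw [h3]
      exact Subgroup.one_mem _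
    rw [h2, Subgroup.index_top] at hdvd
    exact hpp.one_lt.ne' (Nat.dvd_one.1 hdvd)
  rw [hfind] at hspec hmin
  have hexp : ∀ x : H, x ^ (p ^ (b + 1)) = 1 := hspec
  obtain ⟨x₁, hx₁⟩ : ∃ x₁ : H, x₁ ^ (p ^ b) ≠ 1 := by
    have := hmin b (Nat.lt_succ_self b)
    push Not at this
    exact this
  set q := p ^ b with hq
  have hqq : ∀ x : H, (x ^ p) ^ q = 1 := by
    intro x
    rw [← pow_mul, hq, ← pow_succ']
    exact hexp x
  set T := (powMonoidHom q : H →* H).range with hT
  set K := (powMonoidHom q : H →* H).ker with hK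
  have hmul : Nat.card K * Nat.card T = Nat.card H := by
    rw [← Subgroup.index_ker, Subgroup.card_mul_index]
  have hRK : R ≤ K := by
    rintro _ ⟨y, rfl⟩
    exact hqq y
  have hcRK := Subgroup.card_le_of_le hRK
  obtain ⟨t, ht⟩ := IsPGroup.iff_card.1 (hP.to_subgroup T)
  have ht0 : t ≠ 0 := by
    rintro rfl
    rw [pow_zero] at ht
    have h1 := Subgroup.eq_bot_of_card_eq _ ht
    have h2 : x₁ ^ q ∈ T := ⟨x₁, rfl⟩
    rw [h1] at h2
    exact hx₁ (Subgroup.mem_bot.1 h2)
  have hKpos : 0 < Nat.card K := Nat.card_pos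
  have ht2 : t ≤ 2 := by
    have h1 : Nat.card K * p ^ t ≤ Nat.card K * p ^ 2 := by
      rw [← ht, hmul, mul_comm]
      exact hR.trans (Nat.mul_le_mul_left _ hcRK)
    have h2 := Nat.le_of_mul_le_mul_left h1 hKpos
    exact (Nat.pow_le_pow_iff_right hpp.one_lt).1 h2
  have hcases : t = 1 ∨ t = 2 := by omega
  rcases hcases with rfl | rfl
  · exfalso
    rw [pow_one] at ht
    exact no_T_p hP A hO hdvd hR q hqq ht
  · have hRKeq : R = K := by
      apply Subgroup.eq_of_le_of_card_ge hRK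
      rw [ht, mul_comm] at hmul
      rw [← hmul] at hR
      exact Nat.le_of_mul_le_mul_left hR (pow_pos hpp.pos 2)
    have hKR' : ∀ y : H, y ^ q = 1 → y ∈ R := fun y hy => by
      rw [hRKeq]; exact hy
    by_cases hb : b = 0
    · subst hb
      left
      refine ⟨fun x => by simpa using hexp x, ?_⟩
      have h1 : K = ⊥ := by
        rw [eq_bot_iff]
        intro y hy
        have h2 : y ^ (p ^ 0) = 1 := hy
        simpa using h2
      rw [h1, Subgroup.card_bot, one_mul, ht] at hmul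
      exact hmul.symm
    · right
      refine ⟨?_, b + 1, homocyclic_iso hP b hexp ht hKR'⟩
      by_contra hp3
      push Not at hp3
      have hp5 : 5 ≤ p := by
        by_contra hp4
        have hp4' : p = 4 := by omega
        rw [hp4'] at hpp
        exact absurd hpp (by norm_num)
      refine no_big hp5 hP A hO hdvd hR (fun y hy => hKR' y ?_)
      obtain ⟨c, rfl⟩ : ∃ c, b = c + 1 := ⟨b - 1, by omega⟩
      rw [hq, pow_succ', pow_mul, hy, one_pow]

end main

end Cfsg.Agent.Lib.Cl.EssRank2
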