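import Mathlib
import Cfsg.Agent.Lib.Cl.EssRank2
import Cfsg.Agent.Lib.Cl.EssFour
import Cfsg.Agent.Lib.Cl.EssData
import Cfsg.Agent.Lib.Fusion.Embedded
import Cfsg.Agent.Lib.Fusion.Saturated
import Cfsg.Agent.Lib.Fusion.Essential
import Cfsg.Agent.Lib.PGroup.Basic

set_option autoImplicit false

namespace Cfsg.Agent.Lib.Cl.EssIdx

open Cfsg.Agent.Lib.Cl.EssChain Cfsg.Agent.Lib.Cl.EssCube Cfsg.Agent.Lib.Cl.EssRank2

variable {p : ℕ} [hp : Fact p.Prime]

/-- A subgroup containing a subgroup of prime index properly is everything. -/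
theorem top_of_index_prime {H : Type*} [Group H] {R K : Subgroup H} (hR : R.index = p) (hRK : R ≤ K) {x : H}
    (hx : x ∈ K) (hxR : x ∉ R) : K = ⊤ := by
  have h1 : R.relIndex K * K.index = R.index := Subgroup.relIndex_mul_index hRK
  rw [hR] at h1
  rcases (Nat.dvd_prime hp.out).1 (Dvd.intro_left _ h1) with h2 | h2
  · exact Subgroup.index_eq_one.1 h2
  · exfalso
    rw [h2] at h1
    have h3 : R.relIndex K = 1 := by
      have := hp.out.pos
      nlinarith
    have h4 : K ≤ R := Subgroup.relIndex_eq_one.1 h3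
    exact hxR (h4 hx)

/-- A `p`-subgroup normalised by a Sylow subgroup lies in it. -/
theorem le_sylow_of_normalizes {G : Type*} [Group G] (U : Sylow p G) (V : Subgroup G) (hV : IsPGroup p V)
    (h : ∀ u ∈ (U : Subgroup G), ∀ v ∈ V, u * v * u⁻¹ ∈ V) [Finite G] : V ≤ U := by
  have hU : (U : Subgroup G) ≤ Subgroup.normalizer (V : Set G) := by
    intro u hu
    rw [Subgroup.mem_normalizer_iff]
    intro v
    refine ⟨fun hv => h u hu v hv, fun hv => ?_⟩
    have := h u⁻¹ (Subgroup.inv_mem _ hu) _ hv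
    simpa [mul_assoc] using this
  have h1 : IsPGroup p ((U : Subgroup G) ⊔ V : Subgroup G) :=
    IsPGroup.to_sup_of_normal_right' U.isPGroup' hV hU
  have h2 := U.is_maximal' h1 le_sup_left
  calc V ≤ (U : Subgroup G) ⊔ V := le_sup_right
    _ = U := h2

section axis

variable {H : Type*} [Group H]

/-- The automorphisms in `X` which fix `W` pointwise and centralise `H / W`. -/
def Vof (X : Subgroup (MulAut H)) (W : Subgroup H) : Subgroup X where
  carrier := {α | (∀ w ∈ W, (α : MulAut H) w = w) ∧ ∀ y, y⁻¹ * (α : MulAut H) y ∈ W}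
  one_mem' := ⟨fun w _ => rfl, fun y => by
    show y⁻¹ * y ∈ W
    simp [W.one_mem]⟩
  mul_mem' := by
    rintro a b ⟨ha1, ha2⟩ ⟨hb1, hb2⟩
    refine ⟨fun w hw => ?_, fun y => ?_⟩
    · show (a : MulAut H) ((b : MulAut H) w) = w
      rw [hb1 w hw, ha1 w hw]
    · show y⁻¹ * (a : MulAut H) ((b : MulAut H) y) ∈ W
      have h1 : (b : MulAut H) y = y * (y⁻¹ * (b : MulAut H) y) := by group
      rw [h1, map_mul, ha1 _ (hb2 y), ← mul_assoc]
      exact W.mul_mem (ha2 y) (hb2 y)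
  inv_mem' := by
    rintro a ⟨ha1, ha2⟩
    have hinv : ∀ z, (a : MulAut H) (((a⁻¹ : X) : MulAut H) z) = z := fun z => by
      show ((a * a⁻¹ : X) : MulAut H) z = z
      simp
    refine ⟨fun w hw => ?_, fun y => ?_⟩
    · apply (a : MulAut H).injective
      rw [hinv, ha1 w hw]
    · have h1 := W.inv_mem (ha2 (((a⁻¹ : X) : MulAut H) y))
      rw [hinv] at h1
      have h2 : ((((a⁻¹ : X) : MulAut H) y)⁻¹ * y)⁻¹ = y⁻¹ * ((a⁻¹ : X) : MulAut H) y := by group
      rwa [h2] at h1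

theorem Vof_isPGroup [Finite H] (hP : IsPGroup p H) (X : Subgroup (MulAut H)) (W : Subgroup H) :
    IsPGroup p (Vof X W) := by
  classical
  haveI : Finite (MulAut H) := Finite.of_injective (fun α : MulAut H => (α : H → H)) DFunLike.coe_injective
  rintro ⟨b, hb⟩
  have ho : orderOf (b : MulAut H) ≠ 0 := (orderOf_pos _).ne'
  obtain ⟨e, m, hm, hom⟩ := Nat.exists_eq_pow_mul_and_not_dvd ho p hp.out.ne_one
  refine ⟨e, ?_⟩
  have hbB : b ^ (p ^ e) ∈ Vof X W := (Vof X W).pow_mem hb _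
  set β : MulAut H := ((b ^ (p ^ e) : X) : MulAut H) with hβ
  have hβm : β ^ m = 1 := by
    rw [hβ, Subgroup.coe_pow, ← pow_mul, ← hom, pow_orderOf_eq_one]
  have hcop : m.Coprime p := ((Nat.Prime.coprime_iff_not_dvd hp.out).2 hm).symm
  have hβ1 : β = 1 := by
    ext y
    have h1 := coprime_step hP (⊥ : Subgroup H) W β (fun z hz => by rw [hbB.1 z hz]; exact hz)
      (fun z hz => by rw [hbB.1 z hz]; simp) m hβm hcop (hbB.2 y)
    rw [Subgroup.mem_bot] at h1
    exact (inv_mul_eq_one.1 h1).symm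
  apply Subtype.ext
  apply Subtype.ext
  simpa [hβ] using hβ1

theorem Vof_le [Finite H] (hP : IsPGroup p H) (X : Subgroup (MulAut H)) (U : Sylow p X) (W : Subgroup H)
    (hfix : ∀ u ∈ (U : Subgroup X), ∀ w ∈ W, (u : MulAut H) w = w) : Vof X W ≤ U := by
  haveI : Finite (MulAut H) := Finite.of_injective (fun α : MulAut H => (α : H → H)) DFunLike.coe_injective
  apply le_sylow_of_normalizes U _ (Vof_isPGroup hP X W)
  rintro u hu α ⟨ha1, ha2⟩
  have hinv : ∀ z, (u : MulAut H) (((u⁻¹ : X) : MulAut H) z) = z := fun z => by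
    show ((u * u⁻¹ : X) : MulAut H) z = z
    simp
  have hinvW : ∀ w ∈ W, ((u⁻¹ : X) : MulAut H) w = w := fun w hw => by
    apply (u : MulAut H).injective
    rw [hinv, hfix u hu w hw]
  refine ⟨fun w hw => ?_, fun y => ?_⟩
  · show (u : MulAut H) ((α : MulAut H) (((u⁻¹ : X) : MulAut H) w)) = w
    rw [hinvW w hw, ha1 w hw, hfix u hu w hw]
  · show y⁻¹ * (u : MulAut H) ((α : MulAut H) (((u⁻¹ : X) : MulAut H) y)) ∈ W
    set y' := ((u⁻¹ : X) : MulAut H) y with hy'
    have h1 : (α : MulAut H) y' = y' * (y'⁻¹ * (α : MulAut H) y') := by group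
    rw [h1, map_mul, hy', hinv, ← hy', hfix u hu _ (ha2 y')]
    simpa using ha2 y'

theorem Vof_conj (X : Subgroup (MulAut H)) (W : Subgroup H) (a : X) {α : X} (hα : α ∈ Vof X W) :
    a * α * a⁻¹ ∈ Vof X (W.map ((a : MulAut H) : H ≃* H).toMonoidHom) := by
  obtain ⟨ha1, ha2⟩ := hα
  have hinv : ∀ z, (a : MulAut H) (((a⁻¹ : X) : MulAut H) z) = z := fun z => by
    show ((a * a⁻¹ : X) : MulAut H) z = z
    simp
  have hinv' : ∀ z, ((a⁻¹ : X) : MulAut H) ((a : MulAut H) z) = z := fun z => by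
    show ((a⁻¹ * a : X) : MulAut H) z = z
    simp
  refine ⟨?_, fun y => ?_⟩
  · rintro _ ⟨w, hw, rfl⟩
    show (a : MulAut H) ((α : MulAut H) (((a⁻¹ : X) : MulAut H) ((a : MulAut H) w))) = (a : MulAut H) w
    rw [hinv', ha1 w hw]
  · show y⁻¹ * (a : MulAut H) ((α : MulAut H) (((a⁻¹ : X) : MulAut H) y)) ∈ _
    set y' := ((a⁻¹ : X) : MulAut H) y with hy'
    have h1 : (α : MulAut H) y' = y' * (y'⁻¹ * (α : MulAut H) y') := by group
    rw [h1, map_mul, hy', hinv, ← hy']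
    have h2 : y⁻¹ * (y * (a : MulAut H) (y'⁻¹ * (α : MulAut H) y')) = (a : MulAut H) (y'⁻¹ * (α : MulAut H) y') := by
      group
    rw [h2]
    exact ⟨_, ha2 y', rfl⟩

/-- The key bound for an abelian `H`. -/
theorem axis_card [Finite H] (hP : IsPGroup p H) (hc : ∀ a b : H, a * b = b * a)
    (X : Subgroup (MulAut H)) (U : Sylow p X) (a : X)
    (ha : ∀ V : Subgroup X, V ≠ ⊥ → V ≤ U → ¬ ∀ v ∈ V, a * v * a⁻¹ ∈ (U : Subgroup X))
    (R : Subgroup H) (hRi : R.index = p)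
    (hfix : ∀ u ∈ (U : Subgroup X), ∀ r ∈ R, (u : MulAut H) r = r)
    (hcomm : ∀ u ∈ (U : Subgroup X), ∀ y, y⁻¹ * (u : MulAut H) y ∈ R) :
    Nat.card U ≤ p := by
  classical
  haveI : Finite (MulAut H) := Finite.of_injective (fun α : MulAut H => (α : H → H)) DFunLike.coe_injective
  -- the two axes
  set R₁ : Subgroup H := R.comap ((a : MulAut H) : H ≃* H).toMonoidHom with hR₁
  set W : Subgroup H := R ⊓ R₁ with hW
  set W₂ : Subgroup H := W.map ((a : MulAut H) : H ≃* H).toMonoidHom with hW₂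
  have hWR : W ≤ R := inf_le_left
  have hW₂R : W₂ ≤ R := by
    rintro _ ⟨w, hw, rfl⟩
    exact hw.2
  have hV1 : Vof X W ≤ U := Vof_le hP X U W (fun u hu w hw => hfix u hu w (hWR hw))
  have hV2 : Vof X W₂ ≤ U := Vof_le hP X U W₂ (fun u hu w hw => hfix u hu w (hW₂R hw))
  have hVbot : Vof X W = ⊥ := by
    by_contra hne
    exact ha _ hne hV1 (fun v hv => hV2 (Vof_conj X W a hv))
  -- an element outside the axis
  have hRne : R ≠ ⊤ := by
    rintro rfl
    rw [Subgroup.index_top] at hRi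
    exact hp.out.ne_one hRi.symm
  obtain ⟨x, hx⟩ : ∃ x, x ∉ R := by
    by_contra h
    push Not at h
    exact hRne (eq_top_iff.2 fun y _ => h y)
  -- the injection
  have hnW : (W.subgroupOf R).Normal := by
    haveI : W.Normal := ⟨fun n hn g => by
      have := hc g n
      rw [this]; simpa using hn⟩
    infer_instance
  let f : U → (R ⧸ W.subgroupOf R) := fun u => ((⟨x⁻¹ * (u.1 : MulAut H) x, hcomm u.1 u.2 x⟩ : R) : R ⧸ W.subgroupOf R)
  have hf : Function.Injective f := by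
    rintro ⟨u, hu⟩ ⟨v, hv⟩ huv
    have h1 := QuotientGroup.eq.1 huv
    rw [Subgroup.mem_subgroupOf] at h1
    simp only [Subgroup.coe_mul, Subgroup.coe_inv] at h1
    -- `t = u⁻¹ v` lies in `Vof`
    have hinv : ∀ z, (u : MulAut H) (((u⁻¹ : X) : MulAut H) z) = z := fun z => by
      show ((u * u⁻¹ : X) : MulAut H) z = z
      simp
    have huinvR : ∀ r ∈ R, ((u⁻¹ : X) : MulAut H) r = r := fun r hr => by
      apply (u : MulAut H).injective
      rw [hinv, hfix u hu r hr]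
    have htR : ∀ r ∈ R, ((u⁻¹ * v : X) : MulAut H) r = r := fun r hr => by
      show ((u⁻¹ : X) : MulAut H) ((v : MulAut H) r) = r
      rw [hfix v hv r hr, huinvR r hr]
    set ru := x⁻¹ * (u : MulAut H) x with hru
    set rv := x⁻¹ * (v : MulAut H) x with hrv
    have hruR : ru ∈ R := hcomm u hu x
    have hrvR : rv ∈ R := hcomm v hv x
    have hux : (u : MulAut H) x = x * ru := by rw [hru]; group
    have hvx : (v : MulAut H) x = x * rv := by rw [hrv]; group
    have hu1 : ((u⁻¹ : X) : MulAut H) x = x * ru⁻¹ := by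
      apply (u : MulAut H).injective
      rw [hinv, map_mul, hux, map_inv, hfix u hu _ hruR]
      group
    have htx : x⁻¹ * ((u⁻¹ * v : X) : MulAut H) x ∈ W := by
      have h2 : ((u⁻¹ * v : X) : MulAut H) x = x * (ru⁻¹ * rv) := by
        show ((u⁻¹ : X) : MulAut H) ((v : MulAut H) x) = _
        rw [hvx, map_mul, hu1, huinvR _ hrvR]
        group
      rw [h2]
      simpa using h1
    -- the set of `y` with `y⁻¹ t y ∈ W` is a subgroup containing `R` and `x`
    let Fix : Subgroup H :=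
      { carrier := {y | y⁻¹ * ((u⁻¹ * v : X) : MulAut H) y ∈ W}
        one_mem' := by simp [W.one_mem]
        mul_mem' := by
          intro y z hy hz
          have h3 : (y * z)⁻¹ * ((u⁻¹ * v : X) : MulAut H) (y * z)
              = (y⁻¹ * ((u⁻¹ * v : X) : MulAut H) y) * (z⁻¹ * ((u⁻¹ * v : X) : MulAut H) z) := by
            rw [map_mul, mul_inv_rev]
            set A' := ((u⁻¹ * v : X) : MulAut H) y
            set B' := ((u⁻¹ * v : X) : MulAut H) z
            calc z⁻¹ * y⁻¹ * (A' * B') = y⁻¹ * z⁻¹ * (A' * B') := by rw [hc z⁻¹ y⁻¹]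
              _ = y⁻¹ * (z⁻¹ * A') * B' := by group
              _ = y⁻¹ * (A' * z⁻¹) * B' := by rw [hc z⁻¹ A']
              _ = _ := by group
          show (y * z)⁻¹ * ((u⁻¹ * v : X) : MulAut H) (y * z) ∈ W
          rw [h3]
          exact W.mul_mem hy hz
        inv_mem' := by
          intro y hy
          have h3 : y⁻¹⁻¹ * ((u⁻¹ * v : X) : MulAut H) y⁻¹ = (y⁻¹ * ((u⁻¹ * v : X) : MulAut H) y)⁻¹ := by
            rw [map_inv, inv_inv, mul_inv_rev, inv_inv, hc]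
          show y⁻¹⁻¹ * ((u⁻¹ * v : X) : MulAut H) y⁻¹ ∈ W
          rw [h3]
          exact W.inv_mem hy }
    have hFixR : R ≤ Fix := fun r hr => by
      show r⁻¹ * ((u⁻¹ * v : X) : MulAut H) r ∈ W
      rw [htR r hr]
      simp [W.one_mem]
    have hFix : Fix = ⊤ := top_of_index_prime hRi hFixR (x := x) htx hx
    have ht : (u⁻¹ * v : X) ∈ Vof X W := by
      refine ⟨fun w hw => htR w (hWR hw), fun y => ?_⟩
      have : y ∈ Fix := by rw [hFix]; exact Subgroup.mem_top y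
      exact this
    rw [hVbot, Subgroup.mem_bot] at ht
    have h9 : u = v := by
      have := inv_mul_eq_one.1 ht
      exact this
    exact Subtype.ext h9
  have hcard : Nat.card U ≤ Nat.card (R ⧸ W.subgroupOf R) := Nat.card_le_card_of_injective f hf
  have h2 : Nat.card (R ⧸ W.subgroupOf R) = R₁.relIndex R := by
    rw [← Subgroup.index_eq_card, hW]
    show (R ⊓ R₁).relIndex R = R₁.relIndex R
    exact Subgroup.inf_relIndex_left R R₁
  have h3 : R₁.index = p := by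
    rw [hR₁, Subgroup.index_comap_of_surjective _ ((a : MulAut H) : H ≃* H).surjective, hRi]
  have hn1 : R₁.Normal := ⟨fun n hn g => by
      have := hc g n
      rw [this]; simpa using hn⟩
  have h4 : R₁.relIndex R ∣ R₁.index := Subgroup.relIndex_dvd_index_of_normal R₁ R
  rw [h3] at h4
  calc Nat.card U ≤ R₁.relIndex R := by rw [← h2]; exact hcard
    _ ≤ p := Nat.le_of_dvd hp.out.pos h4

end axis

section counting

open Cfsg.Agent.Lib.Cl.EssFour

theorem card_le_ker_mul {G Q : Type*} [Group G] [Group Q] [Finite G] [Finite Q] (f : G →* Q) (K : Subgroup G)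
    (W : Subgroup Q) (h : K.map f ≤ W) : Nat.card K ≤ Nat.card f.ker * Nat.card W := by
  let g : K →* Q := f.comp K.subtype
  have h1 : Nat.card g.ker * Nat.card g.range = Nat.card K := by
    have := Subgroup.card_mul_index g.ker
    rwa [Subgroup.index_ker] at this
  have h2 : Nat.card g.ker ≤ Nat.card f.ker := by
    let e : g.ker → f.ker := fun y => ⟨y.1.1, y.2⟩
    apply Nat.card_le_card_of_injective e
    rintro ⟨⟨a, ha⟩, ha2⟩ ⟨⟨b, hb⟩, hb2⟩ hab
    apply Subtype.ext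
    apply Subtype.ext
    exact congrArg (fun y : f.ker => (y : G)) hab
  have h3 : g.range ≤ W := by
    rintro _ ⟨y, rfl⟩
    exact h ⟨y.1, y.2, rfl⟩
  have h4 : Nat.card g.range ≤ Nat.card W := Subgroup.card_le_of_le h3
  rw [← h1]
  exact Nat.mul_le_mul h2 h4

/-- A proper subgroup `K < L` of a `p`-group with `|L| ≤ p |K|` has index exactly `p`. -/
theorem card_eq_of_lt_le {G : Type*} [Group G] {K L : Subgroup G} [Finite K] [Finite L] (hL : IsPGroup p L) (hKL : K ≤ L)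
    (hne : ¬ L ≤ K) (hcard : Nat.card L ≤ p * Nat.card K) : Nat.card L = p * Nat.card K := by
  have h1 := card_mul_relIndex_of_le hKL
  have hpos : 0 < Nat.card K := Nat.card_pos
  have h2 : K.relIndex L ≤ p := by
    rw [← h1, mul_comm] at hcard
    exact Nat.le_of_mul_le_mul_right hcard hpos
  have h3 : K.relIndex L ≠ 1 := fun h => hne (Subgroup.relIndex_eq_one.1 h)
  obtain ⟨n, hn⟩ := IsPGroup.iff_card.1 hL
  have h4 : K.relIndex L ∣ p ^ n := by
    rw [← hn, ← h1]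
    exact dvd_mul_left _ _
  obtain ⟨j, hj, hj2⟩ := (Nat.dvd_prime_pow hp.out).1 h4
  have hj0 : j ≠ 0 := by
    rintro rfl
    exact h3 (by simpa using hj2)
  have hj1 : j = 1 := by
    by_contra hne1
    have h5 : 2 ≤ j := by omega
    have h6 : p ^ 2 ≤ p ^ j := Nat.pow_le_pow_right hp.out.pos h5
    rw [hj2] at h2
    have := hp.out.two_le
    nlinarith
  subst hj1
  rw [← h1, hj2, pow_one, mul_comm]

/-- Iterates of an endomorphism. -/
def iter {B : Type*} [Group B] (τ : B →* B) : ℕ → (B →* B)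
  | 0 => MonoidHom.id B
  | k + 1 => τ.comp (iter τ k)

variable {B : Type*} [Group B] [Finite B] (τ : B →* B) (Z₀ : Subgroup B) [Z₀.Normal]

theorem relIndex_eq_of_ker (hker : τ.ker = Z₀) (hD : Nat.card (Z₀.comap τ) = p * Nat.card Z₀) :
    Z₀.relIndex (Z₀.comap τ) = p := by
  have hle : Z₀ ≤ Z₀.comap τ := by
    rw [← hker]
    intro a ha
    have h1 : τ a = 1 := ha
    show τ a ∈ τ.ker
    rw [h1]
    exact Subgroup.one_mem _
  have h1 := card_mul_relIndex_of_le hle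
  rw [hD] at h1
  have hpos : 0 < Nat.card Z₀ := Nat.card_pos
  have : Nat.card Z₀ * Z₀.relIndex (Z₀.comap τ) = Nat.card Z₀ * p := by rw [h1]; ring
  exact Nat.eq_of_mul_eq_mul_left hpos this

/-- `|Z₀ ∩ τ(B)| = p`. -/
theorem card_inf_range (hker : τ.ker = Z₀) (hD : Nat.card (Z₀.comap τ) = p * Nat.card Z₀) :
    Nat.card (Z₀ ⊓ τ.range : Subgroup B) = p := by
  have h1 : (Z₀.comap τ).map τ = Z₀ ⊓ τ.range := by
    rw [Subgroup.map_comap_eq, inf_comm]
  rw [← h1, ← Subgroup.relIndex_ker, hker]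
  exact relIndex_eq_of_ker τ Z₀ hker hD

/-- `|B : Z₀ τ(B)| = p`. -/
theorem card_sup_range (hker : τ.ker = Z₀) (hD : Nat.card (Z₀.comap τ) = p * Nat.card Z₀) :
    Nat.card (Z₀ ⊔ τ.range : Subgroup B) * p = Nat.card B := by
  let g : B →* B ⧸ Z₀ := QuotientGroup.mk' Z₀
  have hg : g.ker = Z₀ := QuotientGroup.ker_mk' Z₀
  let f : B →* B ⧸ Z₀ := g.comp τ
  have hfk : f.ker = Z₀.comap τ := by
    ext a
    show g (τ a) = 1 ↔ τ a ∈ Z₀
    rw [← MonoidHom.mem_ker, hg]
  have h1 : Nat.card f.ker * Nat.card f.range = Nat.card B := by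
    have := Subgroup.card_mul_index f.ker
    rwa [Subgroup.index_ker] at this
  have h2 : f.range = (Z₀ ⊔ τ.range).map g := by
    rw [Subgroup.map_sup]
    have h3 : Z₀.map g = ⊥ := by
      rw [Subgroup.map_eq_bot_iff, hg]
    rw [h3, bot_sup_eq]
    show (g.comp τ).range = τ.range.map g
    rw [MonoidHom.range_comp]
  have h4 : Nat.card f.range = Z₀.relIndex (Z₀ ⊔ τ.range) := by
    rw [h2, ← Subgroup.relIndex_ker, hg]
  have h5 := card_mul_relIndex_of_le (show Z₀ ≤ Z₀ ⊔ τ.range from le_sup_left)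
  rw [← h4] at h5
  rw [hfk, hD] at h1
  have hpos : 0 < Nat.card f.range := Nat.card_pos
  rw [← h1, ← h5]
  ring

/-- `|ker (τ^k mod Z₀)| ≤ p^k |Z₀|`. -/
theorem card_comap_iter_le (hker : τ.ker = Z₀) (hD : Nat.card (Z₀.comap τ) = p * Nat.card Z₀) (k : ℕ) :
    Nat.card (Z₀.comap (iter τ k)) ≤ p ^ k * Nat.card Z₀ := by
  induction k with
  | zero =>
    have : Z₀.comap (iter τ 0) = Z₀ := by
      ext a
      rfl
    rw [this]
    simp
  | succ k ih =>
    let g : B →* B ⧸ Z₀ := QuotientGroup.mk' Z₀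
    have hg : g.ker = Z₀ := QuotientGroup.ker_mk' Z₀
    let f : B →* B ⧸ Z₀ := g.comp (iter τ k)
    have hfk : f.ker = Z₀.comap (iter τ k) := by
      ext a
      show g (iter τ k a) = 1 ↔ iter τ k a ∈ Z₀
      rw [← MonoidHom.mem_ker, hg]
    have h1 := card_le_ker_mul f (Z₀.comap (iter τ (k + 1))) ((Z₀.comap τ).map g) (by
      rintro _ ⟨a, ha, rfl⟩
      exact ⟨iter τ k a, ha, rfl⟩)
    have h2 : Nat.card ((Z₀.comap τ).map g) = p := by
      rw [← Subgroup.relIndex_ker, hg]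
      exact relIndex_eq_of_ker τ Z₀ hker hD
    rw [hfk, h2] at h1
    calc _ ≤ _ := h1
      _ ≤ p ^ k * Nat.card Z₀ * p := Nat.mul_le_mul_right _ ih
      _ = _ := by rw [pow_succ]; ring

end counting

section setting

open Cfsg.Agent.Lib.Cl.EssFour

variable {Ω : Type*} [Group Ω] {S A : Subgroup Ω}

/-- The centre of `S`, as a subgroup of the ambient group. -/
abbrev Zc (S : Subgroup Ω) : Subgroup Ω := S ⊓ Subgroup.centralizer (S : Set Ω)

/-- The setting: an abelian subgroup of index `p` in a nonabelian `p`-group. -/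
structure IdxData (p : ℕ) (S A : Subgroup Ω) : Prop where
  hS : IsPGroup p S
  le : A ≤ S
  comm : ∀ a ∈ A, ∀ b ∈ A, a * b = b * a
  idx : (A.subgroupOf S).index = p
  na : ¬ IsMulCommutative ↥S

variable [Finite S]

theorem IdxData.normal (hd : IdxData p S A) : (A.subgroupOf S).Normal :=
  Cfsg.Agent.Lib.PGroup.normal_of_index_eq_prime hd.hS hd.idx

theorem IdxData.norm (hd : IdxData p S A) {s a : Ω} (hs : s ∈ S) (ha : a ∈ A) : s * a * s⁻¹ ∈ A := by
  have h1 := (hd.normal).conj_mem ⟨a, hd.le ha⟩ (Subgroup.mem_subgroupOf.2 ha) ⟨s, hs⟩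
  exact Subgroup.mem_subgroupOf.1 h1

theorem IdxData.comm_mem (hd : IdxData p S A) {s t : Ω} (hs : s ∈ S) (ht : t ∈ S) :
    s * t * s⁻¹ * t⁻¹ ∈ A := by
  haveI := hd.normal
  have hcard : Nat.card (↥S ⧸ A.subgroupOf S) = p := by
    rw [← Subgroup.index_eq_card]; exact hd.idx
  haveI : IsCyclic (↥S ⧸ A.subgroupOf S) := isCyclic_of_prime_card hcard
  let q : S →* ↥S ⧸ A.subgroupOf S := QuotientGroup.mk' (A.subgroupOf S)
  have h1 : q ⟨s, hs⟩ * q ⟨t, ht⟩ = q ⟨t, ht⟩ * q ⟨s, hs⟩ := by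
    letI := IsCyclic.commGroup (α := ↥S ⧸ A.subgroupOf S)
    exact mul_comm _ _
  have h2 : q ((⟨s, hs⟩ : S) * ⟨t, ht⟩ * (⟨s, hs⟩ : S)⁻¹ * (⟨t, ht⟩ : S)⁻¹) = 1 := by
    rw [map_mul, map_mul, map_mul, map_inv, map_inv, h1]
    group
  have h3 : ((⟨s, hs⟩ : S) * ⟨t, ht⟩ * (⟨s, hs⟩ : S)⁻¹ * (⟨t, ht⟩ : S)⁻¹) ∈ q.ker := h2
  rw [QuotientGroup.ker_mk', Subgroup.mem_subgroupOf] at h3
  exact h3

theorem IdxData.decomp (hd : IdxData p S A) {x : Ω} (hx : x ∈ S) (hxA : x ∉ A) {s : Ω} (hs : s ∈ S) :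
    ∃ i : ℕ, ∃ a ∈ A, s = x ^ i * a := by
  haveI := hd.normal
  let x' : S := ⟨x, hx⟩
  have h1 : Subgroup.zpowers x' ⊔ A.subgroupOf S = ⊤ :=
    top_of_index_prime hd.idx le_sup_right (x := x') (Subgroup.mem_sup_left (Subgroup.mem_zpowers x'))
      (by simpa [Subgroup.mem_subgroupOf, x'] using hxA)
  have h2 : (⟨s, hs⟩ : S) ∈ ((Subgroup.zpowers x' ⊔ A.subgroupOf S : Subgroup S) : Set S) := by
    rw [h1]; trivial
  rw [Subgroup.mul_normal, Set.mem_mul] at h2
  obtain ⟨z, hz, a, ha, hza⟩ := h2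
  obtain ⟨i, hi⟩ := (mem_powers_iff_mem_zpowers.2 hz)
  refine ⟨i, a, Subgroup.mem_subgroupOf.1 ha, ?_⟩
  have h3 := congrArg Subtype.val hza
  rw [← hi] at h3
  simpa [x'] using h3.symm

theorem IdxData.not_comm (hd : IdxData p S A) : ¬ ∀ s ∈ S, ∀ t ∈ S, s * t = t * s := by
  intro h
  apply hd.na
  exact ⟨⟨fun a b => Subtype.ext (h a a.2 b b.2)⟩⟩

theorem IdxData.Zle (hd : IdxData p S A) : Zc S ≤ A := by
  intro z hz
  by_contra hzA
  apply hd.not_comm
  have hzc : ∀ s ∈ S, s * z = z * s := fun s hs => (Subgroup.mem_centralizer_iff.1 hz.2 s hs)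
  intro s hs t ht
  obtain ⟨i, a, ha, rfl⟩ := hd.decomp hz.1 hzA hs
  obtain ⟨j, b, hb, rfl⟩ := hd.decomp hz.1 hzA ht
  have h1 : Commute (z ^ i) b := (Commute.pow_left (hzc b (hd.le hb)).symm i)
  have h2 : Commute (z ^ j) a := (Commute.pow_left (hzc a (hd.le ha)).symm j)
  have h3 : Commute a b := hd.comm a ha b hb
  have h4 : Commute (z ^ i) (z ^ j) := Commute.pow_pow_self z i j
  exact ((h4.mul_right h1).mul_left (h2.symm.mul_right h3))

theorem IdxData.mem_Z (hd : IdxData p S A) {x : Ω} (hx : x ∈ S) (hxA : x ∉ A) {a : Ω} (ha : a ∈ A)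
    (hc : a * x = x * a) : a ∈ Zc S := by
  refine ⟨hd.le ha, Subgroup.mem_centralizer_iff.2 fun s hs => ?_⟩
  obtain ⟨i, b, hb, rfl⟩ := hd.decomp hx hxA hs
  have h1 : Commute a (x ^ i) := Commute.pow_right hc i
  have h3 : Commute a b := hd.comm a ha b hb
  exact (h1.mul_right h3).symm

theorem IdxData.card_eq (hd : IdxData p S A) {B : Subgroup Ω} (hBS : B ≤ S) (hBA : ¬ B ≤ A) :
    Nat.card B = p * Nat.card (B ⊓ A : Subgroup Ω) := by
  haveI := hd.normal
  obtain ⟨y, hyB, hyA⟩ := SetLike.not_le_iff_exists.1 hBA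
  set A' := A.subgroupOf S with hA'
  set B' := B.subgroupOf S with hB'
  have h1 : B' ⊔ A' = ⊤ :=
    top_of_index_prime hd.idx le_sup_right (x := ⟨y, hBS hyB⟩)
      (Subgroup.mem_sup_left (Subgroup.mem_subgroupOf.2 hyB))
      (by simpa [Subgroup.mem_subgroupOf, hA'] using hyA)
  have h2 : A'.relIndex B' = p := by
    rw [← Subgroup.relIndex_sup_right, h1, Subgroup.relIndex_top_right]
    exact hd.idx
  have h3 := card_mul_relIndex_of_le (show A' ⊓ B' ≤ B' from inf_le_right)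
  rw [Subgroup.inf_relIndex_right, h2] at h3
  have h4 : Nat.card B' = Nat.card B := Nat.card_congr (Subgroup.subgroupOfEquivOfLe hBS).toEquiv
  have h5 : A' ⊓ B' = (B ⊓ A).subgroupOf S := by
    ext z
    simp [Subgroup.mem_subgroupOf, hA', hB', and_comm]
  have h6 : Nat.card (A' ⊓ B' : Subgroup S) = Nat.card (B ⊓ A : Subgroup Ω) := by
    rw [h5]
    exact Nat.card_congr (Subgroup.subgroupOfEquivOfLe (inf_le_left.trans hBS)).toEquiv
  rw [← h4, ← h3, h6, mul_comm]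

theorem IdxData.normal_sub (hd : IdxData p S A) (K : Subgroup A) : K.Normal :=
  ⟨fun n hn g => by
    have h1 : g * n = n * g := Subtype.ext (hd.comm g g.2 n n.2)
    rw [h1]
    simpa using hn⟩

/-- `a ↦ [a, x]` on `A`. -/
def tau (hd : IdxData p S A) {x : Ω} (hx : x ∈ S) : A →* A where
  toFun a := ⟨a * x * (a : Ω)⁻¹ * x⁻¹, hd.comm_mem (hd.le a.2) hx⟩
  map_one' := by
    apply Subtype.ext
    simp
  map_mul' a b := by
    apply Subtype.ext
    have hb : (b : Ω) * x * (b : Ω)⁻¹ * x⁻¹ ∈ A := hd.comm_mem (hd.le b.2) hx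
    have ha : (a : Ω) * x * (a : Ω)⁻¹ * x⁻¹ ∈ A := hd.comm_mem (hd.le a.2) hx
    show ((a : Ω) * b) * x * ((a : Ω) * b)⁻¹ * x⁻¹ = ((a : Ω) * x * (a : Ω)⁻¹ * x⁻¹) * ((b : Ω) * x * (b : Ω)⁻¹ * x⁻¹)
    have h1 := hd.comm _ a.2 _ hb
    have h2 := hd.comm _ ha _ hb
    rw [h2]
    calc ((a : Ω) * b) * x * ((a : Ω) * b)⁻¹ * x⁻¹
        = ((a : Ω) * ((b : Ω) * x * (b : Ω)⁻¹ * x⁻¹)) * (x * (a : Ω)⁻¹ * x⁻¹) := by group
      _ = ((b : Ω) * x * (b : Ω)⁻¹ * x⁻¹ * a) * (x * (a : Ω)⁻¹ * x⁻¹) := by rw [h1]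
      _ = _ := by group

@[simp] theorem tau_coe (hd : IdxData p S A) {x : Ω} (hx : x ∈ S) (a : A) :
    ((tau hd hx a : A) : Ω) = a * x * (a : Ω)⁻¹ * x⁻¹ := rfl

theorem tau_ker (hd : IdxData p S A) {x : Ω} (hx : x ∈ S) (hxA : x ∉ A) :
    (tau hd hx).ker = (Zc S).subgroupOf A := by
  ext a
  rw [MonoidHom.mem_ker, Subgroup.mem_subgroupOf]
  constructor
  · intro h
    have h1 : (a : Ω) * x * (a : Ω)⁻¹ * x⁻¹ = 1 := congrArg Subtype.val h
    apply hd.mem_Z hx hxA a.2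
    have h2 : (a : Ω) * x * (a : Ω)⁻¹ = x := mul_inv_eq_one.1 h1
    exact mul_inv_eq_iff_eq_mul.1 h2
  · intro h
    apply Subtype.ext
    have h1 : x * a = a * x := Subgroup.mem_centralizer_iff.1 h.2 x hx
    show (a : Ω) * x * (a : Ω)⁻¹ * x⁻¹ = 1
    rw [← h1]
    group

end setting

end Cfsg.Agent.Lib.Cl.EssIdx
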