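import Mathlib
import Cfsg.Agent.Lib.Cl.EssIdx
import Cfsg.Agent.Lib.Fusion.KeyLemma
import Cfsg.Agent.Lib.Fusion.Radical
import Cfsg.Agent.Lib.Fusion.Induction

set_option autoImplicit false

namespace Cfsg.Agent.Lib.Cl.EssIdx

open Cfsg Cfsg.FusionSystem Cfsg.Agent.Lib.Fusion Cfsg.Agent.Lib.Cl.EssChain
open Cfsg.Agent.Lib.Cl.EssCube Cfsg.Agent.Lib.Cl.EssRank2 Cfsg.Agent.Lib.Cl.EssFour
open scoped commutatorElement

variable {p : ℕ} [hp : Fact p.Prime]

/-- An abelian subgroup of prime index, if not characteristic, is close to the centre. -/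
theorem card_le_of_not_char {H : Type*} [Group H] [Finite H] (R : Subgroup H) (hRi : R.index = p)
    (hRc : ∀ a ∈ R, ∀ b ∈ R, a * b = b * a) (hch : ¬ R.Characteristic) :
    Nat.card R ≤ p * Nat.card (Subgroup.center H) := by
  rw [Subgroup.characteristic_iff_le_comap] at hch
  push Not at hch
  obtain ⟨α, hα⟩ := hch
  obtain ⟨r, hr, hαr⟩ := SetLike.not_le_iff_exists.1 hα
  have hαr' : α r ∉ R := hαr
  set R₂ : Subgroup H := R.map (α : H ≃* H).toMonoidHom with hR₂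
  have hmem : α r ∈ R₂ := ⟨r, hr, rfl⟩
  have hR₂c : ∀ a ∈ R₂, ∀ b ∈ R₂, a * b = b * a := by
    rintro _ ⟨a, ha, rfl⟩ _ ⟨b, hb, rfl⟩
    show α a * α b = α b * α a
    rw [← map_mul, ← map_mul, hRc a ha b hb]
  have hcen : R ⊓ R₂ ≤ Subgroup.center H := by
    rintro w ⟨hw1, hw2⟩
    have h1 : R ≤ Subgroup.centralizer {w} := fun y hy => by
      rw [Subgroup.mem_centralizer_singleton_iff]
      exact hRc y hy w hw1
    have h2 : α r ∈ Subgroup.centralizer {w} := by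
      rw [Subgroup.mem_centralizer_singleton_iff]
      exact hR₂c _ hmem w hw2
    have h3 : Subgroup.centralizer {w} = ⊤ := top_of_index_prime hRi h1 h2 hαr'
    rw [Subgroup.mem_center_iff]
    intro y
    have h4 : y ∈ Subgroup.centralizer {w} := by rw [h3]; trivial
    rw [Subgroup.mem_centralizer_singleton_iff] at h4
    exact h4
  have hi2 : R₂.index = p := by
    have h1 : R₂ = R.comap ((α⁻¹ : MulAut H) : H ≃* H).toMonoidHom := by
      ext y
      constructor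
      · rintro ⟨z, hz, rfl⟩
        show (α⁻¹ : MulAut H) (α z) ∈ R
        have : (α⁻¹ : MulAut H) (α z) = z := by
          show (α⁻¹ * α : MulAut H) z = z
          simp
        rwa [this]
      · intro hy
        refine ⟨(α⁻¹ : MulAut H) y, hy, ?_⟩
        show α ((α⁻¹ : MulAut H) y) = y
        show (α * α⁻¹ : MulAut H) y = y
        simp
    rw [h1, Subgroup.index_comap_of_surjective _ ((α⁻¹ : MulAut H) : H ≃* H).surjective, hRi]
  have h5 := card_mul_relIndex_of_le (show R ⊓ R₂ ≤ R from inf_le_left)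
  rw [Subgroup.inf_relIndex_left] at h5
  have h6 : R₂.relIndex R ≤ R₂.index := by
    have h7 := Subgroup.relIndex_mul_index (show R₂ ⊓ R ≤ R from inf_le_right)
    rw [Subgroup.inf_relIndex_right] at h7
    have h8 : (R₂ ⊓ R).index ≤ R₂.index * R.index := Subgroup.index_inf_le
    rw [← h7] at h8
    exact Nat.le_of_mul_le_mul_right h8 (by rw [hRi]; exact hp.out.pos)
  rw [hi2] at h6
  have h7 : Nat.card (R ⊓ R₂ : Subgroup H) ≤ Nat.card (Subgroup.center H) := Subgroup.card_le_of_le hcen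
  calc Nat.card R = Nat.card (R ⊓ R₂ : Subgroup H) * R₂.relIndex R := h5.symm
    _ ≤ Nat.card (Subgroup.center H) * p := Nat.mul_le_mul h7 h6
    _ = _ := mul_comm _ _

section ess

variable {Ω : Type*} [Group Ω] {S A P : Subgroup Ω} [Finite S] {F : FusionSystem S}

theorem centr_le (hP : F.IsEssential p P) {g : Ω} (hgS : g ∈ S) (hg : ∀ y ∈ P, y * g = g * y) : g ∈ P :=
  hP.1.2 P (Cfsg.Agent.Lib.Fusion.IsConj.refl hP.1.1) (mem_centralizerIn.2 ⟨hgS, hg⟩)

theorem not_S_le (hS : IsPGroup p S) (hF : F.IsSaturated p) (hP : F.IsEssential p P) : ¬ S ≤ P := by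
  intro hSP
  obtain ⟨hPS, hO, hdvd⟩ := Cfsg.Agent.Lib.Cl.EssData.data hS F hP
  haveI := finite_of_le hPS
  haveI := finite_autGroup F hPS
  obtain ⟨U, hU⟩ := (IsSat.fullyAutomized_of_fullyNormalized hS hF hP.2.1).2
  have h1 : (U : Subgroup (F.autGroup P)) ≤ (Inn P).subgroupOf (F.autGroup P) := by
    intro u hu
    rw [hU, Subgroup.mem_subgroupOf] at hu
    obtain ⟨g, hg, hgv⟩ := mem_autInducedBy_iff.1 hu
    rw [Subgroup.mem_subgroupOf]
    refine ⟨⟨g, hSP hg⟩, ?_⟩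
    ext y
    rw [hgv y]
    simp [MulAut.conj_apply]
  have h2 := Subgroup.index_dvd_of_le h1
  exact U.not_dvd_index (hdvd.trans h2)

theorem exists_T (hd : IdxData p S A) (hF : F.IsSaturated p) (hP : F.IsEssential p P) {x : Ω} (hxP : x ∈ P)
    (hxA : x ∉ A) : ∃ a ∈ A, a ∈ Subgroup.normalizer (P : Set Ω) ∧ a ∉ P := by
  have hPS : P ≤ S := hP.1.1
  have hlt : P < normalizerIn S P := lt_normalizerIn hd.hS (lt_of_le_not_ge hPS (not_S_le hd.hS hF hP))
  obtain ⟨n, hnN, hnP⟩ := SetLike.exists_of_lt hlt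
  obtain ⟨i, a, ha, rfl⟩ := hd.decomp (hPS hxP) hxA hnN.1
  have hxi : x ^ i ∈ P := P.pow_mem hxP i
  refine ⟨a, ha, ?_, fun haP => hnP (P.mul_mem hxi haP)⟩
  have h1 : (x ^ i)⁻¹ * (x ^ i * a) ∈ Subgroup.normalizer (P : Set Ω) :=
    Subgroup.mul_mem _ (Subgroup.inv_mem _ (hlt.le hxi).2) hnN.2
  simpa using h1

theorem mem_of_chain (hS : IsPGroup p S) (hP : F.IsEssential p P) (L : Subgroup P) [hLc : L.Characteristic]
    {a : Ω} (haS : a ∈ S) (haN : a ∈ Subgroup.normalizer (P : Set Ω))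
    (h1 : ∀ y : P, y⁻¹ * conjAut P a haN y ∈ L) (h2 : ∀ y ∈ L, conjAut P a haN y = y) : a ∈ P := by
  classical
  obtain ⟨hPS, hO, hdvd⟩ := Cfsg.Agent.Lib.Cl.EssData.data hS F hP
  by_contra haP
  haveI := finite_of_le hPS
  have hpP : IsPGroup p P := hS.to_le hPS
  let c : ℕ → Subgroup P := fun i => match i with
    | 0 => ⊤
    | 1 => L
    | _ => ⊥
  have hchar : ∀ i, (c i).Characteristic := by
    intro i
    match i with
    | 0 => exact Subgroup.topCharacteristic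
    | 1 => exact hLc
    | i + 2 => exact Subgroup.botCharacteristic
  have hle : ∀ i, i < 2 → c (i + 1) ≤ c i := by
    intro i hi
    match i, hi with
    | 0, _ => exact le_top
    | 1, _ => exact bot_le
  have hB := stab_normal (F.autGroup P) 2 c hchar hle
  have hBp := stab_isPGroup hpP (F.autGroup P) 2 c rfl hchar hle (fun α _ hα => by
    ext y
    have h3 := hα y
    have h4 : y⁻¹ * α y = 1 := by simpa [c] using h3
    have h5 := inv_mul_eq_one.1 h4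
    rw [← h5]
    rfl)
  have hmem : conjAut P a haN ∈ F.autGroup P := autInducedBy_le_autGroup F hPS (conjAut_mem haS haN)
  have hb : (⟨_, hmem⟩ : F.autGroup P) ∈ stab (F.autGroup P) 2 c hchar hle := by
    intro i hi y hy
    match i, hi with
    | 0, _ => exact h1 y
    | 1, _ =>
      show y⁻¹ * conjAut P a haN y ∈ (⊥ : Subgroup P)
      rw [h2 y hy]
      simp
  have h3 := hO _ hB hBp _ hb
  exact conjAut_not_mem_inn (fun g hg => centr_le hP hg.1 (fun y hy => by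
    exact Subgroup.mem_centralizer_iff.1 hg.2 y hy)) haS haN haP hPS h3

theorem mem_normalizer_of_forall [Finite P] {g : Ω} (h : ∀ y ∈ P, g * y * g⁻¹ ∈ P) :
    g ∈ Subgroup.normalizer (P : Set Ω) := by
  let f : P → P := fun y => ⟨g * y * g⁻¹, h y y.2⟩
  have hf : Function.Injective f := by
    intro y z hyz
    have h1 : g * (y : Ω) * g⁻¹ = g * (z : Ω) * g⁻¹ := congrArg Subtype.val hyz
    apply Subtype.ext
    simpa using h1
  have hfs := (Finite.injective_iff_surjective.1 hf)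
  rw [Subgroup.mem_normalizer_iff]
  intro y
  refine ⟨h y, fun hy => ?_⟩
  obtain ⟨w, hw⟩ := hfs ⟨g * y * g⁻¹, hy⟩
  have h1 : g * (w : Ω) * g⁻¹ = g * y * g⁻¹ := congrArg Subtype.val hw
  have h2 : (w : Ω) = y := by simpa using h1
  rw [← h2]
  exact w.2

theorem P_decomp (hd : IdxData p S A) (hPS : P ≤ S) {x : Ω} (hxP : x ∈ P) (hxA : x ∉ A) {y : Ω} (hy : y ∈ P) :
    ∃ i : ℕ, ∃ b ∈ A, b ∈ P ∧ y = x ^ i * b := by
  obtain ⟨i, b, hb, rfl⟩ := hd.decomp (hPS hxP) hxA (hPS hy)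
  refine ⟨i, b, hb, ?_, rfl⟩
  have := P.mul_mem (P.inv_mem (P.pow_mem hxP i)) hy
  simpa using this

theorem Z_le_P (hP : F.IsEssential p P) : Zc S ≤ P := fun _ hz =>
  centr_le hP hz.1 (fun y hy => Subgroup.mem_centralizer_iff.1 hz.2 y (hP.1.1 hy))

theorem card_subOf : Nat.card (A.subgroupOf P) = Nat.card (P ⊓ A : Subgroup Ω) := by
  have h1 : A.subgroupOf P = (P ⊓ A).subgroupOf P := by
    ext y
    simp [Subgroup.mem_subgroupOf]
  rw [h1]
  exact Nat.card_congr (Subgroup.subgroupOfEquivOfLe inf_le_left).toEquiv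

theorem index_subOf (hd : IdxData p S A) (hPS : P ≤ S) (hPA : ¬ P ≤ A) : (A.subgroupOf P).index = p := by
  haveI := finite_of_le hPS
  have h1 := hd.card_eq hPS hPA
  have h2 := Subgroup.card_mul_index (A.subgroupOf P)
  rw [card_subOf, h1, mul_comm] at h2
  haveI : Finite (P ⊓ A : Subgroup Ω) := finite_of_le (inf_le_left.trans hPS)
  exact Nat.eq_of_mul_eq_mul_right Nat.card_pos h2

theorem center_iff (hd : IdxData p S A) (hP : F.IsEssential p P) {x : Ω} (hxP : x ∈ P) (hxA : x ∉ A)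
    (hna : ¬ ∀ u ∈ P, ∀ v ∈ P, u * v = v * u) (y : P) : y ∈ Subgroup.center P ↔ (y : Ω) ∈ Zc S := by
  have hPS := hP.1.1
  constructor
  · intro hy
    rw [Subgroup.mem_center_iff] at hy
    have hyc : ∀ g ∈ P, g * (y : Ω) = y * g := fun g hg => congrArg Subtype.val (hy ⟨g, hg⟩)
    have hyA : (y : Ω) ∈ A := by
      by_contra hyA
      apply hna
      intro u hu v hv
      obtain ⟨i, b, hb, hbP, rfl⟩ := P_decomp hd hPS y.2 hyA hu
      obtain ⟨j, c, hc, hcP, rfl⟩ := P_decomp hd hPS y.2 hyA hv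
      have h1 : Commute ((y : Ω) ^ i) c := (Commute.pow_left (hyc c hcP).symm i)
      have h2 : Commute ((y : Ω) ^ j) b := (Commute.pow_left (hyc b hbP).symm j)
      have h3 : Commute b c := hd.comm b hb c hc
      have h4 : Commute ((y : Ω) ^ i) ((y : Ω) ^ j) := Commute.pow_pow_self _ i j
      exact ((h4.mul_right h1).mul_left (h2.symm.mul_right h3))
    exact hd.mem_Z (hPS hxP) hxA hyA (hyc x hxP).symm
  · intro hy
    rw [Subgroup.mem_center_iff]
    intro g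
    apply Subtype.ext
    exact Subgroup.mem_centralizer_iff.1 hy.2 g (hPS g.2)

theorem card_center (hd : IdxData p S A) (hP : F.IsEssential p P) {x : Ω} (hxP : x ∈ P) (hxA : x ∉ A)
    (hna : ¬ ∀ u ∈ P, ∀ v ∈ P, u * v = v * u) : Nat.card (Subgroup.center P) = Nat.card (Zc S) := by
  have h1 : Subgroup.center P = (Zc S).subgroupOf P := by
    ext y
    rw [center_iff hd hP hxP hxA hna, Subgroup.mem_subgroupOf]
  rw [h1]
  exact Nat.card_congr (Subgroup.subgroupOfEquivOfLe (Z_le_P hP)).toEquiv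

/-- Claim 1. -/
theorem card_R_le (hd : IdxData p S A) (hF : F.IsSaturated p) (hP : F.IsEssential p P) {x : Ω} (hxP : x ∈ P)
    (hxA : x ∉ A) : Nat.card (A.subgroupOf P) ≤ p * Nat.card (Subgroup.center P) := by
  have hPS := hP.1.1
  haveI := finite_of_le hPS
  by_cases hch : (A.subgroupOf P).Characteristic
  · exfalso
    obtain ⟨a, ha, haN, haP⟩ := exists_T hd hF hP hxP hxA
    refine haP (mem_of_chain hd.hS hP (A.subgroupOf P) (hd.le ha) haN (fun y => ?_) (fun y hy => ?_))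
    · rw [Subgroup.mem_subgroupOf]
      have h1 := hd.comm_mem (S.inv_mem (hPS y.2)) (hd.le ha)
      simpa [mul_assoc] using h1
    · apply Subtype.ext
      rw [conjAut_coe, hd.comm a ha y (Subgroup.mem_subgroupOf.1 hy)]
      simp
  · exact card_le_of_not_char _ (index_subOf hd hPS (fun h => hxA (h hxP)))
      (fun u hu v hv => Subtype.ext (hd.comm _ (Subgroup.mem_subgroupOf.1 hu) _ (Subgroup.mem_subgroupOf.1 hv))) hch

/-- Claim 3. -/
theorem comm_x_mem_Z (hd : IdxData p S A) (hP : F.IsEssential p P) {x : Ω} (hxP : x ∈ P) (hxA : x ∉ A)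
    (hna : ¬ ∀ u ∈ P, ∀ v ∈ P, u * v = v * u)
    (hcard : Nat.card (A.subgroupOf P) ≤ p * Nat.card (Subgroup.center P)) {r : Ω} (hrP : r ∈ P) (hrA : r ∈ A) :
    r * x * r⁻¹ * x⁻¹ ∈ Zc S := by
  have hPS := hP.1.1
  haveI := finite_of_le hPS
  have hpP : IsPGroup p P := hd.hS.to_le hPS
  obtain ⟨k, hk⟩ := hpP ⟨x, hxP⟩
  let α : MulAut P := MulAut.conj ⟨x, hxP⟩
  have hαk : α ^ (p ^ k) = 1 := by
    show (MulAut.conj (⟨x, hxP⟩ : P)) ^ (p ^ k) = 1
    rw [← map_pow, hk, map_one]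
  have hKL : Subgroup.center P ≤ A.subgroupOf P := fun y hy => by
    rw [Subgroup.mem_subgroupOf]
    exact hd.Zle ((center_iff hd hP hxP hxA hna y).1 hy)
  have h1 := trivial_on_factor hpP (Subgroup.center P) (A.subgroupOf P) hKL hcard α
    (fun y hy => by
      have := (Subgroup.normal_of_characteristic (Subgroup.center P)).conj_mem y hy ⟨x, hxP⟩
      simpa [α, MulAut.conj_apply] using this)
    (fun y hy => by
      rw [Subgroup.mem_subgroupOf] at hy ⊢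
      exact hd.norm (hPS hxP) hy) k hαk
  have h2 := h1 ⟨r⁻¹, P.inv_mem hrP⟩ (Subgroup.mem_subgroupOf.2 (A.inv_mem hrA))
  have h3 := (center_iff hd hP hxP hxA hna _).1 h2
  have h4 : ((⟨r⁻¹, P.inv_mem hrP⟩ : P)⁻¹ * α ⟨r⁻¹, P.inv_mem hrP⟩ : P).1 = r * x * r⁻¹ * x⁻¹ := by
    simp [α, MulAut.conj_apply, mul_assoc]
  rwa [h4] at h3

theorem conj_form (hd : IdxData p S A) {x : Ω} (hxS : x ∈ S) (hxA : x ∉ A) {a : Ω} (ha : a ∈ A)
    (hD : a * x * a⁻¹ * x⁻¹ ∈ Zc S) {y : Ω} (hy : y ∈ S) :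
    ∃ i : ℕ, a * y * a⁻¹ = (a * x * a⁻¹ * x⁻¹) ^ i * y := by
  set z := a * x * a⁻¹ * x⁻¹ with hz
  have hzx : a * x * a⁻¹ = z * x := by rw [hz]; group
  have hzc : Commute z x := (Subgroup.mem_centralizer_iff.1 hD.2 x hxS).symm
  obtain ⟨i, b, hb, rfl⟩ := hd.decomp hxS hxA hy
  refine ⟨i, ?_⟩
  have h1 : a * x ^ i * a⁻¹ = z ^ i * x ^ i := by
    rw [← hzc.mul_pow, ← hzx, conj_pow]
  calc a * (x ^ i * b) * a⁻¹ = (a * x ^ i * a⁻¹) * (a * b * a⁻¹) := by group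
    _ = (z ^ i * x ^ i) * (b * a * a⁻¹) := by rw [h1, hd.comm a ha b hb]
    _ = _ := by group

/-- Claim 2. -/
theorem mem_P_of_D (hd : IdxData p S A) (hP : F.IsEssential p P) {x : Ω} (hxP : x ∈ P) (hxA : x ∉ A)
    (hna : ¬ ∀ u ∈ P, ∀ v ∈ P, u * v = v * u) {a : Ω} (ha : a ∈ A) (hD : a * x * a⁻¹ * x⁻¹ ∈ Zc S) : a ∈ P := by
  have hPS := hP.1.1
  haveI := finite_of_le hPS
  have hZP := Z_le_P hP
  have hxS := hPS hxP
  set z := a * x * a⁻¹ * x⁻¹ with hz
  have haN : a ∈ Subgroup.normalizer (P : Set Ω) := by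
    apply mem_normalizer_of_forall
    intro y hy
    obtain ⟨i, hi⟩ := conj_form hd hxS hxA ha hD (hPS hy)
    rw [hi]
    exact P.mul_mem (P.pow_mem (hZP hD) i) hy
  refine mem_of_chain hd.hS hP (Subgroup.center P) (hd.le ha) haN (fun y => ?_) (fun y hy => ?_)
  · obtain ⟨i, hi⟩ := conj_form hd hxS hxA ha hD (hPS y.2)
    rw [center_iff hd hP hxP hxA hna]
    have h1 : ((y⁻¹ * conjAut P a haN y : P) : Ω) = z ^ i := by
      simp only [Subgroup.coe_mul, Subgroup.coe_inv, conjAut_coe]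
      rw [hi]
      have hc : Commute (z ^ i) (y : Ω) := Commute.pow_left (Subgroup.mem_centralizer_iff.1 hD.2 y (hPS y.2)).symm i
      rw [hc.eq]
      group
    rw [h1]
    exact Subgroup.pow_mem _ hD i
  · apply Subtype.ext
    rw [conjAut_coe]
    have h1 := (center_iff hd hP hxP hxA hna y).1 hy
    have h2 : a * (y : Ω) = y * a := Subgroup.mem_centralizer_iff.1 h1.2 a (hd.le ha)
    rw [h2]
    group

/-- The second centre of `S`, in the ambient group. -/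
abbrev Z2 (S : Subgroup Ω) : Subgroup Ω := (upperCentralSeries ↥S 2).map S.subtype

omit [Finite S] in
theorem mem_Z2_iff {w : Ω} : w ∈ Z2 S ↔ w ∈ S ∧ ∀ s ∈ S, w * s * w⁻¹ * s⁻¹ ∈ Zc S := by
  constructor
  · rintro ⟨w', hw', rfl⟩
    refine ⟨w'.2, fun s hs => ?_⟩
    have h1 := Subgroup.mem_upperCentralSeries_succ_iff.1 hw' ⟨s, hs⟩
    rw [Subgroup.upperCentralSeries_one, Subgroup.mem_center_iff] at h1
    refine Subgroup.mem_inf.2 ⟨S.mul_mem (S.mul_mem (S.mul_mem w'.2 hs) (S.inv_mem w'.2)) (S.inv_mem hs),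
      Subgroup.mem_centralizer_iff.2 fun g hg => congrArg Subtype.val (h1 ⟨g, hg⟩)⟩
  · rintro ⟨hw, h⟩
    refine ⟨⟨w, hw⟩, ?_, rfl⟩
    refine Subgroup.mem_upperCentralSeries_succ_iff.2 ?_
    intro y
    rw [Subgroup.upperCentralSeries_one, Subgroup.mem_center_iff]
    intro g
    apply Subtype.ext
    exact Subgroup.mem_centralizer_iff.1 (h y y.2).2 g g.2

/-- Elements of `D` lie in `Z₂`. -/
theorem D_le_Z2 (hd : IdxData p S A) {x : Ω} (hxS : x ∈ S) (hxA : x ∉ A) {a : Ω} (ha : a ∈ A)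
    (hD : a * x * a⁻¹ * x⁻¹ ∈ Zc S) : a ∈ Z2 S := by
  rw [mem_Z2_iff]
  refine ⟨hd.le ha, fun s hs => ?_⟩
  obtain ⟨i, hi⟩ := conj_form hd hxS hxA ha hD hs
  rw [hi]
  simpa using Subgroup.pow_mem _ hD i

/-- If `Z₂ ≰ A` then `D = A`. -/
theorem D_top_of_Z2 (hd : IdxData p S A) {w : Ω} (hw : w ∈ Z2 S) (hwA : w ∉ A) {x : Ω} (hxS : x ∈ S) {a : Ω} (ha : a ∈ A) :
    a * x * a⁻¹ * x⁻¹ ∈ Zc S := by
  obtain ⟨i, b, hb, rfl⟩ := hd.decomp (mem_Z2_iff.1 hw).1 hwA hxS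
  have hwi : w ^ i ∈ Z2 S := Subgroup.pow_mem _ hw i
  have h1 := (mem_Z2_iff.1 hwi).2 a (hd.le ha)
  have h2 := Subgroup.inv_mem _ h1
  have h3 : a * (w ^ i * b) * a⁻¹ * (w ^ i * b)⁻¹ = (w ^ i * a * (w ^ i)⁻¹ * a⁻¹)⁻¹ := by
    calc a * (w ^ i * b) * a⁻¹ * (w ^ i * b)⁻¹ = a * w ^ i * (b * a⁻¹) * b⁻¹ * (w ^ i)⁻¹ := by group
      _ = a * w ^ i * (a⁻¹ * b) * b⁻¹ * (w ^ i)⁻¹ := by rw [hd.comm b hb _ (A.inv_mem ha)]
      _ = _ := by group
  rw [h3]
  exact h2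

theorem index_of_card {K L : Subgroup Ω} [Finite K] (hKL : K ≤ L) (h : Nat.card L = p * Nat.card K) :
    (K.subgroupOf L).index = p := by
  have h1 := card_mul_relIndex_of_le hKL
  rw [h, mul_comm] at h1
  exact Nat.eq_of_mul_eq_mul_right Nat.card_pos h1

/-- The key count: the subgroup of elements of `A` normalising `P`. -/
theorem nonab_main (hd : IdxData p S A) (hF : F.IsSaturated p) (hP : F.IsEssential p P) {x : Ω} (hxP : x ∈ P) (hxA : x ∉ A)
    (hna : ¬ ∀ u ∈ P, ∀ v ∈ P, u * v = v * u) :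
    (∀ a ∈ A, a * x * a⁻¹ * x⁻¹ ∈ Zc S ↔ a ∈ P) ∧
    Nat.card (((Zc S).subgroupOf A).comap (tau hd (hP.1.1 hxP))) = p * Nat.card ((Zc S).subgroupOf A) ∧
    (P.subgroupOf (S ⊓ Subgroup.normalizer (P : Set Ω))).index = p := by
  have hPS := hP.1.1
  have hxS := hPS hxP
  haveI := finite_of_le hPS
  haveI : Finite A := finite_of_le hd.le
  haveI : Finite (P ⊓ A : Subgroup Ω) := finite_of_le (inf_le_left.trans hPS)
  haveI : Finite (Zc S : Subgroup Ω) := finite_of_le inf_le_left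
  haveI : Finite (S ⊓ Subgroup.normalizer (P : Set Ω) : Subgroup Ω) := finite_of_le inf_le_left
  haveI : Finite (S ⊓ Subgroup.normalizer (P : Set Ω) ⊓ A : Subgroup Ω) := finite_of_le (inf_le_left.trans inf_le_left)
  have hcard := card_R_le hd hF hP hxP hxA
  have hcen := card_center hd hP hxP hxA hna
  have hiff : ∀ a ∈ A, a * x * a⁻¹ * x⁻¹ ∈ Zc S ↔ a ∈ P := fun a ha =>
    ⟨fun h => mem_P_of_D hd hP hxP hxA hna ha h, fun h => comm_x_mem_Z hd hP hxP hxA hna hcard h ha⟩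
  set Z₀ := (Zc S).subgroupOf A with hZ₀
  haveI hZn : Z₀.Normal := hd.normal_sub _
  set τ := tau hd hxS with hτ
  have hD₀ : Z₀.comap τ = P.subgroupOf A := by
    ext a
    rw [Subgroup.mem_subgroupOf, ← hiff a a.2]
    rfl
  have hcZ : Nat.card Z₀ = Nat.card (Zc S) := Nat.card_congr (Subgroup.subgroupOfEquivOfLe hd.Zle).toEquiv
  have hcD : Nat.card (P.subgroupOf A) = Nat.card (P ⊓ A : Subgroup Ω) := by
    rw [card_subOf, inf_comm]
  -- the order of `P ∩ A`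
  have hZR : Zc S ≤ P ⊓ A := le_inf (Z_le_P hP) hd.Zle
  have hRZ : ¬ (P ⊓ A ≤ Zc S) := by
    intro h
    apply hna
    intro u hu v hv
    obtain ⟨i, b, hb, hbP, rfl⟩ := P_decomp hd hPS hxP hxA hu
    obtain ⟨j, c, hc, hcP, rfl⟩ := P_decomp hd hPS hxP hxA hv
    have hbZ := h ⟨hbP, hb⟩
    have hcZ' := h ⟨hcP, hc⟩
    have h1 : Commute (x ^ i) c := Commute.pow_left (Subgroup.mem_centralizer_iff.1 hcZ'.2 x hxS) i
    have h2 : Commute (x ^ j) b := Commute.pow_left (Subgroup.mem_centralizer_iff.1 hbZ.2 x hxS) j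
    have h3 : Commute b c := hd.comm b hb c hc
    have h4 : Commute (x ^ i) (x ^ j) := Commute.pow_pow_self _ i j
    exact ((h4.mul_right h1).mul_left (h2.symm.mul_right h3))
  have hRcard : Nat.card (P ⊓ A : Subgroup Ω) = p * Nat.card (Zc S) := by
    apply card_eq_of_lt_le (hd.hS.to_le (inf_le_left.trans hPS)) hZR hRZ
    rw [← hcen, ← card_subOf]
    exact hcard
  have hD : Nat.card (Z₀.comap τ) = p * Nat.card Z₀ := by
    rw [hD₀, hcD, hRcard, hcZ]
  refine ⟨hiff, hD, ?_⟩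
  -- the normaliser
  have hker : τ.ker = Z₀ := tau_ker hd hxS hxA
  let g : A →* A ⧸ Z₀ := QuotientGroup.mk' Z₀
  have hg : g.ker = Z₀ := QuotientGroup.ker_mk' Z₀
  let f : A →* A ⧸ Z₀ := g.comp τ
  have hfk : f.ker = Z₀.comap τ := by
    ext a
    show g (τ a) = 1 ↔ τ a ∈ Z₀
    rw [← MonoidHom.mem_ker, hg]
  set N := S ⊓ Subgroup.normalizer (P : Set Ω) with hN
  have h1 := card_le_ker_mul f (N.subgroupOf A) ((P.subgroupOf A).map g) (by
    rintro _ ⟨a, ha, rfl⟩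
    refine ⟨τ a, ?_, rfl⟩
    show ((τ a : A) : Ω) ∈ P
    have ha' : (a : Ω) ∈ N := Subgroup.mem_subgroupOf.1 ha
    have h2 : (a : Ω) * x * (a : Ω)⁻¹ ∈ P := (Subgroup.mem_normalizer_iff.1 ha'.2 x).1 hxP
    exact P.mul_mem h2 (P.inv_mem hxP))
  have h2 : Nat.card ((P.subgroupOf A).map g) = p := by
    rw [← Subgroup.relIndex_ker, hg, ← hD₀]
    exact relIndex_eq_of_ker τ Z₀ hker hD
  rw [hfk, hD₀, h2, hcD] at h1
  have h3 : Nat.card (N.subgroupOf A) = Nat.card (N ⊓ A : Subgroup Ω) := by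
    rw [card_subOf, inf_comm]
  rw [h3] at h1
  have hPN : P ≤ N := fun y hy => ⟨hPS hy, Subgroup.le_normalizer hy⟩
  have hNA : ¬ N ≤ A := fun h => hxA (h (hPN hxP))
  have h4 := hd.card_eq (inf_le_left : N ≤ S) hNA
  have h5 := hd.card_eq hPS (fun h => hxA (h hxP))
  have hNP : ¬ N ≤ P := by
    obtain ⟨a, ha, haN, haP⟩ := exists_T hd hF hP hxP hxA
    exact fun h => haP (h ⟨hd.le ha, haN⟩)
  apply index_of_card hPN
  apply card_eq_of_lt_le (hd.hS.to_le inf_le_left) hPN hNP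
  rw [h4, h5]
  exact Nat.mul_le_mul_left p (by rw [mul_comm]; exact h1)

theorem ab_card_N (hd : IdxData p S A) (hF : F.IsSaturated p) (hP : F.IsEssential p P) {x : Ω} (hxP : x ∈ P)
    (hxA : x ∉ A) (hab : ∀ u ∈ P, ∀ v ∈ P, u * v = v * u) :
    Nat.card (S ⊓ Subgroup.normalizer (P : Set Ω) : Subgroup Ω) ≤ p * Nat.card P := by
  classical
  have hPS := hP.1.1
  have hxS := hPS hxP
  haveI := finite_of_le hPS
  haveI := finite_autGroup F hPS
  haveI : Finite (MulAut P) := finite_mulAut P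
  haveI : Finite (S ⊓ Subgroup.normalizer (P : Set Ω) : Subgroup Ω) := finite_of_le inf_le_left
  have hpP : IsPGroup p P := hd.hS.to_le hPS
  have hRZ : ∀ b ∈ P, b ∈ A → b ∈ Zc S := fun b hb hbA => hd.mem_Z hxS hxA hbA (hab _ hb _ hxP)
  obtain ⟨U, hU⟩ := (IsSat.fullyAutomized_of_fullyNormalized hd.hS hF hP.2.1).2
  have hP' := hP
  obtain ⟨-, -, hN, Y, hY⟩ := hP'
  haveI := hN
  have hN₀ : (Inn P).subgroupOf (F.autGroup P) = ⊥ := by
    rw [eq_bot_iff]
    rintro ⟨u, hu⟩ hu'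
    rw [Subgroup.mem_subgroupOf] at hu'
    obtain ⟨y, hy⟩ := hu'
    rw [Subgroup.mem_bot]
    apply Subtype.ext
    show u = 1
    have hy' : MulAut.conj y = u := hy
    rw [← hy']
    ext z
    show ((MulAut.conj y z : P) : Ω) = z
    simp only [MulAut.conj_apply, Subgroup.coe_mul, Subgroup.coe_inv]
    rw [hab _ y.2 _ z.2]
    group
  obtain ⟨Y₁, hY₁, hprop⟩ := exists_proper_of_stronglyEmbedded ((Inn P).subgroupOf (F.autGroup P)) U hY
  obtain ⟨q, hq⟩ : ∃ q, q ∉ Y₁ := by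
    by_contra h
    push Not at h
    exact hY₁ (eq_top_iff.2 fun y _ => h y)
  obtain ⟨a, rfl⟩ := QuotientGroup.mk'_surjective _ q
  have ha : ∀ V : Subgroup (F.autGroup P), V ≠ ⊥ → V ≤ U → ¬ ∀ v ∈ V, a * v * a⁻¹ ∈ (U : Subgroup (F.autGroup P)) := by
    intro V hV hVU hconj
    refine hq (hprop a V ?_ hVU hconj)
    rw [hN₀]
    exact bot_lt_iff_ne_bot.2 hV
  have hUmem : ∀ u ∈ (U : Subgroup (F.autGroup P)), ∃ g ∈ S, ∀ y : P, (((u : MulAut P) y : P) : Ω) = g * y * g⁻¹ := by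
    intro u hu
    rw [hU, Subgroup.mem_subgroupOf] at hu
    exact mem_autInducedBy_iff.1 hu
  have hcardU := axis_card hpP (fun u v => Subtype.ext (hab _ u.2 _ v.2)) (F.autGroup P) U a ha (A.subgroupOf P)
    (index_subOf hd hPS (fun h => hxA (h hxP)))
    (fun u hu r hr => by
      obtain ⟨g, hg, hgv⟩ := hUmem u hu
      apply Subtype.ext
      rw [hgv r]
      have h1 := hRZ r r.2 (Subgroup.mem_subgroupOf.1 hr)
      rw [(Subgroup.mem_centralizer_iff.1 h1.2 g hg)]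
      group)
    (fun u hu y => by
      obtain ⟨g, hg, hgv⟩ := hUmem u hu
      rw [Subgroup.mem_subgroupOf]
      have h1 := hd.comm_mem (S.inv_mem (hPS y.2)) hg
      simp only [Subgroup.coe_mul, Subgroup.coe_inv, hgv y]
      simpa [mul_assoc] using h1)
  let c : (S ⊓ Subgroup.normalizer (P : Set Ω) : Subgroup Ω) →* MulAut P :=
    (Subgroup.normalizerMonoidHom (H := P)).comp (Subgroup.inclusion inf_le_right)
  have hc := card_le_ker_mul c ⊤ ((U : Subgroup (F.autGroup P)).map (F.autGroup P).subtype) (by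
    rintro _ ⟨n, -, rfl⟩
    have hmem : c n ∈ autInducedBy S P := conjAut_mem n.2.1 n.2.2
    have hmemX := autInducedBy_le_autGroup F hPS hmem
    refine ⟨⟨c n, hmemX⟩, ?_, rfl⟩
    rw [hU]
    exact Subgroup.mem_subgroupOf.2 hmem)
  have hk : Nat.card c.ker ≤ Nat.card P := by
    let e : c.ker → P := fun n => ⟨n.1.1, centr_le hP n.1.2.1 (fun y hy => by
      have h1 : c n.1 = 1 := n.2
      have h2 : ((c n.1 ⟨y, hy⟩ : P) : Ω) = y := by rw [h1]; rfl
      have h3 : ((c n.1 ⟨y, hy⟩ : P) : Ω) = n.1.1 * y * (n.1.1)⁻¹ := rfl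
      rw [h3] at h2
      have h4 := mul_inv_eq_iff_eq_mul.1 h2
      exact h4.symm)⟩
    apply Nat.card_le_card_of_injective e
    intro m n hmn
    apply Subtype.ext
    apply Subtype.ext
    have h9 := congrArg Subtype.val hmn
    exact h9
  have hmap : Nat.card ((U : Subgroup (F.autGroup P)).map (F.autGroup P).subtype) = Nat.card U :=
    Subgroup.card_map_of_injective (Subgroup.subtype_injective _)
  rw [hmap, Subgroup.card_top] at hc
  calc _ ≤ _ := hc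
    _ ≤ Nat.card P * p := Nat.mul_le_mul hk hcardU
    _ = _ := mul_comm _ _

theorem mst (hd : IdxData p S A) (huniq : ∀ B : Subgroup Ω, B ≤ S → IsMulCommutative ↥B → (B.subgroupOf S).index = p → B = A)
    (hF : F.IsSaturated p) (hP : F.IsEssential p P) (hPA : ¬ P ≤ A) :
    ∃ x, ∃ hxS : x ∈ S, x ∉ A ∧ Z2 S ≤ A ∧
      Nat.card (((Zc S).subgroupOf A).comap (tau hd hxS)) = p * Nat.card ((Zc S).subgroupOf A) ∧
      (P.subgroupOf (S ⊓ Subgroup.normalizer (P : Set Ω))).index = p ∧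
      (P = Zc S ⊔ Subgroup.zpowers x ∨ P = Z2 S ⊔ Subgroup.zpowers x) := by
  have hPS := hP.1.1
  obtain ⟨x, hxP, hxA⟩ := SetLike.not_le_iff_exists.1 hPA
  have hxS := hPS hxP
  haveI := finite_of_le hPS
  haveI : Finite A := finite_of_le hd.le
  haveI : Finite (Zc S : Subgroup Ω) := finite_of_le inf_le_left
  haveI : Finite (P ⊓ A : Subgroup Ω) := finite_of_le (inf_le_left.trans hPS)
  haveI : Finite (S ⊓ Subgroup.normalizer (P : Set Ω) : Subgroup Ω) := finite_of_le inf_le_left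
  haveI : Finite (S ⊓ Subgroup.normalizer (P : Set Ω) ⊓ A : Subgroup Ω) := finite_of_le (inf_le_left.trans inf_le_left)
  have hZP := Z_le_P hP
  refine ⟨x, hxS, hxA, ?_⟩
  by_cases hab : ∀ u ∈ P, ∀ v ∈ P, u * v = v * u
  · -- the abelian case
    have hRZ : ∀ b ∈ P, b ∈ A → b ∈ Zc S := fun b hb hbA => hd.mem_Z hxS hxA hbA (hab _ hb _ hxP)
    have hPeq : P = Zc S ⊔ Subgroup.zpowers x := by
      apply le_antisymm
      · intro y hy
        obtain ⟨i, b, hb, hbP, rfl⟩ := P_decomp hd hPS hxP hxA hy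
        exact Subgroup.mul_mem _ (Subgroup.mem_sup_right (Subgroup.pow_mem _ (Subgroup.mem_zpowers x) i))
          (Subgroup.mem_sup_left (hRZ b hbP hb))
      · exact sup_le hZP ((Subgroup.zpowers_le).2 hxP)
    set N := S ⊓ Subgroup.normalizer (P : Set Ω) with hN
    have hPN : P ≤ N := fun y hy => ⟨hPS hy, Subgroup.le_normalizer hy⟩
    have hNP : ¬ N ≤ P := by
      obtain ⟨a, ha, haN, haP⟩ := exists_T hd hF hP hxP hxA
      exact fun h => haP (h ⟨hd.le ha, haN⟩)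
    have hNcard : Nat.card N = p * Nat.card P :=
      card_eq_of_lt_le (hd.hS.to_le inf_le_left) hPN hNP (ab_card_N hd hF hP hxP hxA hab)
    have hiff : ∀ a ∈ A, a * x * a⁻¹ * x⁻¹ ∈ Zc S ↔ a ∈ N := by
      intro a ha
      constructor
      · intro h
        refine ⟨hd.le ha, mem_normalizer_of_forall fun y hy => ?_⟩
        obtain ⟨i, hi⟩ := conj_form hd hxS hxA ha h (hPS hy)
        rw [hi]
        exact P.mul_mem (P.pow_mem (hZP h) i) hy
      · intro h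
        have h2 : a * x * a⁻¹ ∈ P := (Subgroup.mem_normalizer_iff.1 h.2 x).1 hxP
        exact hRZ _ (P.mul_mem h2 (P.inv_mem hxP)) (hd.comm_mem (hd.le ha) hxS)
    have hD₀ : ((Zc S).subgroupOf A).comap (tau hd hxS) = N.subgroupOf A := by
      ext a
      rw [Subgroup.mem_subgroupOf, ← hiff a a.2]
      rfl
    have hcZ : Nat.card ((Zc S).subgroupOf A) = Nat.card (Zc S) :=
      Nat.card_congr (Subgroup.subgroupOfEquivOfLe hd.Zle).toEquiv
    have hPAeq : P ⊓ A = Zc S := le_antisymm (fun b hb => hRZ b hb.1 hb.2) (le_inf hZP hd.Zle)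
    have h4 := hd.card_eq (inf_le_left : N ≤ S) (fun h => hxA (h (hPN hxP)))
    have h5 := hd.card_eq hPS (fun h => hxA (h hxP))
    rw [hPAeq] at h5
    have hcN : Nat.card (N.subgroupOf A) = Nat.card (N ⊓ A : Subgroup Ω) := by
      rw [card_subOf, inf_comm]
    refine ⟨?_, ?_, ?_, Or.inl hPeq⟩
    · -- `Z₂ ≤ A`
      intro w hw
      by_contra hwA
      have hSN : S ≤ N := by
        intro s hs
        obtain ⟨i, a, ha, rfl⟩ := hd.decomp hxS hxA hs
        exact Subgroup.mul_mem _ (Subgroup.pow_mem _ (hPN hxP) i)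
          ((hiff a ha).1 (D_top_of_Z2 hd hw hwA hxS ha))
      have hNS : N = S := le_antisymm inf_le_left hSN
      rw [hNS] at hNcard
      have h6 := huniq P hPS ⟨⟨fun u v => Subtype.ext (hab _ u.2 _ v.2)⟩⟩ (index_of_card hPS hNcard)
      exact hxA (h6 ▸ hxP)
    · rw [hD₀, hcN, hcZ]
      have h7 : p * Nat.card (N ⊓ A : Subgroup Ω) = p * (p * Nat.card (Zc S)) := by
        rw [← h4, hNcard, h5]
      exact Nat.eq_of_mul_eq_mul_left hp.out.pos h7
    · exact index_of_card hPN hNcard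
  · obtain ⟨hiff, hD, hidx⟩ := nonab_main hd hF hP hxP hxA hab
    have hZ2 : Z2 S ≤ A := by
      intro w hw
      by_contra hwA
      obtain ⟨a, ha, haN, haP⟩ := exists_T hd hF hP hxP hxA
      exact haP ((hiff a ha).1 (D_top_of_Z2 hd hw hwA hxS ha))
    refine ⟨hZ2, hD, hidx, Or.inr ?_⟩
    apply le_antisymm
    · intro y hy
      obtain ⟨i, b, hb, hbP, rfl⟩ := P_decomp hd hPS hxP hxA hy
      exact Subgroup.mul_mem _ (Subgroup.mem_sup_right (Subgroup.pow_mem _ (Subgroup.mem_zpowers x) i))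
        (Subgroup.mem_sup_left (D_le_Z2 hd hxS hxA hb ((hiff b hb).2 hbP)))
    · refine sup_le (fun w hw => ?_) ((Subgroup.zpowers_le).2 hxP)
      exact (hiff w (hZ2 hw)).1 ((mem_Z2_iff.1 hw).2 x hxS)

theorem idxData_of {Ω' : Type*} [Group Ω'] {S' A' : Subgroup Ω'} (hS : IsPGroup p S')
    (hna : ¬ IsMulCommutative ↥S')
    (hA : A' ≤ S' ∧ IsMulCommutative ↥A' ∧ (A'.subgroupOf S').index = p) : IdxData p S' A' :=
  ⟨hS, hA.1, fun a ha b hb => congrArg Subtype.val (hA.2.1.is_comm.comm ⟨a, ha⟩ ⟨b, hb⟩), hA.2.2, hna⟩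

theorem eq_of_le (hd : IdxData p S A) (hP : F.IsEssential p P) (hPA : P ≤ A) : P = A :=
  le_antisymm hPA fun a ha => centr_le hP (hd.le ha) (fun y hy => hd.comm y (hPA hy) a ha)

theorem index_A (hd : IdxData p S A) : (A.subgroupOf (S ⊓ Subgroup.normalizer (A : Set Ω))).index = p := by
  have h1 : S ⊓ Subgroup.normalizer (A : Set Ω) = S := by
    apply inf_eq_left.2
    intro s hs
    haveI : Finite A := finite_of_le hd.le
    exact mem_normalizer_of_forall fun y hy => hd.norm hs hy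
  rw [h1]
  exact hd.idx

theorem main_5254 (hd : IdxData p S A)
    (huniq : ∀ B : Subgroup Ω, B ≤ S → IsMulCommutative ↥B → (B.subgroupOf S).index = p → B = A)
    (hF : F.IsSaturated p) (hP : F.IsEssential p P) :
    (P = A ∨ (∃ x ∈ S, x ∉ A ∧ P = (S ⊓ Subgroup.centralizer (S : Set Ω)) ⊔ Subgroup.zpowers x) ∨
      (((upperCentralSeries ↥S 2).map S.subtype) ≤ A ∧ ∃ x ∈ S, x ∉ A ∧
        P = ((upperCentralSeries ↥S 2).map S.subtype) ⊔ Subgroup.zpowers x)) ∧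
    (P.subgroupOf (S ⊓ Subgroup.normalizer (P : Set Ω))).index = p := by
  by_cases hPA : P ≤ A
  · have h := eq_of_le hd hP hPA
    subst h
    exact ⟨Or.inl rfl, index_A hd⟩
  · obtain ⟨x, hxS, hxA, hZ2, -, hidx, hcase⟩ := mst hd huniq hF hP hPA
    refine ⟨Or.inr ?_, hidx⟩
    rcases hcase with h | h
    · exact Or.inl ⟨x, hxS, hxA, h⟩
    · exact Or.inr ⟨hZ2, x, hxS, hxA, h⟩

/-- The commutator subgroup of `S` is `τ(A)`. -/
theorem comm_mem_range (hd : IdxData p S A) {x : Ω} (hxS : x ∈ S) (hxA : x ∉ A) {s t : Ω} (hs : s ∈ S) (ht : t ∈ S) :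
    s * t * s⁻¹ * t⁻¹ ∈ (tau hd hxS).range.map A.subtype := by
  set L : Subgroup Ω := (tau hd hxS).range.map A.subtype with hL
  have hLA : L ≤ A := by
    rintro _ ⟨_, _, rfl⟩
    exact Subtype.coe_prop _
  have hτmem : ∀ a : A, ((tau hd hxS a : A) : Ω) ∈ L := fun a => ⟨_, ⟨a, rfl⟩, rfl⟩
  have hnorm : ∀ g ∈ S, ∀ l ∈ L, g * l * g⁻¹ ∈ L := by
    rintro g hg _ ⟨_, ⟨a, rfl⟩, rfl⟩
    obtain ⟨i, b, hb, rfl⟩ := hd.decomp hxS hxA hg
    set l : Ω := ((tau hd hxS a : A) : Ω) with hl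
    have hlA : l ∈ A := Subtype.coe_prop _
    have h1 : (x ^ i * b) * l * (x ^ i * b)⁻¹ = x ^ i * l * (x ^ i)⁻¹ := by
      calc (x ^ i * b) * l * (x ^ i * b)⁻¹ = x ^ i * (b * l) * b⁻¹ * (x ^ i)⁻¹ := by group
        _ = x ^ i * (l * b) * b⁻¹ * (x ^ i)⁻¹ := by rw [hd.comm b hb l hlA]
        _ = _ := by group
    show (x ^ i * b) * l * (x ^ i * b)⁻¹ ∈ L
    rw [h1]
    have h2 := hd.norm (S.pow_mem hxS i) a.2
    have h3 : x ^ i * l * (x ^ i)⁻¹ = ((tau hd hxS ⟨_, h2⟩ : A) : Ω) := by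
      rw [tau_coe, hl, tau_coe]
      have hc : x * x ^ i = x ^ i * x := (Commute.pow_right (Commute.refl x) i).eq
      have hc' : x⁻¹ * (x ^ i)⁻¹ = (x ^ i)⁻¹ * x⁻¹ := by
        rw [← mul_inv_rev, ← mul_inv_rev, hc]
      simp only [mul_inv_rev, inv_inv]
      calc x ^ i * (↑a * x * (↑a)⁻¹ * x⁻¹) * (x ^ i)⁻¹
          = x ^ i * ↑a * x * (↑a)⁻¹ * (x⁻¹ * (x ^ i)⁻¹) := by group
        _ = x ^ i * ↑a * x * (↑a)⁻¹ * ((x ^ i)⁻¹ * x⁻¹) := by rw [hc']
        _ = x ^ i * ↑a * (x * (x ^ i)⁻¹) * (x ^ i * (↑a)⁻¹ * (x ^ i)⁻¹) * x⁻¹ := by group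
        _ = x ^ i * ↑a * ((x ^ i)⁻¹ * x) * (x ^ i * (↑a)⁻¹ * (x ^ i)⁻¹) * x⁻¹ := by
          have hc2 : x * (x ^ i)⁻¹ = (x ^ i)⁻¹ * x := by
            rw [eq_inv_mul_iff_mul_eq, ← mul_assoc, ← hc]; group
          rw [hc2]
        _ = _ := by group
    rw [h3]
    exact hτmem _
  set L' : Subgroup S := L.comap S.subtype with hL'
  haveI hL'n : L'.Normal := ⟨fun l hl g => by
    show (g : Ω) * l * (g : Ω)⁻¹ ∈ L
    exact hnorm g g.2 l hl⟩
  let q : S →* S ⧸ L' := QuotientGroup.mk' L'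
  have hq : ∀ g : S, (g : Ω) ∈ L → q g = 1 := fun g hg => by
    have : g ∈ q.ker := by
      rw [QuotientGroup.ker_mk']
      exact hg
    exact this
  let X := q ⟨x, hxS⟩
  have hXa : ∀ a (ha : a ∈ A), Commute (q ⟨a, hd.le ha⟩) X := by
    intro a ha
    have h1 : q ((⟨a, hd.le ha⟩ : S) * ⟨x, hxS⟩ * (⟨a, hd.le ha⟩ : S)⁻¹ * (⟨x, hxS⟩ : S)⁻¹) = 1 :=
      hq _ (hτmem ⟨a, ha⟩)
    rw [map_mul, map_mul, map_mul, map_inv, map_inv] at h1
    have h2 := mul_inv_eq_one.1 h1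
    have h3 := mul_inv_eq_iff_eq_mul.1 h2
    exact h3
  have haa : ∀ a (ha : a ∈ A) b (hb : b ∈ A), Commute (q ⟨a, hd.le ha⟩) (q ⟨b, hd.le hb⟩) := by
    intro a ha b hb
    show q ⟨a, hd.le ha⟩ * q ⟨b, hd.le hb⟩ = q ⟨b, hd.le hb⟩ * q ⟨a, hd.le ha⟩
    rw [← map_mul, ← map_mul]
    congr 1
    exact Subtype.ext (hd.comm a ha b hb)
  have hform : ∀ g (hg : g ∈ S), ∃ i : ℕ, ∃ a, ∃ ha : a ∈ A, q ⟨g, hg⟩ = X ^ i * q ⟨a, hd.le ha⟩ := by
    intro g hg
    obtain ⟨i, a, ha, rfl⟩ := hd.decomp hxS hxA hg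
    refine ⟨i, a, ha, ?_⟩
    show q _ = (q ⟨x, hxS⟩) ^ i * _
    rw [← map_pow, ← map_mul]
    rfl
  obtain ⟨i, a, ha, h1⟩ := hform s hs
  obtain ⟨j, b, hb, h2⟩ := hform t ht
  have h3 : Commute (q ⟨s, hs⟩) (q ⟨t, ht⟩) := by
    rw [h1, h2]
    have c1 : Commute (X ^ i) (q ⟨b, hd.le hb⟩) := ((hXa b hb).symm).pow_left i
    have c2 : Commute (q ⟨a, hd.le ha⟩) (X ^ j) := (hXa a ha).pow_right j
    have c3 : Commute (X ^ i) (X ^ j) := Commute.pow_pow_self X i j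
    exact (c3.mul_right c1).mul_left (c2.mul_right (haa a ha b hb))
  have h4 : q ((⟨s, hs⟩ : S) * ⟨t, ht⟩ * (⟨s, hs⟩ : S)⁻¹ * (⟨t, ht⟩ : S)⁻¹) = 1 := by
    rw [map_mul, map_mul, map_mul, map_inv, map_inv, h3.eq]
    group
  have h5 : ((⟨s, hs⟩ : S) * ⟨t, ht⟩ * (⟨s, hs⟩ : S)⁻¹ * (⟨t, ht⟩ : S)⁻¹) ∈ q.ker := h4
  rw [QuotientGroup.ker_mk'] at h5
  exact h5

theorem comm_eq_range (hd : IdxData p S A) {x : Ω} (hxS : x ∈ S) (hxA : x ∉ A) :
    (commutator ↥S).map S.subtype = (tau hd hxS).range.map A.subtype := by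
  apply le_antisymm
  · rw [Subgroup.map_le_iff_le_comap, commutator_def, Subgroup.commutator_le]
    intro g _ h _
    exact comm_mem_range hd hxS hxA g.2 h.2
  · rintro _ ⟨_, ⟨a, rfl⟩, rfl⟩
    refine ⟨⁅(⟨a, hd.le a.2⟩ : S), (⟨x, hxS⟩ : S)⁆, ?_, rfl⟩
    rw [commutator_def]
    exact Subgroup.commutator_mem_commutator (Subgroup.mem_top _) (Subgroup.mem_top _)

end ess

end Cfsg.Agent.Lib.Cl.EssIdx
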