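import Mathlib
import Cfsg.Agent.Lib.Cl.EssIdx2

set_option autoImplicit false

namespace Cfsg.Agent.Lib.Cl.EssIdx

open Cfsg Cfsg.FusionSystem Cfsg.Agent.Lib.Fusion Cfsg.Agent.Lib.Cl.EssFour
open scoped commutatorElement

variable {p : ℕ} [hp : Fact p.Prime] {Ω : Type*} [Group Ω] {S A P : Subgroup Ω} [Finite S] {F : FusionSystem S}

theorem iter_mem_lcs (hd : IdxData p S A) {x : Ω} (hxS : x ∈ S) (k : ℕ) (a : A) :
    ((iter (tau hd hxS) k a : A) : Ω) ∈ Subgroup.lowerCentralSeries S k := by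
  induction k with
  | zero =>
    exact hd.le a.2
  | succ k ih =>
    rw [Subgroup.lowerCentralSeries_succ]
    exact Subgroup.commutator_mem_commutator ih hxS

/-- The formal consequences. -/
theorem formal (hd : IdxData p S A) {x : Ω} (hxS : x ∈ S) (hxA : x ∉ A)
    (hZ2 : Z2 S ≤ A)
    (hD : Nat.card (((Zc S).subgroupOf A).comap (tau hd hxS)) = p * Nat.card ((Zc S).subgroupOf A)) :
    Nat.card ↥((S ⊓ Subgroup.centralizer (S : Set Ω)) ⊓ ((commutator ↥S).map S.subtype)) = p ∧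
    (((S ⊓ Subgroup.centralizer (S : Set Ω)) ⊔ ((commutator ↥S).map S.subtype)).subgroupOf A).index = p ∧
    (((S ⊓ Subgroup.centralizer (S : Set Ω))).subgroupOf ((upperCentralSeries ↥S 2).map S.subtype)).index = p ∧
    ∀ m : ℕ, ((S ⊓ Subgroup.centralizer (S : Set Ω)).subgroupOf S).index = p ^ m → 3 ≤ m →
      ¬ Subgroup.lowerCentralSeries S (m - 2) ≤ (S ⊓ Subgroup.centralizer (S : Set Ω)) := by
  haveI : Finite A := finite_of_le hd.le
  haveI : Finite (Zc S : Subgroup Ω) := finite_of_le inf_le_left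
  set Z₀ := (Zc S).subgroupOf A with hZ₀
  haveI hZn : Z₀.Normal := hd.normal_sub _
  set τ := tau hd hxS with hτ
  have hker : τ.ker = Z₀ := tau_ker hd hxS hxA
  have hcZ : Nat.card Z₀ = Nat.card (Zc S) := Nat.card_congr (Subgroup.subgroupOfEquivOfLe hd.Zle).toEquiv
  have hZmap : Z₀.map A.subtype = Zc S := Subgroup.map_subgroupOf_eq_of_le hd.Zle
  have hS' : (commutator ↥S).map S.subtype = τ.range.map A.subtype := comm_eq_range hd hxS hxA
  have hinj : Function.Injective A.subtype := Subgroup.subtype_injective A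
  refine ⟨?_, ?_, ?_, ?_⟩
  · have h0 : (Zc S ⊓ τ.range.map A.subtype) = (Z₀ ⊓ τ.range).map A.subtype := by
      rw [Subgroup.map_inf _ _ _ hinj, hZmap]
    show Nat.card ↥(Zc S ⊓ (commutator ↥S).map S.subtype) = p
    rw [hS', h0, Subgroup.card_map_of_injective hinj]
    exact card_inf_range τ Z₀ hker hD
  · have h1 : (Zc S ⊔ (commutator ↥S).map S.subtype).subgroupOf A = Z₀ ⊔ τ.range := by
      have h0 : Zc S ⊔ τ.range.map A.subtype = (Z₀ ⊔ τ.range).map A.subtype := by
        rw [Subgroup.map_sup, hZmap]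
      rw [hS', h0]
      exact Subgroup.comap_map_eq_self_of_injective hinj _
    rw [h1]
    have h2 := Subgroup.card_mul_index (Z₀ ⊔ τ.range)
    rw [← card_sup_range τ Z₀ hker hD] at h2
    exact Nat.eq_of_mul_eq_mul_left Nat.card_pos h2
  · have hmap : (Z₀.comap τ).map A.subtype = Z2 S := by
      ext w
      constructor
      · rintro ⟨a, ha, rfl⟩
        exact D_le_Z2 hd hxS hxA a.2 ha
      · intro hw
        exact ⟨⟨w, hZ2 hw⟩, (mem_Z2_iff.1 hw).2 x hxS, rfl⟩
    have hle : Zc S ≤ Z2 S := by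
      intro z hz
      rw [mem_Z2_iff]
      refine ⟨hz.1, fun s hs => ?_⟩
      have h1 : z * s = s * z := (Subgroup.mem_centralizer_iff.1 hz.2 s hs).symm
      rw [h1]
      simp
    haveI : Finite (Zc S : Subgroup Ω) := finite_of_le inf_le_left
    apply index_of_card hle
    rw [← hmap, Subgroup.card_map_of_injective hinj, hD, hcZ]
  · intro m hm hm3 hle
    -- all of `A` is killed by `τ^(m-2)` modulo `Z`
    have h1 : Z₀.comap (iter τ (m - 2)) = ⊤ := by
      rw [eq_top_iff]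
      intro a _
      exact hle (iter_mem_lcs hd hxS (m - 2) a)
    have h2 := card_comap_iter_le τ Z₀ hker hD (m - 2)
    rw [h1, Subgroup.card_top, hcZ] at h2
    have h3 := Subgroup.card_mul_index (A.subgroupOf S)
    rw [hd.idx] at h3
    have h4 : Nat.card (A.subgroupOf S) = Nat.card A := Nat.card_congr (Subgroup.subgroupOfEquivOfLe hd.le).toEquiv
    rw [h4] at h3
    have h5 := Subgroup.card_mul_index ((Zc S).subgroupOf S)
    have h6 : Nat.card ((Zc S).subgroupOf S) = Nat.card (Zc S) :=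
      Nat.card_congr (Subgroup.subgroupOfEquivOfLe inf_le_left).toEquiv
    rw [h6] at h5
    have hm' : (S ⊓ Subgroup.centralizer (S : Set Ω)).subgroupOf S = (Zc S).subgroupOf S := rfl
    rw [hm', ] at hm
    rw [hm] at h5
    obtain ⟨k, rfl⟩ : ∃ k, m = k + 2 := ⟨m - 2, by omega⟩
    have hk : k + 2 - 2 = k := by omega
    rw [hk] at h2
    have hppos : 0 < Nat.card (Zc S : Subgroup Ω) := Nat.card_pos
    have hpk : 0 < p ^ k := pow_pos hp.out.pos k
    have h7 : Nat.card (Zc S : Subgroup Ω) * (p ^ k * (p * p)) ≤ p ^ k * Nat.card (Zc S : Subgroup Ω) * p := by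
      have : Nat.card (Zc S : Subgroup Ω) * p ^ (k + 2) = Nat.card A * p := by rw [h5, h3]
      rw [pow_add, pow_two] at this
      rw [this]
      exact Nat.mul_le_mul_right p h2
    have h8 : p ^ k * Nat.card (Zc S : Subgroup Ω) * p * p ≤ p ^ k * Nat.card (Zc S : Subgroup Ω) * p := by
      calc _ = Nat.card (Zc S : Subgroup Ω) * (p ^ k * (p * p)) := by ring
        _ ≤ _ := h7
    have h9 : 0 < p ^ k * Nat.card (Zc S : Subgroup Ω) * p := Nat.mul_pos (Nat.mul_pos hpk hppos) hp.out.pos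
    have h10 := hp.out.two_le
    nlinarith

theorem main_5257 (hd : IdxData p S A)
    (huniq : ∀ B : Subgroup Ω, B ≤ S → IsMulCommutative ↥B → (B.subgroupOf S).index = p → B = A)
    (hF : F.IsSaturated p) (hP : F.IsEssential p P) (hPA : P ≠ A) :
    ((upperCentralSeries ↥S 2).map S.subtype) ≤ A ∧
    Nat.card ↥((S ⊓ Subgroup.centralizer (S : Set Ω)) ⊓ ((commutator ↥S).map S.subtype)) = p ∧
    (((S ⊓ Subgroup.centralizer (S : Set Ω)) ⊔ ((commutator ↥S).map S.subtype)).subgroupOf A).index = p ∧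
    (((S ⊓ Subgroup.centralizer (S : Set Ω))).subgroupOf ((upperCentralSeries ↥S 2).map S.subtype)).index = p ∧
    ∀ m : ℕ, ((S ⊓ Subgroup.centralizer (S : Set Ω)).subgroupOf S).index = p ^ m → 3 ≤ m →
      ¬ Subgroup.lowerCentralSeries S (m - 2) ≤ (S ⊓ Subgroup.centralizer (S : Set Ω)) := by
  have hle : ¬ P ≤ A := fun h => hPA (eq_of_le hd hP h)
  obtain ⟨x, hxS, hxA, hZ2, hD, -, -⟩ := mst hd huniq hF hP hle
  exact ⟨hZ2, formal hd hxS hxA hZ2 hD⟩

end Cfsg.Agent.Lib.Cl.EssIdx
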