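import Mathlib
import Cfsg.Agent.Lib.Cl.EssIdx3

set_option autoImplicit false

namespace Cfsg.Agent.Lib.Cl.EssZ

open Cfsg.Agent.Lib.Cl.EssChain Cfsg.Agent.Lib.Cl.EssIdx

variable {p : ℕ} [hp : Fact p.Prime]

section basics

variable {H : Type*} [Group H]

theorem X_inv_apply {X : Subgroup (MulAut H)} (a : X) (z : H) :
    (a : MulAut H) (((a⁻¹ : X) : MulAut H) z) = z := by
  show ((a * a⁻¹ : X) : MulAut H) z = z
  simp

theorem X_inv_apply' {X : Subgroup (MulAut H)} (a : X) (z : H) :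
    ((a⁻¹ : X) : MulAut H) ((a : MulAut H) z) = z := by
  show ((a⁻¹ * a : X) : MulAut H) z = z
  simp

theorem X_mul_apply {X : Subgroup (MulAut H)} (a b : X) (z : H) :
    ((a * b : X) : MulAut H) z = (a : MulAut H) ((b : MulAut H) z) := rfl

/-- The stabiliser of a chain `H ≥ L ≥ K ≥ 1`. -/
def Stab3 (X : Subgroup (MulAut H)) (L K : Subgroup H) (hKL : K ≤ L) : Subgroup X where
  carrier := {β | (∀ y, y⁻¹ * (β : MulAut H) y ∈ L) ∧ (∀ y ∈ L, y⁻¹ * (β : MulAut H) y ∈ K) ∧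
    ∀ y ∈ K, (β : MulAut H) y = y}
  one_mem' := by
    refine ⟨fun y => ?_, fun y _ => ?_, fun y _ => rfl⟩
    · show y⁻¹ * y ∈ L
      simp [L.one_mem]
    · show y⁻¹ * y ∈ K
      simp [K.one_mem]
  mul_mem' := by
    rintro a b ⟨ha1, ha2, ha3⟩ ⟨hb1, hb2, hb3⟩
    refine ⟨fun y => ?_, fun y hy => ?_, fun y hy => ?_⟩
    · rw [X_mul_apply]
      have h1 := hb1 y
      set l := y⁻¹ * (b : MulAut H) y with hl
      have h2 : (b : MulAut H) y = y * l := by rw [hl]; group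
      rw [h2, map_mul]
      have h3 := ha1 y
      have h4 := hKL (ha2 l h1)
      have h5 : y⁻¹ * ((a : MulAut H) y * (a : MulAut H) l) =
          (y⁻¹ * (a : MulAut H) y) * (l * (l⁻¹ * (a : MulAut H) l)) := by group
      rw [h5]
      exact L.mul_mem h3 (L.mul_mem h1 h4)
    · rw [X_mul_apply]
      have h1 := hb2 y hy
      set l := y⁻¹ * (b : MulAut H) y with hl
      have h2 : (b : MulAut H) y = y * l := by rw [hl]; group
      rw [h2, map_mul, ha3 l h1, ← mul_assoc]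
      exact K.mul_mem (ha2 y hy) h1
    · rw [X_mul_apply, hb3 y hy, ha3 y hy]
  inv_mem' := by
    rintro a ⟨ha1, ha2, ha3⟩
    refine ⟨fun y => ?_, fun y hy => ?_, fun y hy => ?_⟩
    · have h1 := L.inv_mem (ha1 (((a⁻¹ : X) : MulAut H) y))
      rw [X_inv_apply] at h1
      have h2 : ((((a⁻¹ : X) : MulAut H) y)⁻¹ * y)⁻¹ = y⁻¹ * ((a⁻¹ : X) : MulAut H) y := by group
      rwa [h2] at h1
    · have h1 := ha1 (((a⁻¹ : X) : MulAut H) y)
      rw [X_inv_apply] at h1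
      have hy' : ((a⁻¹ : X) : MulAut H) y ∈ L := by
        have h3 : ((a⁻¹ : X) : MulAut H) y = y * (((((a⁻¹ : X) : MulAut H) y)⁻¹ * y)⁻¹) := by group
        rw [h3]
        exact L.mul_mem hy (L.inv_mem h1)
      have h4 := K.inv_mem (ha2 _ hy')
      rw [X_inv_apply] at h4
      have h5 : ((((a⁻¹ : X) : MulAut H) y)⁻¹ * y)⁻¹ = y⁻¹ * ((a⁻¹ : X) : MulAut H) y := by group
      rwa [h5] at h4
    · apply (a : MulAut H).injective
      rw [X_inv_apply, ha3 y hy]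

theorem Stab3_isPGroup [Finite H] (hP : IsPGroup p H) (hc : ∀ a b : H, a * b = b * a) (X : Subgroup (MulAut H))
    (L K : Subgroup H) (hKL : K ≤ L) : IsPGroup p (Stab3 X L K hKL) := by
  classical
  haveI : Finite (MulAut H) := Finite.of_injective (fun α : MulAut H => (α : H → H)) DFunLike.coe_injective
  haveI hKn : K.Normal := ⟨fun n hn g => by
    rw [hc g n]
    simpa using hn⟩
  rintro ⟨b, hb⟩
  have ho : orderOf (b : MulAut H) ≠ 0 := (orderOf_pos _).ne'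
  obtain ⟨e, m, hm, hom⟩ := Nat.exists_eq_pow_mul_and_not_dvd ho p hp.out.ne_one
  refine ⟨e, ?_⟩
  have hbB : b ^ (p ^ e) ∈ Stab3 X L K hKL := (Stab3 X L K hKL).pow_mem hb _
  set β : MulAut H := ((b ^ (p ^ e) : X) : MulAut H) with hβ
  have hβm : β ^ m = 1 := by
    rw [hβ, Subgroup.coe_pow, ← pow_mul, ← hom, pow_orderOf_eq_one]
  have hcop : m.Coprime p := ((Nat.Prime.coprime_iff_not_dvd hp.out).2 hm).symm
  obtain ⟨h1, h2, h3⟩ := hbB
  have h4 : ∀ y, y⁻¹ * β y ∈ K := by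
    intro y
    refine coprime_step hP K L β (fun z hz => ?_) h2 m hβm hcop (h1 y)
    have h5 : β z = z * (z⁻¹ * β z) := by group
    rw [h5]
    exact L.mul_mem hz (hKL (h2 z hz))
  have hβ1 : β = 1 := by
    ext y
    have h5 := coprime_step hP (⊥ : Subgroup H) K β (fun z hz => by rw [h3 z hz]; exact hz)
      (fun z hz => by rw [h3 z hz]; simp) m hβm hcop (h4 y)
    rw [Subgroup.mem_bot] at h5
    exact (inv_mul_eq_one.1 h5).symm
  apply Subtype.ext
  apply Subtype.ext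
  simpa [hβ] using hβ1

/-- `y ↦ y⁻¹ v(y)` is a homomorphism for abelian `H`. -/
def dHom (hc : ∀ a b : H, a * b = b * a) (v : MulAut H) : H →* H where
  toFun y := y⁻¹ * v y
  map_one' := by simp
  map_mul' a b := by
    rw [map_mul, mul_inv_rev]
    calc b⁻¹ * a⁻¹ * (v a * v b) = a⁻¹ * b⁻¹ * (v a * v b) := by rw [hc b⁻¹ a⁻¹]
      _ = a⁻¹ * (b⁻¹ * v a) * v b := by group
      _ = a⁻¹ * (v a * b⁻¹) * v b := by rw [hc b⁻¹ (v a)]
      _ = _ := by group

theorem dHom_apply (hc : ∀ a b : H, a * b = b * a) (v : MulAut H) (y : H) : dHom hc v y = y⁻¹ * v y := rfl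

theorem v_eq (hc : ∀ a b : H, a * b = b * a) (v : MulAut H) (y : H) : v y = y * dHom hc v y := by
  rw [dHom_apply]; group

theorem pow_apply (hc : ∀ a b : H, a * b = b * a) (v : MulAut H) (hv : ∀ y, dHom hc v (dHom hc v y) = 1)
    (j : ℕ) (y : H) : (v ^ j) y = y * (dHom hc v y) ^ j := by
  induction j with
  | zero => simp
  | succ j ih =>
    rw [pow_succ', MulAut.mul_apply, ih, map_mul, map_pow, v_eq hc v y, v_eq hc v (dHom hc v y), hv, mul_one,
      pow_succ', mul_assoc]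

/-- The power map on an abelian group. -/
def powHom (hc : ∀ a b : H, a * b = b * a) (m : ℕ) : H →* H where
  toFun y := y ^ m
  map_one' := by simp
  map_mul' a b := (Commute.mul_pow (hc a b) m)

theorem powHom_apply (hc : ∀ a b : H, a * b = b * a) (m : ℕ) (y : H) : powHom hc m y = y ^ m := rfl

theorem weyl_aux {G : Type*} [CommGroup G] (y a b c d : G) :
    y * a * b * c * d * (d * c * b⁻¹ * a⁻¹) = y * c ^ 2 * d ^ 2 := by
  apply Additive.ofMul.injective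
  simp only [ofMul_mul, ofMul_inv, ofMul_pow]
  abel

theorem weyl_aux2 {G : Type*} [CommGroup G] (y a b c d : G) :
    (y * a) * (b * c) * (a * 1 * (d * a⁻¹)) = y * a * b * c * d := by
  apply Additive.ofMul.injective
  simp only [ofMul_mul, ofMul_inv, ofMul_one]
  abel

theorem weyl_aux3 {G : Type*} [CommGroup G] (a d : G) :
    a * 1 * d * a⁻¹ * 1 = d := by
  apply Additive.ofMul.injective
  simp only [ofMul_mul, ofMul_inv, ofMul_one]
  abel

theorem weyl_aux4 {G : Type*} [CommGroup G] (b c : G) :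
    b * c * 1 * 1 * b⁻¹ = c := by
  apply Additive.ofMul.injective
  simp only [ofMul_mul, ofMul_inv, ofMul_one]
  abel

/-- The Weyl element computation. -/
theorem weyl (hc : ∀ a b : H, a * b = b * a) (A B : H →* H) (hAA : ∀ y, A (A y) = 1) (hBB : ∀ y, B (B y) = 1)
    (hABA : ∀ y, A (B (A y)) = (A y)⁻¹) (hBAB : ∀ y, B (A (B y)) = (B y)⁻¹)
    (u v : MulAut H) (hu : ∀ y, u y = y * A y) (hv : ∀ y, v y = y * B y) (y : H) :
    ((u * v * u) * (u * v * u)) y = y * (B (A y)) ^ 2 * (A (B y)) ^ 2 := by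
  letI G : CommGroup H := { (inferInstance : Group H) with mul_comm := hc }
  have key1 : ∀ y, (u * v * u) y = y * A y * B y * B (A y) * A (B y) := by
    intro y
    show u (v (u y)) = _
    rw [hu y, hv, hu, map_mul, map_mul, map_mul, map_mul, hAA, hABA]
    exact weyl_aux2 (G := H) y (A y) (B y) (B (A y)) (A (B y))
  rw [MulAut.mul_apply, key1 y, key1]
  set a := A y
  set b := B y
  set c := B (A y)
  set d := A (B y)
  set y' := y * a * b * c * d with hy'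
  have h1 : A y' = d := by
    rw [hy', map_mul, map_mul, map_mul, map_mul]
    show A y * A a * A b * A c * A d = d
    have h2 : A a = 1 := hAA y
    have h3 : A c = a⁻¹ := hABA y
    have h4 : A d = 1 := hAA _
    rw [h2, h3, h4]
    exact weyl_aux3 (G := H) a d
  have h2 : B y' = c := by
    rw [hy', map_mul, map_mul, map_mul, map_mul]
    have h3 : B b = 1 := hBB y
    have h4 : B c = 1 := hBB _
    have h5 : B d = b⁻¹ := hBAB y
    rw [h3, h4, h5]
    exact weyl_aux4 (G := H) b c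
  rw [h1, h2]
  have h3 : B d = b⁻¹ := hBAB y
  have h4 : A c = a⁻¹ := hABA y
  rw [h3, h4]
  calc y' * d * c * b⁻¹ * a⁻¹ = (y * a * b * c * d) * (d * c * b⁻¹ * a⁻¹) := by
        rw [hy']
        simp only [mul_assoc]
    _ = _ := weyl_aux (G := H) y a b c d

omit [Group H] in
theorem solve_mod (c : ℕ) (hc : ¬ p ∣ c) (e : ℕ) : ∃ j : ℕ, p ∣ e + c * j := by
  have hc0 : (c : ZMod p) ≠ 0 := fun h => hc ((ZMod.natCast_eq_zero_iff _ _).1 h)
  refine ⟨(-(e : ZMod p) / c).val, ?_⟩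
  rw [← ZMod.natCast_eq_zero_iff]
  push_cast
  rw [ZMod.natCast_zmod_val]
  field_simp
  ring

/-- The normaliser criterion: a conjugate of `U` whose centre lies in the axis of `U` is `U`. -/
theorem G3 [Finite H] (hP : IsPGroup p H) (hc : ∀ a b : H, a * b = b * a) (X : Subgroup (MulAut H)) (U : Sylow p X)
    (Zb Yb : Subgroup H) (hYZ : Yb ≤ Zb)
    (hfix : ∀ u ∈ (U : Subgroup X), ∀ z ∈ Zb, (u : MulAut H) z = z)
    (hcomm : ∀ u ∈ (U : Subgroup X), ∀ y, y⁻¹ * (u : MulAut H) y ∈ Yb) (α : X)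
    (hα : ∀ y ∈ Yb, (α : MulAut H) y ∈ Zb) : ∀ v ∈ (U : Subgroup X), α * v * α⁻¹ ∈ (U : Subgroup X) := by
  haveI : Finite (MulAut H) := Finite.of_injective (fun α : MulAut H => (α : H → H)) DFunLike.coe_injective
  set K : Subgroup H := Yb.map ((α : MulAut H) : H ≃* H).toMonoidHom with hK
  set L : Subgroup H := Yb ⊔ K with hL
  have hKL : K ≤ L := le_sup_right
  have hKZ : K ≤ Zb := by
    rintro _ ⟨y, hy, rfl⟩
    exact hα y hy
  have hLZ : L ≤ Zb := sup_le hYZ hKZ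
  have hUS : (U : Subgroup X) ≤ Stab3 X L K hKL := by
    intro v hv
    refine ⟨fun y => Subgroup.mem_sup_left (hcomm v hv y), fun y hy => ?_, fun y hy => hfix v hv y (hKZ hy)⟩
    rw [hfix v hv y (hLZ hy)]
    simp [K.one_mem]
  have hSU := U.is_maximal' (Stab3_isPGroup hP hc X L K hKL) hUS
  intro v hv
  rw [← hSU]
  have hcK : ∀ y, y⁻¹ * ((α * v * α⁻¹ : X) : MulAut H) y ∈ K := by
    intro y
    set y' := ((α⁻¹ : X) : MulAut H) y with hy'
    have h0 : (α : MulAut H) y' = y := X_inv_apply α y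
    have h1 : ((α * v * α⁻¹ : X) : MulAut H) y = (α : MulAut H) ((v : MulAut H) y') := rfl
    have h2 : (v : MulAut H) y' = y' * (y'⁻¹ * (v : MulAut H) y') := by group
    rw [h1, h2, map_mul, h0]
    have h3 : y⁻¹ * (y * (α : MulAut H) (y'⁻¹ * (v : MulAut H) y')) = (α : MulAut H) (y'⁻¹ * (v : MulAut H) y') := by
      group
    rw [h3]
    exact ⟨_, hcomm v hv y', rfl⟩
  refine ⟨fun y => hKL (hcK y), fun y _ => hcK y, ?_⟩
  rintro _ ⟨r, hr, rfl⟩
  show (α : MulAut H) ((v : MulAut H) (((α⁻¹ : X) : MulAut H) ((α : MulAut H) r))) = (α : MulAut H) r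
  rw [X_inv_apply', hfix v hv r (hYZ hr)]

/-- The inversion element: data extracted from a pair of conjugate transvection groups. -/
theorem central_inversion [Finite H] (hP : IsPGroup p H) (hc : ∀ a b : H, a * b = b * a) (hp2 : p ≠ 2)
    (X : Subgroup (MulAut H)) (U : Sylow p X)
    (Zb Yb : Subgroup H) (hZi : Zb.index = p) (hYc : Nat.card Yb = p) (hYZ : Yb ≤ Zb)
    (hfix : ∀ u ∈ (U : Subgroup X), ∀ z ∈ Zb, (u : MulAut H) z = z)
    (hcomm : ∀ u ∈ (U : Subgroup X), ∀ y, y⁻¹ * (u : MulAut H) y ∈ Yb)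
    (u₀ : X) (hu₀ : u₀ ∈ (U : Subgroup X)) (hu₀1 : u₀ ≠ 1)
    (hO : ∀ B : Subgroup X, B.Normal → IsPGroup p B → B = ⊥) :
    ∃ t : X, (∀ β : X, β * t = t * β) ∧ (∀ y ∈ Yb, (t : MulAut H) y = y⁻¹) ∧
      (∀ z ∈ Zb, z⁻¹ * (t : MulAut H) z ∈ Yb) ∧ (∀ y, (t : MulAut H) y = y → y ∈ Zb) := by
  classical
  haveI : Finite (MulAut H) := Finite.of_injective (fun α : MulAut H => (α : H → H)) DFunLike.coe_injective
  set u : MulAut H := (u₀ : MulAut H) with hu
  set A : H →* H := dHom hc u with hA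
  have hA_Y : ∀ y, A y ∈ Yb := hcomm u₀ hu₀
  have hA_Z : ∀ z ∈ Zb, A z = 1 := fun z hz => by
    rw [hA, dHom_apply, hu, hfix u₀ hu₀ z hz]
    simp
  have hu1 : ∀ y, u y = y * A y := fun y => v_eq hc u y
  have hAne : ∃ w, A w ≠ 1 := by
    by_contra h
    push Not at h
    apply hu₀1
    apply Subtype.ext
    ext y
    show u y = y
    rw [hu1, h, mul_one]
  have hA_ker : ∀ y, A y = 1 → y ∈ Zb := by
    intro y hy
    by_contra hyZ
    obtain ⟨w, hw⟩ := hAne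
    have h1 : A.ker = ⊤ := top_of_index_prime hZi (fun z hz => hA_Z z hz) (x := y) hy hyZ
    exact hw (by
      have : w ∈ A.ker := by rw [h1]; trivial
      exact this)
  obtain ⟨w₀, hw₀⟩ := hAne
  set z₀ := A w₀ with hz₀
  have hz₀Y : z₀ ∈ Yb := hA_Y w₀
  have hYpow : ∀ y ∈ Yb, ∃ i : ℕ, y = z₀ ^ i := by
    intro y hy
    have hne : (⟨z₀, hz₀Y⟩ : Yb) ≠ 1 := fun h => hw₀ (congrArg Subtype.val h)
    have h1 : (⟨y, hy⟩ : Yb) ∈ Subgroup.zpowers (⟨z₀, hz₀Y⟩ : Yb) := mem_zpowers_of_prime_card hYc hne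
    obtain ⟨i, hi⟩ := (mem_powers_iff_mem_zpowers.2 h1)
    refine ⟨i, ?_⟩
    have h2 := congrArg Subtype.val hi
    simpa using h2.symm
  have hz₀p : z₀ ^ p = 1 := by
    have h1 : (⟨z₀, hz₀Y⟩ : Yb) ^ p = 1 := by
      rw [← hYc]
      exact pow_card_eq_one'
    simpa using congrArg Subtype.val h1
  have hYp : ∀ y ∈ Yb, y ^ p = 1 := by
    intro y hy
    obtain ⟨i, rfl⟩ := hYpow y hy
    rw [← pow_mul, mul_comm, pow_mul, hz₀p, one_pow]
  have hord : orderOf z₀ = p := orderOf_eq_prime hz₀p hw₀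
  have hpdvd : ∀ i : ℕ, z₀ ^ i = 1 → p ∣ i := fun i hi => by
    rw [← hord]
    exact orderOf_dvd_of_pow_eq_one hi
  have hA_surj : ∀ y ∈ Yb, ∃ w, A w = y := by
    intro y hy
    obtain ⟨i, rfl⟩ := hYpow y hy
    exact ⟨w₀ ^ i, by rw [map_pow]⟩
  -- the normaliser of `U`
  set N : Subgroup X := Subgroup.normalizer ((U : Subgroup X) : Set X) with hN
  have hNmem : ∀ α : X, (∀ v ∈ (U : Subgroup X), α * v * α⁻¹ ∈ (U : Subgroup X)) → α ∈ N := fun α h =>
    mem_normalizer_of_forall (P := (U : Subgroup X)) h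
  have hNpres : ∀ α ∈ N, ∀ y ∈ Yb, (α : MulAut H) y ∈ Yb := by
    intro α hα y hy
    obtain ⟨w, rfl⟩ := hA_surj y hy
    have h1 : α * u₀ * α⁻¹ ∈ (U : Subgroup X) := (Subgroup.mem_normalizer_iff.1 hα u₀).1 hu₀
    have h2 := hcomm _ h1 ((α : MulAut H) w)
    have h3 : ((α * u₀ * α⁻¹ : X) : MulAut H) ((α : MulAut H) w) = (α : MulAut H) (u w) := by
      show (α : MulAut H) ((u₀ : MulAut H) (((α⁻¹ : X) : MulAut H) ((α : MulAut H) w))) = _
      rw [X_inv_apply']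
    rw [h3] at h2
    have h4 : A w = w⁻¹ * u w := rfl
    rw [h4, map_mul, map_inv]
    exact h2
  have hZ0N : ∀ α : X, (α : MulAut H) z₀ ∈ Zb → α ∈ N := by
    intro α hα
    apply hNmem
    apply G3 hP hc X U Zb Yb hYZ hfix hcomm α
    intro y hy
    obtain ⟨i, rfl⟩ := hYpow y hy
    rw [map_pow]
    exact Zb.pow_mem hα i
  -- a conjugate different from `U`
  obtain ⟨α₁, hα₁⟩ : ∃ α : X, α ∉ N := by
    by_contra h
    push Not at h
    have hUn : (U : Subgroup X).Normal := ⟨fun v hv g => (Subgroup.mem_normalizer_iff.1 (h g) v).1 hv⟩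
    have h1 := hO _ hUn U.isPGroup'
    rw [h1, Subgroup.mem_bot] at hu₀
    exact hu₀1 hu₀
  set a1 : MulAut H := (α₁ : MulAut H) with ha1
  set z₁ := a1 z₀ with hz₁
  have hz₁Z : z₁ ∉ Zb := fun h => hα₁ (hZ0N α₁ h)
  have ha1inv : ((α₁⁻¹ : X) : MulAut H) z₀ ∉ Zb := fun h => hα₁ (by
    have := hZ0N α₁⁻¹ h
    simpa using N.inv_mem this)
  -- the second transvection
  set u' : X := α₁ * u₀ * α₁⁻¹ with hu'
  set A' : H →* H := dHom hc (u' : MulAut H) with hA'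
  have hA'eq : ∀ y, A' y = a1 (A (((α₁⁻¹ : X) : MulAut H) y)) := by
    intro y
    have h0 : a1 (((α₁⁻¹ : X) : MulAut H) y) = y := X_inv_apply α₁ y
    show y⁻¹ * (u' : MulAut H) y = a1 ((((α₁⁻¹ : X) : MulAut H) y)⁻¹ * u (((α₁⁻¹ : X) : MulAut H) y))
    rw [map_mul, map_inv, h0]
    rfl
  have hz₁pow : ∀ y ∈ Yb, ∃ i : ℕ, a1 y = z₁ ^ i := by
    intro y hy
    obtain ⟨i, rfl⟩ := hYpow y hy
    exact ⟨i, by rw [map_pow]⟩
  have hA'pow : ∀ y, ∃ i : ℕ, A' y = z₁ ^ i := fun y => by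
    rw [hA'eq]
    exact hz₁pow _ (hA_Y _)
  have hz₁p : z₁ ^ p = 1 := by
    rw [hz₁, ← map_pow, hz₀p, map_one]
  have hA'z₁ : A' z₁ = 1 := by
    rw [hA'eq]
    have h0 : ((α₁⁻¹ : X) : MulAut H) z₁ = z₀ := X_inv_apply' α₁ z₀
    rw [h0, hA_Z z₀ (hYZ hz₀Y), map_one]
  have hA'A' : ∀ y, A' (A' y) = 1 := fun y => by
    obtain ⟨i, hi⟩ := hA'pow y
    rw [hi, map_pow, hA'z₁, one_pow]
  -- coordinates
  have hcoord : ∀ w, A w ≠ 1 → ∃ c : ℕ, A w = z₀ ^ c ∧ ¬ p ∣ c := by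
    intro w hw
    obtain ⟨c, hc'⟩ := hYpow _ (hA_Y w)
    refine ⟨c, hc', fun hd => hw ?_⟩
    obtain ⟨k, rfl⟩ := hd
    rw [hc', pow_mul, hz₀p, one_pow]
  obtain ⟨a, haz, hap⟩ := hcoord z₁ (fun h => hz₁Z (hA_ker _ h))
  obtain ⟨b, hbz, hbp⟩ := hcoord _ (fun h => ha1inv (hA_ker _ h))
  have hA'z₀ : A' z₀ = z₁ ^ b := by
    rw [hA'eq, hbz, map_pow]
  -- solving congruences
  have hsolve : ∀ c : ℕ, ¬ p ∣ c → ∀ e : ℕ, ∃ j : ℕ, p ∣ e + c * j := solve_mod
  have hab : ¬ p ∣ a * b := fun h => (hp.out.dvd_mul.1 h).elim hap hbp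
  obtain ⟨m, hm⟩ := hsolve (a * b) hab 1
  -- the two homomorphisms
  set B : H →* H := (powHom hc m).comp A' with hB
  have hBapp : ∀ y, B y = (A' y) ^ m := fun y => rfl
  have hpowz₀ : z₀ ^ (1 + a * b * m) = 1 := by
    obtain ⟨k, hk⟩ := hm
    rw [hk, pow_mul, hz₀p, one_pow]
  have hpowz₁ : z₁ ^ (1 + a * b * m) = 1 := by
    obtain ⟨k, hk⟩ := hm
    rw [hk, pow_mul, hz₁p, one_pow]
  have hinvz₀ : z₀ ^ (a * b * m) = z₀⁻¹ := by
    rw [pow_add, pow_one] at hpowz₀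
    exact eq_inv_of_mul_eq_one_right hpowz₀
  have hinvz₁ : z₁ ^ (a * b * m) = z₁⁻¹ := by
    rw [pow_add, pow_one] at hpowz₁
    exact eq_inv_of_mul_eq_one_right hpowz₁
  have hABz₀ : A (B z₀) = z₀⁻¹ := by
    rw [hBapp, hA'z₀, map_pow, map_pow, haz, ← pow_mul, ← pow_mul, ← hinvz₀]
    congr 1
    ring
  have hBAz₁ : B (A z₁) = z₁⁻¹ := by
    rw [haz, map_pow, hBapp, hA'z₀, ← pow_mul, ← pow_mul, ← hinvz₁]
    congr 1
    ring
  have hAA : ∀ y, A (A y) = 1 := fun y => hA_Z _ (hYZ (hA_Y y))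
  have hBBz : ∀ i : ℕ, B (z₁ ^ i) = 1 := fun i => by
    rw [hBapp, map_pow, hA'z₁, one_pow, one_pow]
  have hBpow : ∀ y, ∃ i : ℕ, B y = z₁ ^ i := fun y => by
    obtain ⟨i, hi⟩ := hA'pow y
    exact ⟨i * m, by rw [hBapp, hi, pow_mul]⟩
  have hBB : ∀ y, B (B y) = 1 := fun y => by
    obtain ⟨i, hi⟩ := hBpow y
    rw [hi, hBBz]
  have hABY : ∀ y ∈ Yb, A (B y) = y⁻¹ := by
    intro y hy
    obtain ⟨i, rfl⟩ := hYpow y hy
    rw [map_pow, map_pow, hABz₀, inv_pow]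
  have hBAz : ∀ i : ℕ, B (A (z₁ ^ i)) = (z₁ ^ i)⁻¹ := fun i => by
    rw [map_pow, map_pow, hBAz₁, inv_pow]
  have hABA : ∀ y, A (B (A y)) = (A y)⁻¹ := fun y => hABY _ (hA_Y y)
  have hBAB : ∀ y, B (A (B y)) = (B y)⁻¹ := fun y => by
    obtain ⟨i, hi⟩ := hBpow y
    rw [hi, hBAz]
  -- the Weyl element
  set u'' : X := u' ^ m with hu''
  have hv : ∀ y, (u'' : MulAut H) y = y * B y := by
    intro y
    rw [hu'', Subgroup.coe_pow, pow_apply hc _ hA'A' m y]
    rfl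
  set w : X := u₀ * u'' * u₀ with hw
  set t : X := w * w with ht
  have htf : ∀ y, (t : MulAut H) y = y * (B (A y)) ^ 2 * (A (B y)) ^ 2 := fun y =>
    weyl hc A B hAA hBB hABA hBAB u (u'' : MulAut H) hu1 hv y
  have hTY : ∀ y ∈ Yb, (t : MulAut H) y = y⁻¹ := by
    intro y hy
    rw [htf, hA_Z y (hYZ hy), map_one, one_pow, mul_one, hABY y hy]
    group
  refine ⟨t, ?_, hTY, ?_, ?_⟩
  · -- centrality
    set Y' : Subgroup H := Yb.map (a1 : H ≃* H).toMonoidHom with hY'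
    set V₀ : Subgroup H := Yb ⊔ Y' with hV₀
    have hz₁Y' : z₁ ∈ Y' := ⟨z₀, hz₀Y, rfl⟩
    have hBV : ∀ y, B y ∈ Y' := fun y => by
      obtain ⟨i, hi⟩ := hBpow y
      rw [hi]
      exact Y'.pow_mem hz₁Y' i
    have hVmem : ∀ β : X, (β : MulAut H) z₀ ∈ V₀ := by
      intro β
      by_contra hz₂
      set z₂ := (β : MulAut H) z₀ with hz₂def
      have hβN : β ∉ N := fun h => hz₂ (Subgroup.mem_sup_left (hNpres β h z₀ hz₀Y))
      have hz₂Z : z₂ ∉ Zb := fun h => hβN (hZ0N β h)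
      obtain ⟨c, hcz, hcp⟩ := hcoord z₂ (fun h => hz₂Z (hA_ker _ h))
      have h1 : ((α₁⁻¹ : X) : MulAut H) z₂ ∉ Zb := by
        intro h
        have h2 := hZ0N (α₁⁻¹ * β) h
        have h3 := hNpres _ h2 z₀ hz₀Y
        apply hz₂
        apply Subgroup.mem_sup_right
        refine ⟨_, h3, ?_⟩
        show a1 (((α₁⁻¹ * β : X) : MulAut H) z₀) = z₂
        exact X_inv_apply α₁ z₂
      obtain ⟨d, hdz, hdp⟩ := hcoord _ (fun h => h1 (hA_ker _ h))
      have hA'z₂ : A' z₂ = z₁ ^ d := by rw [hA'eq, hdz, map_pow]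
      obtain ⟨j, hj⟩ := hsolve (a * d) (fun h => (hp.out.dvd_mul.1 h).elim hap hdp) c
      set δ : X := u' ^ j * β with hδ
      have hδz : (δ : MulAut H) z₀ = z₂ * (z₁ ^ d) ^ j := by
        show ((u' ^ j : X) : MulAut H) z₂ = _
        rw [Subgroup.coe_pow, pow_apply hc _ hA'A' j z₂]
        show z₂ * (A' z₂) ^ j = _
        rw [hA'z₂]
      have h2 : A ((δ : MulAut H) z₀) = 1 := by
        rw [hδz, map_mul, map_pow, map_pow, hcz, haz, ← pow_mul, ← pow_mul, ← pow_add]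
        obtain ⟨k, hk⟩ := hj
        have h5 : c + a * (d * j) = p * k := by rw [← hk]; ring
        rw [h5, pow_mul, hz₀p, one_pow]
      have h3 := hNpres δ (hZ0N δ (hA_ker _ h2)) z₀ hz₀Y
      rw [hδz] at h3
      apply hz₂
      have h4 : z₂ = (z₂ * (z₁ ^ d) ^ j) * ((z₁ ^ d) ^ j)⁻¹ := by group
      rw [h4]
      exact V₀.mul_mem (Subgroup.mem_sup_left h3)
        (Subgroup.mem_sup_right (Y'.inv_mem (Y'.pow_mem (Y'.pow_mem hz₁Y' d) j)))
    have hV1 : ∀ β : X, ∀ y ∈ Yb, (β : MulAut H) y ∈ V₀ := fun β y hy => by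
      obtain ⟨i, rfl⟩ := hYpow y hy
      rw [map_pow]
      exact V₀.pow_mem (hVmem β) i
    have hVinv : ∀ β : X, ∀ y ∈ V₀, (β : MulAut H) y ∈ V₀ := by
      intro β y hy
      have hle : V₀ ≤ V₀.comap ((β : MulAut H) : H ≃* H).toMonoidHom := by
        apply sup_le
        · intro r hr
          exact hV1 β r hr
        · rintro _ ⟨r, hr, rfl⟩
          exact hV1 (β * α₁) r hr
      exact hle hy
    -- `t` inverts `V₀`
    have hTY' : ∀ y ∈ Y', (t : MulAut H) y = y⁻¹ := by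
      rintro _ ⟨r, hr, rfl⟩
      obtain ⟨i, rfl⟩ := hYpow r hr
      show (t : MulAut H) (a1 (z₀ ^ i)) = (a1 (z₀ ^ i))⁻¹
      have h1 : a1 (z₀ ^ i) = z₁ ^ i := by rw [map_pow]
      rw [h1, htf, hBBz, map_one, one_pow, mul_one, hBAz]
      group
    have hVt : ∀ y ∈ V₀, (t : MulAut H) y = y⁻¹ := by
      let Inv : Subgroup H :=
        { carrier := {y | (t : MulAut H) y = y⁻¹}
          one_mem' := by simp
          mul_mem' := by
            intro a b ha hb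
            show (t : MulAut H) (a * b) = (a * b)⁻¹
            rw [map_mul, ha, hb, mul_inv_rev, hc]
          inv_mem' := by
            intro a ha
            show (t : MulAut H) a⁻¹ = a⁻¹⁻¹
            rw [map_inv, ha] }
      have hle : V₀ ≤ Inv := sup_le hTY hTY'
      exact fun y hy => hle hy
    have hVt' : ∀ y, y⁻¹ * (t : MulAut H) y ∈ V₀ := by
      intro y
      rw [htf]
      have h1 : y⁻¹ * (y * (B (A y)) ^ 2 * (A (B y)) ^ 2) = (B (A y)) ^ 2 * (A (B y)) ^ 2 := by group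
      rw [h1]
      exact V₀.mul_mem (V₀.pow_mem (Subgroup.mem_sup_right (hBV _)) 2) (V₀.pow_mem (Subgroup.mem_sup_left (hA_Y _)) 2)
    -- the kernel of the action on `V₀` and `H / V₀`
    have hVn : (Cfsg.Agent.Lib.Cl.EssIdx.Vof X V₀).Normal := by
      refine ⟨fun ε hε g => ⟨fun v hv => ?_, fun y => ?_⟩⟩
      · show (g : MulAut H) ((ε : MulAut H) (((g⁻¹ : X) : MulAut H) v)) = v
        rw [hε.1 _ (hVinv g⁻¹ v hv), X_inv_apply]
      · show y⁻¹ * (g : MulAut H) ((ε : MulAut H) (((g⁻¹ : X) : MulAut H) y)) ∈ V₀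
        set y' := ((g⁻¹ : X) : MulAut H) y with hy'
        have h1 : (ε : MulAut H) y' = y' * (y'⁻¹ * (ε : MulAut H) y') := by group
        rw [h1, map_mul, hy', X_inv_apply, ← hy']
        have h2 : y⁻¹ * (y * (g : MulAut H) (y'⁻¹ * (ε : MulAut H) y')) = (g : MulAut H) (y'⁻¹ * (ε : MulAut H) y') := by
          group
        rw [h2]
        exact hVinv g _ (hε.2 y')
    have hVb := hO _ hVn (Vof_isPGroup hP X V₀)
    intro β
    have htinv : ∀ y ∈ V₀, ((t⁻¹ : X) : MulAut H) y = y⁻¹ := by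
      intro y hy
      apply (t : MulAut H).injective
      rw [X_inv_apply, hVt _ (V₀.inv_mem hy), inv_inv]
    have hcmem : β * t * β⁻¹ * t⁻¹ ∈ Vof X V₀ := by
      refine ⟨fun v hv => ?_, fun y => ?_⟩
      · show (β : MulAut H) ((t : MulAut H) (((β⁻¹ : X) : MulAut H) (((t⁻¹ : X) : MulAut H) v))) = v
        rw [htinv v hv, map_inv, hVt _ (V₀.inv_mem (hVinv β⁻¹ _ hv)), inv_inv, X_inv_apply]
      · show y⁻¹ * (β : MulAut H) ((t : MulAut H) (((β⁻¹ : X) : MulAut H) (((t⁻¹ : X) : MulAut H) y))) ∈ V₀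
        set y₁ := ((t⁻¹ : X) : MulAut H) y with hy₁
        have ht1 : (t : MulAut H) y₁ = y := X_inv_apply t y
        set y₂ := ((β⁻¹ : X) : MulAut H) y₁ with hy₂
        have hb2 : (β : MulAut H) y₂ = y₁ := X_inv_apply β y₁
        have h1 : (t : MulAut H) y₂ = y₂ * (y₂⁻¹ * (t : MulAut H) y₂) := by group
        rw [h1, map_mul, hb2]
        have h2 := hVt' y₁
        rw [ht1] at h2
        have h3 := hVinv β _ (hVt' y₂)
        have h4 : y⁻¹ * (y₁ * (β : MulAut H) (y₂⁻¹ * (t : MulAut H) y₂)) = (y₁⁻¹ * y)⁻¹ * (β : MulAut H) (y₂⁻¹ * (t : MulAut H) y₂) := by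
          group
        rw [h4]
        exact V₀.mul_mem (V₀.inv_mem h2) h3
    rw [hVb, Subgroup.mem_bot] at hcmem
    have h5 := mul_inv_eq_one.1 hcmem
    have h6 := mul_inv_eq_iff_eq_mul.1 h5
    exact h6
  · intro z hz
    rw [htf, hA_Z z hz, map_one, one_pow, mul_one]
    have h1 : z⁻¹ * (z * (A (B z)) ^ 2) = (A (B z)) ^ 2 := by group
    rw [h1]
    exact Yb.pow_mem (hA_Y _) 2
  · intro y hy
    rw [htf] at hy
    have h1 : (B (A y)) ^ 2 * (A (B y)) ^ 2 = 1 := by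
      have h2 : y * ((B (A y)) ^ 2 * (A (B y)) ^ 2) = y := by rw [← mul_assoc]; exact hy
      exact mul_eq_left.1 h2
    have h2 := congrArg A h1
    rw [map_mul, map_pow, map_pow, hABA, hAA, one_pow, mul_one, map_one, inv_pow] at h2
    have h3 : (A y) ^ 2 = 1 := by simpa using h2
    apply hA_ker
    have h4 := hYp _ (hA_Y y)
    have hcop : Nat.Coprime 2 p := (Nat.coprime_primes Nat.prime_two hp.out).2 (Ne.symm hp2)
    have h5 := Nat.eq_one_of_dvd_coprimes hcop (orderOf_dvd_of_pow_eq_one h3) (orderOf_dvd_of_pow_eq_one h4)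
    exact orderOf_eq_one_iff.1 h5

end basics

end Cfsg.Agent.Lib.Cl.EssZ
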