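import Mathlib
import Cfsg.Agent.Lib.Cl.EssZ1
import Cfsg.Agent.Lib.Fusion.Radical
import Cfsg.Agent.Lib.Fusion.Induction

set_option autoImplicit false

namespace Cfsg.Agent.Lib.Cl.EssZ

open Cfsg Cfsg.FusionSystem Cfsg.Agent.Lib.Fusion Cfsg.Agent.Lib.Cl.EssIdx Cfsg.Agent.Lib.Cl.EssFour
open scoped commutatorElement

variable {p : ℕ} [hp : Fact p.Prime] {Ω : Type*} [Group Ω] {S A P : Subgroup Ω}

omit hp in
theorem gamma_Z (γ : MulAut S) {z : Ω} (hz : z ∈ Zc S) : ((γ ⟨z, hz.1⟩ : S) : Ω) ∈ Zc S := by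
  refine Subgroup.mem_inf.2 ⟨(γ ⟨z, hz.1⟩ : S).2, Subgroup.mem_centralizer_iff.2 fun s hs => ?_⟩
  obtain ⟨s', hs'⟩ := γ.surjective ⟨s, hs⟩
  have h1 : (s' : Ω) * z = z * s' := Subgroup.mem_centralizer_iff.1 hz.2 _ s'.2
  have h2 : s' * ⟨z, hz.1⟩ = ⟨z, hz.1⟩ * s' := Subtype.ext h1
  have h3 := congrArg γ h2
  rw [map_mul, map_mul, hs'] at h3
  exact congrArg Subtype.val h3

omit hp in
theorem gamma_inv_apply (γ : MulAut S) {z : Ω} (hz : z ∈ Zc S) :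
    ((γ ⟨((γ⁻¹ ⟨z, hz.1⟩ : S) : Ω), (gamma_Z γ⁻¹ hz).1⟩ : S) : Ω) = z := by
  have h1 : γ (γ⁻¹ ⟨z, hz.1⟩) = ⟨z, hz.1⟩ := by
    show (γ * γ⁻¹) ⟨z, hz.1⟩ = ⟨z, hz.1⟩
    simp
  exact congrArg Subtype.val h1

/-- The property of a morphism defining the subsystem. -/
def PrN (F : FusionSystem S) (n : ℕ) {R : Subgroup Ω} (φ : R →* Ω) : Prop :=
  n ≤ Nat.card R → (Zc S ≤ R ∨ Zc S ≤ φ.range) →
    ∃ hZ : Zc S ≤ R, ∃ γ ∈ F.autGroup S, ∀ z (hz : z ∈ Zc S), φ ⟨z, hZ hz⟩ = ((γ ⟨z, hz.1⟩ : S) : Ω)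

variable [Finite S]

/-- The subsystem of morphisms with the property. -/
def En (F : FusionSystem S) (n : ℕ) : FusionSystem S where
  Hom R := {φ | φ ∈ F.Hom R ∧ PrN F n φ}
  le_of_mem h := F.le_of_mem h.1
  injective_of_mem h := F.injective_of_mem h.1
  conj_mem {R g} hR hg := by
    refine ⟨F.conj_mem hR hg, fun _ hcase => ?_⟩
    have hgz : ∀ z ∈ Zc S, g * z * g⁻¹ = z := fun z hz => by
      have h1 : g * z = z * g := (Subgroup.mem_centralizer_iff.1 hz.2 g hg)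
      rw [h1]
      simp
    have hZ : Zc S ≤ R := by
      rcases hcase with h | h
      · exact h
      · intro z hz
        obtain ⟨y, hy⟩ := h hz
        have h1 : g * (y : Ω) * g⁻¹ = z := hy
        have h2 : (y : Ω) = z := by
          have h3 := hgz z hz
          rw [← h3] at h1
          simpa using h1
        rw [← h2]
        exact y.2
    refine ⟨hZ, 1, Subgroup.one_mem _, fun z hz => ?_⟩
    show g * z * g⁻¹ = z
    exact hgz z hz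
  comp_mem {R Q φ ψ} h1 h2 h := by
    refine ⟨F.comp_mem h1.1 h2.1 h, fun hn hcase => ?_⟩
    have hRS := (F.le_of_mem h1.1).1
    have hQS := (F.le_of_mem h2.1).1
    haveI := finite_of_le hQS
    have hcard : Nat.card R ≤ Nat.card Q := Nat.card_le_card_of_injective (φ.codRestrict Q h)
      (fun a b hab => F.injective_of_mem h1.1 (congrArg Subtype.val hab))
    have hnQ := hn.trans hcard
    have key : Zc S ≤ R ∨ Zc S ≤ φ.range := by
      rcases hcase with hl | hr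
      · exact Or.inl hl
      · right
        have hψr : Zc S ≤ ψ.range := fun z hz => by
          obtain ⟨y, hy⟩ := hr hz
          exact ⟨_, hy⟩
        obtain ⟨hZQ, γ₂, hγ₂, hv₂⟩ := h2.2 hnQ (Or.inr hψr)
        intro z hz
        obtain ⟨y, hy⟩ := hr (gamma_Z γ₂ hz)
        have h3 : ψ (φ.codRestrict Q h y) = ψ ⟨z, hZQ hz⟩ := by
          rw [hv₂ z hz]
          exact hy
        have h4 := F.injective_of_mem h2.1 h3
        exact ⟨y, congrArg Subtype.val h4⟩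
    obtain ⟨hZR, γ₁, hγ₁, hv₁⟩ := h1.2 hn key
    have hZQ' : Zc S ≤ Q := fun z hz => by
      have h5 := hv₁ _ (gamma_Z γ₁⁻¹ hz)
      rw [gamma_inv_apply γ₁ hz] at h5
      rw [← h5]
      exact h _
    obtain ⟨_, γ₂, hγ₂, hv₂⟩ := h2.2 hnQ (Or.inl hZQ')
    refine ⟨hZR, γ₂ * γ₁, Subgroup.mul_mem _ hγ₂ hγ₁, fun z hz => ?_⟩
    have h6 : (φ.codRestrict Q h ⟨z, hZR hz⟩) = ⟨((γ₁ ⟨z, hz.1⟩ : S) : Ω), hZQ' (gamma_Z γ₁ hz)⟩ :=
      Subtype.ext (hv₁ z hz)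
    show ψ (φ.codRestrict Q h ⟨z, _⟩) = _
    rw [h6, hv₂ _ (gamma_Z γ₁ hz)]
    rfl
  inv_mem {R φ} h := by
    obtain ⟨ψ, hψ, hv⟩ := F.inv_mem h.1
    refine ⟨ψ, ⟨hψ, fun hn hcase => ?_⟩, hv⟩
    have hRS := (F.le_of_mem h.1).1
    haveI := finite_of_le hRS
    have hcard : Nat.card φ.range = Nat.card R :=
      Nat.card_congr (MonoidHom.ofInjective (F.injective_of_mem h.1)).toEquiv.symm
    have key : Zc S ≤ R ∨ Zc S ≤ φ.range := by
      rcases hcase with hl | hr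
      · exact Or.inr hl
      · left
        intro z hz
        obtain ⟨⟨_, x, rfl⟩, hy⟩ := hr hz
        have h2 := hv x
        rw [show ψ ⟨φ x, ⟨x, rfl⟩⟩ = z from hy] at h2
        rw [h2]
        exact x.2
    obtain ⟨hZR, γ, hγ, hvγ⟩ := h.2 (by rw [hcard] at hn; exact hn) key
    have hZr : Zc S ≤ φ.range := fun z hz => by
      have h5 := hvγ _ (gamma_Z γ⁻¹ hz)
      rw [gamma_inv_apply γ hz] at h5
      exact ⟨_, h5⟩
    refine ⟨hZr, γ⁻¹, Subgroup.inv_mem _ hγ, fun z hz => ?_⟩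
    have h5 := hvγ _ (gamma_Z γ⁻¹ hz)
    rw [gamma_inv_apply γ hz] at h5
    have h6 : (⟨z, hZr hz⟩ : φ.range) = ⟨φ ⟨_, hZR (gamma_Z γ⁻¹ hz)⟩, ⟨_, rfl⟩⟩ := Subtype.ext h5.symm
    rw [h6, hv]

variable {F : FusionSystem S}

theorem prN_all (hS : IsPGroup p S) (hF : F.IsSaturated p) (n : ℕ)
    (hE : ∀ P : Subgroup Ω, F.IsEssential p P → n ≤ Nat.card P → ∀ α ∈ F.autGroup P,
      ∃ hZ : Zc S ≤ P, ∃ γ ∈ F.autGroup S, ∀ z (hz : z ∈ Zc S), ((α ⟨z, hZ hz⟩ : P) : Ω) = ((γ ⟨z, hz.1⟩ : S) : Ω)) :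
    ∀ R : Subgroup Ω, ∀ φ ∈ F.Hom R, PrN F n φ := by
  have h : F ≤ En F n := by
    apply alperin hS hF (En F n)
    intro P hP α hα
    have hPS : P ≤ S := by
      rcases hP with rfl | hP
      · exact le_rfl
      · exact hP.1.1
    rw [mem_autGroup_iff hPS]
    refine ⟨(mem_autGroup_iff hPS).1 hα, fun hn _ => ?_⟩
    rcases hP with rfl | hP
    · exact ⟨inf_le_left, α, hα, fun z hz => rfl⟩
    · exact hE P hP hn α hα
  intro R φ hφ
  exact (h R hφ).2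

end Cfsg.Agent.Lib.Cl.EssZ
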