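import Mathlib
import Cfsg.Agent.Lib.Cl.EssZ2

set_option autoImplicit false

namespace Cfsg.Agent.Lib.Cl.EssZ

open Cfsg Cfsg.FusionSystem Cfsg.Agent.Lib.Fusion Cfsg.Agent.Lib.Cl.EssIdx Cfsg.Agent.Lib.Cl.EssFour
open scoped commutatorElement

variable {p : ℕ} [hp : Fact p.Prime] {Ω : Type*} [Group Ω] {S A P : Subgroup Ω} [Finite S] {F : FusionSystem S}

theorem ess_card_ab (hd : IdxData p S A) (hP : F.IsEssential p P) {x : Ω} (hxP : x ∈ P) (hxA : x ∉ A)
    (hab : ∀ u ∈ P, ∀ v ∈ P, u * v = v * u) : Nat.card P = p * Nat.card (Zc S) := by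
  have hPS := hP.1.1
  have h5 := hd.card_eq hPS (fun h => hxA (h hxP))
  have hRZ : ∀ b ∈ P, b ∈ A → b ∈ Zc S := fun b hb hbA => hd.mem_Z (hPS hxP) hxA hbA (hab _ hb _ hxP)
  have hPAeq : P ⊓ A = Zc S := le_antisymm (fun b hb => hRZ b hb.1 hb.2) (le_inf (Z_le_P hP) hd.Zle)
  rw [hPAeq] at h5
  exact h5

theorem ess_card_nonab (hd : IdxData p S A) (hF : F.IsSaturated p) (hP : F.IsEssential p P) {x : Ω} (hxP : x ∈ P)
    (hxA : x ∉ A) (hna : ¬ ∀ u ∈ P, ∀ v ∈ P, u * v = v * u) : Nat.card P = p * (p * Nat.card (Zc S)) := by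
  have hPS := hP.1.1
  obtain ⟨hiff, hD, -⟩ := nonab_main hd hF hP hxP hxA hna
  have h5 := hd.card_eq hPS (fun h => hxA (h hxP))
  have hD₀ : ((Zc S).subgroupOf A).comap (tau hd (hPS hxP)) = P.subgroupOf A := by
    ext a
    rw [Subgroup.mem_subgroupOf, ← hiff a a.2]
    rfl
  have hcZ : Nat.card ((Zc S).subgroupOf A) = Nat.card (Zc S) :=
    Nat.card_congr (Subgroup.subgroupOfEquivOfLe hd.Zle).toEquiv
  have hcD : Nat.card (P.subgroupOf A) = Nat.card (P ⊓ A : Subgroup Ω) := by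
    rw [card_subOf, inf_comm]
  rw [hD₀, hcD, hcZ] at hD
  rw [h5, hD]

theorem ess_not_le (hd : IdxData p S A) (hAe : ¬ F.IsEssential p A) (hP : F.IsEssential p P) : ¬ P ≤ A := by
  intro h
  have h1 := eq_of_le hd hP h
  exact hAe (h1 ▸ hP)

theorem ess_card_le (hd : IdxData p S A) (hF : F.IsSaturated p) (hAe : ¬ F.IsEssential p A) (hP : F.IsEssential p P) :
    Nat.card P ≤ p * (p * Nat.card (Zc S)) := by
  obtain ⟨x, hxP, hxA⟩ := SetLike.not_le_iff_exists.1 (ess_not_le hd hAe hP)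
  by_cases hab : ∀ u ∈ P, ∀ v ∈ P, u * v = v * u
  · rw [ess_card_ab hd hP hxP hxA hab]
    exact Nat.mul_le_mul_left p (Nat.le_mul_of_pos_left _ hp.out.pos)
  · rw [ess_card_nonab hd hF hP hxP hxA hab]

theorem prN3 (hd : IdxData p S A) (hF : F.IsSaturated p) (hAe : ¬ F.IsEssential p A) :
    ∀ R : Subgroup Ω, ∀ φ ∈ F.Hom R, PrN F (p * (p * (p * Nat.card (Zc S)))) φ := by
  apply prN_all hd.hS hF
  intro P hP hn
  exfalso
  have h1 := ess_card_le hd hF hAe hP
  haveI : Finite (Zc S : Subgroup Ω) := finite_of_le inf_le_left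
  have h2 : 0 < p * (p * Nat.card (Zc S)) :=
    Nat.mul_pos hp.out.pos (Nat.mul_pos hp.out.pos Nat.card_pos)
  have h3 := hp.out.two_le
  have h4 := hn.trans h1
  nlinarith

/-- An automorphism of a nonabelian essential subgroup acts on `Z(S)` as an element of `Aut_F(S)`. -/
theorem ess_nonab_act (hd : IdxData p S A) (hF : F.IsSaturated p) (hAe : ¬ F.IsEssential p A) (hR : F.IsEssential p P)
    (hna : ¬ ∀ u ∈ P, ∀ v ∈ P, u * v = v * u) {α : MulAut P} (hα : α ∈ F.autGroup P) :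
    ∃ hZ : Zc S ≤ P, ∃ γ ∈ F.autGroup S, ∀ z (hz : z ∈ Zc S), ((α ⟨z, hZ hz⟩ : P) : Ω) = ((γ ⟨z, hz.1⟩ : S) : Ω) := by
  classical
  have hS := hd.hS
  have hPS := hR.1.1
  haveI := finite_of_le hPS
  haveI := finite_autGroup F hPS
  have hZP := Z_le_P hR
  obtain ⟨x, hxP, hxA⟩ := SetLike.not_le_iff_exists.1 (ess_not_le hd hAe hR)
  have hcen := center_iff hd hR hxP hxA hna
  have hαZ : ∀ β : MulAut P, ∀ z : P, (z : Ω) ∈ Zc S → ((β z : P) : Ω) ∈ Zc S := by
    intro β z hz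
    rw [← hcen]
    exact Cfsg.Agent.Lib.Cl.EssChain.char_mem _ β ((hcen z).2 hz)
  have hrec := IsSat.receptive_of_fullyNormalized hS hF hR.2.1
  obtain ⟨U, hU⟩ := (IsSat.fullyAutomized_of_fullyNormalized hS hF hR.2.1).2
  have hUmem : ∀ a : F.autGroup P, a ∈ (U : Subgroup (F.autGroup P)) ↔ (a : MulAut P) ∈ autInducedBy S P := by
    intro a
    rw [hU, Subgroup.mem_subgroupOf]
  -- the kernel of the action on `Z`
  let K : Subgroup (F.autGroup P) :=
    { carrier := {β | ∀ z : P, (z : Ω) ∈ Zc S → (β : MulAut P) z = z}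
      one_mem' := fun z _ => rfl
      mul_mem' := by
        intro a b ha hb z hz
        show (a : MulAut P) ((b : MulAut P) z) = z
        rw [hb z hz, ha z hz]
      inv_mem' := by
        intro a ha z hz
        apply (a : MulAut P).injective
        rw [X_inv_apply, ha z hz] }
  haveI hKn : K.Normal := ⟨fun k hk g z hz => by
    show (g : MulAut P) ((k : MulAut P) (((g⁻¹ : F.autGroup P) : MulAut P) z)) = z
    rw [hk _ (hαZ _ z hz), X_inv_apply]⟩
  have hUK : (U : Subgroup (F.autGroup P)) ≤ K := by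
    intro u hu z hz
    obtain ⟨g, hg, hgv⟩ := mem_autInducedBy_iff.1 ((hUmem u).1 hu)
    apply Subtype.ext
    rw [hgv z]
    have h1 : g * (z : Ω) = z * g := Subgroup.mem_centralizer_iff.1 hz.2 g hg
    rw [h1]
    simp
  have htop := Sylow.normalizer_sup_eq_top' U hUK
  have h0 : (⟨α, hα⟩ : F.autGroup P) ∈ (Subgroup.normalizer (U : Set (F.autGroup P)) ⊔ K) := by
    rw [htop]
    trivial
  have hmem : (⟨α, hα⟩ : F.autGroup P) ∈ ((Subgroup.normalizer (U : Set (F.autGroup P)) ⊔ K : Subgroup _) : Set _) := h0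
  rw [Subgroup.mul_normal, Set.mem_mul] at hmem
  obtain ⟨ν, hν, k, hk, hνk⟩ := hmem
  have hαν : ∀ z : P, (z : Ω) ∈ Zc S → α z = (ν : MulAut P) z := by
    intro z hz
    have h1 : α = (ν : MulAut P) * (k : MulAut P) := (congrArg Subtype.val hνk).symm
    rw [h1, MulAut.mul_apply, hk z hz]
  -- the extension of `ν`
  have hn : ∀ v ∈ autInducedBy S P, (ν : MulAut P) * v * (ν : MulAut P)⁻¹ ∈ autInducedBy S P := by
    intro v hv
    have hvX := autInducedBy_le_autGroup F hPS hv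
    have h1 : (⟨v, hvX⟩ : F.autGroup P) ∈ (U : Subgroup (F.autGroup P)) := (hUmem _).2 hv
    have h2 := (Subgroup.mem_normalizer_iff.1 hν _).1 h1
    exact (hUmem _).1 h2
  set T := automizerPreimage S P (autInducedBy S P) with hT
  obtain ⟨ψ, hψ, hψv⟩ : ∃ ψ ∈ F.Hom T, ∀ x (hx : x ∈ P) (hR : x ∈ T), ψ ⟨x, hR⟩ = ((ν : MulAut P) ⟨x, hx⟩ : Ω) :=
    extend_of_normalizes hrec ν.2 le_rfl (inn_le_autInducedBy hPS) hn
  have hPT : P ≤ T := le_automizerPreimage hPS (inn_le_autInducedBy hPS)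
  have hlt : P < normalizerIn S P := lt_normalizerIn hS (lt_of_le_not_ge hPS (not_S_le hS hF hR))
  have hNT : normalizerIn S P ≤ T := fun g hg => ⟨hg.1, hg.2, conjAut_mem hg.1 hg.2⟩
  have hTS : T ≤ S := automizerPreimage_le_normalizerIn.trans inf_le_left
  haveI := finite_of_le hTS
  have hPneT : ¬ T ≤ P := fun h => (lt_irrefl _ (lt_of_lt_of_le hlt (hNT.trans h)))
  have hcard : p * Nat.card P ≤ Nat.card T := by
    have h1 := Cfsg.Agent.Lib.Cl.EssRank2.p_mul_card_le (hS.to_le hTS) (R := P.subgroupOf T) (L := ⊤) le_top (by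
      intro h
      apply hPneT
      intro y hy
      have : (⟨y, hy⟩ : T) ∈ P.subgroupOf T := by rw [h]; trivial
      exact this)
    have h2 : Nat.card (P.subgroupOf T) = Nat.card P := Nat.card_congr (Subgroup.subgroupOfEquivOfLe hPT).toEquiv
    rw [h2, Subgroup.card_top] at h1
    exact h1
  have hPcard := ess_card_nonab hd hF hR hxP hxA hna
  obtain ⟨hZ, γ, hγ, hv⟩ := prN3 hd hF hAe T ψ hψ (by rw [← hPcard]; exact hcard) (Or.inl (hZP.trans hPT))
  refine ⟨hZP, γ, hγ, fun z hz => ?_⟩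
  rw [hαν _ hz, ← hv z hz, hψv z (hZP hz) (hZ hz)]

theorem prN2 (hd : IdxData p S A) (hF : F.IsSaturated p) (hAe : ¬ F.IsEssential p A) :
    ∀ R : Subgroup Ω, ∀ φ ∈ F.Hom R, PrN F (p * (p * Nat.card (Zc S))) φ := by
  apply prN_all hd.hS hF
  intro P hP hn α hα
  refine ess_nonab_act hd hF hAe hP (fun hab => ?_) hα
  obtain ⟨x, hxP, hxA⟩ := SetLike.not_le_iff_exists.1 (ess_not_le hd hAe hP)
  rw [ess_card_ab hd hP hxP hxA hab] at hn
  haveI : Finite (Zc S : Subgroup Ω) := finite_of_le inf_le_left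
  have h2 : 0 < p * Nat.card (Zc S) := Nat.mul_pos hp.out.pos Nat.card_pos
  have h3 := hp.out.two_le
  nlinarith

end Cfsg.Agent.Lib.Cl.EssZ
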