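import Mathlib
import Cfsg.Agent.Lib.Cl.EssZ3
import Cfsg.Agent.Lib.Fusion.NormalSub

set_option autoImplicit false

namespace Cfsg.Agent.Lib.Cl.EssZ

open Cfsg Cfsg.FusionSystem Cfsg.Agent.Lib.Fusion Cfsg.Agent.Lib.Cl.EssIdx Cfsg.Agent.Lib.Cl.EssFour
open scoped commutatorElement

variable {p : ℕ} [hp : Fact p.Prime] {Ω : Type*} [Group Ω] {S A P : Subgroup Ω} [Finite S] {F : FusionSystem S}

/-- `Z(S) ∩ S'`. -/
abbrev Yc (S : Subgroup Ω) : Subgroup Ω := Zc S ⊓ (commutator ↥S).map S.subtype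

theorem data_ab (hd : IdxData p S A)
    (huniq : ∀ B : Subgroup Ω, B ≤ S → IsMulCommutative ↥B → (B.subgroupOf S).index = p → B = A)
    (hF : F.IsSaturated p) (hp2 : p ≠ 2) (hAe : ¬ F.IsEssential p A) (hP : F.IsEssential p P)
    (hab : ∀ u ∈ P, ∀ v ∈ P, u * v = v * u) :
    ∃ t ∈ F.autGroup P, ∃ γ ∈ F.autGroup S,
      (∀ β ∈ F.autGroup P, β * t = t * β) ∧
      (∀ y (hy : y ∈ Yc S), ((γ ⟨y, hy.1.1⟩ : S) : Ω) = y⁻¹) ∧
      (∀ z (hz : z ∈ Zc S), z⁻¹ * ((γ ⟨z, hz.1⟩ : S) : Ω) ∈ Yc S) ∧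
      (∀ z (hz : z ∈ Zc S), ((t ⟨z, Z_le_P hP hz⟩ : P) : Ω) = ((γ ⟨z, hz.1⟩ : S) : Ω)) ∧
      (∀ y : P, t y = y → (y : Ω) ∈ Zc S) := by
  classical
  have hS := hd.hS
  have hPS := hP.1.1
  haveI := finite_of_le hPS
  haveI := finite_autGroup F hPS
  haveI : Finite (Zc S : Subgroup Ω) := finite_of_le inf_le_left
  haveI : Finite (Yc S : Subgroup Ω) := finite_of_le (inf_le_left.trans inf_le_left)
  have hZP := Z_le_P hP
  have hPA := ess_not_le hd hAe hP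
  obtain ⟨x, hxP, hxA⟩ := SetLike.not_le_iff_exists.1 hPA
  have hxS := hPS hxP
  have hRZ : ∀ b ∈ P, b ∈ A → b ∈ Zc S := fun b hb hbA => hd.mem_Z hxS hxA hbA (hab _ hb _ hxP)
  obtain ⟨x', hxS', hxA', hZ2, hD, -, -⟩ := mst hd huniq hF hP hPA
  have hYcard : Nat.card (Yc S) = p := (Cfsg.Agent.Lib.Cl.EssIdx.formal hd hxS' hxA' hZ2 hD).1
  have hrec := IsSat.receptive_of_fullyNormalized hS hF hP.2.1
  obtain ⟨U, hU⟩ := (IsSat.fullyAutomized_of_fullyNormalized hS hF hP.2.1).2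
  have hUmem : ∀ a : F.autGroup P, a ∈ (U : Subgroup (F.autGroup P)) ↔ (a : MulAut P) ∈ autInducedBy S P := by
    intro a
    rw [hU, Subgroup.mem_subgroupOf]
  have hc : ∀ a b : P, a * b = b * a := fun a b => Subtype.ext (hab _ a.2 _ b.2)
  have hpP : IsPGroup p P := hS.to_le hPS
  obtain ⟨-, hO, -⟩ := Cfsg.Agent.Lib.Cl.EssData.data hS F hP
  have hO' : ∀ B : Subgroup (F.autGroup P), B.Normal → IsPGroup p B → B = ⊥ := by
    intro B hBn hBp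
    rw [eq_bot_iff]
    intro b hb
    obtain ⟨y, hy⟩ := hO B hBn hBp b hb
    rw [Subgroup.mem_bot]
    apply Subtype.ext
    show (b : MulAut P) = 1
    have hy' : MulAut.conj y = (b : MulAut P) := hy
    rw [← hy']
    ext z
    show ((MulAut.conj y z : P) : Ω) = z
    simp only [MulAut.conj_apply, Subgroup.coe_mul, Subgroup.coe_inv]
    rw [hab _ y.2 _ z.2]
    group
  obtain ⟨a, ha, haN, haP⟩ := exists_T hd hF hP hxP hxA
  set Zb : Subgroup P := (Zc S).subgroupOf P with hZb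
  set Yb : Subgroup P := (Yc S).subgroupOf P with hYb
  have hYP : Yc S ≤ P := inf_le_left.trans hZP
  have hZi : Zb.index = p := by
    have h1 := Subgroup.card_mul_index Zb
    have h2 : Nat.card Zb = Nat.card (Zc S) := Nat.card_congr (Subgroup.subgroupOfEquivOfLe hZP).toEquiv
    rw [h2, ess_card_ab hd hP hxP hxA hab, mul_comm] at h1
    exact Nat.eq_of_mul_eq_mul_right Nat.card_pos h1
  have hYc : Nat.card Yb = p := by
    rw [← hYcard]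
    exact Nat.card_congr (Subgroup.subgroupOfEquivOfLe hYP).toEquiv
  have hYZ : Yb ≤ Zb := fun y hy => Subgroup.mem_subgroupOf.2 (Subgroup.mem_subgroupOf.1 hy).1
  have hfix : ∀ u ∈ (U : Subgroup (F.autGroup P)), ∀ z ∈ Zb, (u : MulAut P) z = z := by
    intro u hu z hz
    obtain ⟨g, hg, hgv⟩ := mem_autInducedBy_iff.1 ((hUmem u).1 hu)
    apply Subtype.ext
    rw [hgv z]
    have hz' : (z : Ω) ∈ Zc S := Subgroup.mem_subgroupOf.1 hz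
    have h1 : g * (z : Ω) = z * g := Subgroup.mem_centralizer_iff.1 hz'.2 g hg
    rw [h1]
    simp
  have hcomm : ∀ u ∈ (U : Subgroup (F.autGroup P)), ∀ y, y⁻¹ * (u : MulAut P) y ∈ Yb := by
    intro u hu y
    obtain ⟨g, hg, hgv⟩ := mem_autInducedBy_iff.1 ((hUmem u).1 hu)
    rw [Subgroup.mem_subgroupOf]
    have hval : ((y⁻¹ * (u : MulAut P) y : P) : Ω) = (y : Ω)⁻¹ * g * (y : Ω)⁻¹⁻¹ * g⁻¹ := by
      simp only [Subgroup.coe_mul, Subgroup.coe_inv, hgv y, inv_inv, mul_assoc]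
    have h1 : ((y⁻¹ * (u : MulAut P) y : P) : Ω) ∈ Zc S := by
      apply hRZ _ (y⁻¹ * (u : MulAut P) y).2
      rw [hval]
      exact hd.comm_mem (S.inv_mem (hPS y.2)) hg
    refine ⟨h1, ?_⟩
    rw [hval]
    refine ⟨⁅(⟨(y : Ω)⁻¹, S.inv_mem (hPS y.2)⟩ : S), (⟨g, hg⟩ : S)⁆, ?_, rfl⟩
    rw [commutator_def]
    exact Subgroup.commutator_mem_commutator (Subgroup.mem_top _) (Subgroup.mem_top _)
  have haS := hd.le ha
  have hu₀X : conjAut P a haN ∈ F.autGroup P := autInducedBy_le_autGroup F hPS (conjAut_mem haS haN)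
  have hu₀ : (⟨_, hu₀X⟩ : F.autGroup P) ∈ (U : Subgroup (F.autGroup P)) := (hUmem _).2 (conjAut_mem haS haN)
  have hu₀1 : (⟨_, hu₀X⟩ : F.autGroup P) ≠ 1 := by
    intro h
    have h1 : conjAut P a haN = 1 := congrArg Subtype.val h
    have h2 := conjAut_not_mem_inn (fun g hg => centr_le hP hg.1 (fun y hy =>
      Subgroup.mem_centralizer_iff.1 hg.2 y hy)) haS haN haP hPS
    rw [h1] at h2
    exact h2 (Subgroup.one_mem _)
  obtain ⟨t, ht1, ht2, ht3, ht4⟩ := central_inversion hpP hc hp2 (F.autGroup P) U Zb Yb hZi hYc hYZ hfix hcomm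
    ⟨_, hu₀X⟩ hu₀ hu₀1 hO'
  -- the extension
  have hn : ∀ v ∈ autInducedBy S P, (t : MulAut P) * v * (t : MulAut P)⁻¹ ∈ autInducedBy S P := by
    intro v hv
    have hvX := autInducedBy_le_autGroup F hPS hv
    have h1 := ht1 ⟨v, hvX⟩
    have h2 : v * (t : MulAut P) = (t : MulAut P) * v := congrArg Subtype.val h1
    rw [← h2]
    simpa using hv
  set T := automizerPreimage S P (autInducedBy S P) with hT
  obtain ⟨ψ, hψ, hψv⟩ : ∃ ψ ∈ F.Hom T, ∀ x (hx : x ∈ P) (hR : x ∈ T), ψ ⟨x, hR⟩ = ((t : MulAut P) ⟨x, hx⟩ : Ω) :=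
    extend_of_normalizes hrec t.2 le_rfl (inn_le_autInducedBy hPS) hn
  have hPT : P ≤ T := le_automizerPreimage hPS (inn_le_autInducedBy hPS)
  have hlt : P < normalizerIn S P := lt_normalizerIn hS (lt_of_le_not_ge hPS (not_S_le hS hF hP))
  have hNT : normalizerIn S P ≤ T := fun g hg => ⟨hg.1, hg.2, conjAut_mem hg.1 hg.2⟩
  have hTS : T ≤ S := automizerPreimage_le_normalizerIn.trans inf_le_left
  haveI := finite_of_le hTS
  have hPneT : ¬ T ≤ P := fun h => (lt_irrefl _ (lt_of_lt_of_le hlt (hNT.trans h)))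
  have hcard : p * Nat.card P ≤ Nat.card T := by
    have h1 := Cfsg.Agent.Lib.Cl.EssRank2.p_mul_card_le (hS.to_le hTS) (R := P.subgroupOf T) (L := ⊤) le_top (by
      intro h
      apply hPneT
      intro y hy
      have : (⟨y, hy⟩ : T) ∈ P.subgroupOf T := by rw [h]; trivial
      exact this)
    have h2 : Nat.card (P.subgroupOf T) = Nat.card P := Nat.card_congr (Subgroup.subgroupOfEquivOfLe hPT).toEquiv
    rw [h2, Subgroup.card_top] at h1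
    exact h1
  rw [ess_card_ab hd hP hxP hxA hab] at hcard
  obtain ⟨hZ, γ, hγ, hv⟩ := prN2 hd hF hAe T ψ hψ hcard (Or.inl (hZP.trans hPT))
  have htγ : ∀ z (hz : z ∈ Zc S), (((t : MulAut P) ⟨z, hZP hz⟩ : P) : Ω) = ((γ ⟨z, hz.1⟩ : S) : Ω) := by
    intro z hz
    rw [← hv z hz, hψv z (hZP hz) (hZ hz)]
  refine ⟨t, t.2, γ, hγ, fun β hβ => ?_, fun y hy => ?_, fun z hz => ?_, htγ, fun y hy => ?_⟩
  · exact congrArg Subtype.val (ht1 ⟨β, hβ⟩)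
  · rw [← htγ y hy.1]
    have h1 := ht2 ⟨y, hYP hy⟩ (Subgroup.mem_subgroupOf.2 hy)
    exact congrArg Subtype.val h1
  · rw [← htγ z hz]
    have h1 := ht3 ⟨z, hZP hz⟩ (Subgroup.mem_subgroupOf.2 hz)
    exact Subgroup.mem_subgroupOf.1 (hYZ.trans (le_refl _) |> fun _ => h1)
  · exact Subgroup.mem_subgroupOf.1 (ht4 y hy)

theorem order_action (hS : IsPGroup p S) (hF : F.IsSaturated p) :
    ∃ m : ℕ, ¬ p ∣ m ∧ ∀ ε ∈ F.autGroup S, ∀ z (hz : z ∈ Zc S), (((ε ^ m) ⟨z, hz.1⟩ : S) : Ω) = z := by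
  classical
  haveI := finite_autGroup F (le_refl S)
  obtain ⟨U, hU⟩ := (IsSat.fullyAutomized_of_fullyNormalized hS hF (isFullyNormalized_top (F := F))).2
  have hUmem : ∀ a : F.autGroup S, a ∈ (U : Subgroup (F.autGroup S)) ↔ (a : MulAut S) ∈ autInducedBy S S := by
    intro a
    rw [hU, Subgroup.mem_subgroupOf]
  have hUn : (U : Subgroup (F.autGroup S)).Normal := by
    refine ⟨fun v hv g => (hUmem _).2 ?_⟩
    obtain ⟨k, hk, hkv⟩ := mem_autInducedBy_iff.1 ((hUmem v).1 hv)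
    have hv' : ∀ y : S, (v : MulAut S) y = ⟨k, hk⟩ * y * (⟨k, hk⟩ : S)⁻¹ := fun y => Subtype.ext (hkv y)
    refine mem_autInducedBy_iff.2 ⟨((g : MulAut S) ⟨k, hk⟩ : S), ((g : MulAut S) ⟨k, hk⟩ : S).2, fun y => ?_⟩
    show (((g : MulAut S) ((v : MulAut S) (((g⁻¹ : F.autGroup S) : MulAut S) y)) : S) : Ω) = _
    rw [hv', map_mul, map_mul, map_inv, X_inv_apply]
    simp
  refine ⟨(U : Subgroup (F.autGroup S)).index, U.not_dvd_index, fun ε hε z hz => ?_⟩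
  have h1 := Subgroup.pow_index_mem (U : Subgroup (F.autGroup S)) (⟨ε, hε⟩ : F.autGroup S)
  obtain ⟨g, hg, hgv⟩ := mem_autInducedBy_iff.1 ((hUmem _).1 h1)
  have h2 := hgv ⟨z, hz.1⟩
  have h3 : ((⟨ε, hε⟩ ^ (U : Subgroup (F.autGroup S)).index : F.autGroup S) : MulAut S) = ε ^ (U : Subgroup (F.autGroup S)).index := rfl
  rw [h3] at h2
  rw [h2]
  have h4 : g * z = z * g := Subgroup.mem_centralizer_iff.1 hz.2 g hg
  show g * z * g⁻¹ = z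
  rw [h4]
  simp

theorem uniq (hS : IsPGroup p S) (hF : F.IsSaturated p) (hYp : ∀ y ∈ Yc S, y ^ p = 1) {γ₁ γ₂ : MulAut S}
    (h1 : γ₁ ∈ F.autGroup S) (h2 : γ₂ ∈ F.autGroup S)
    (hb1 : ∀ y (hy : y ∈ Yc S), ((γ₁ ⟨y, hy.1.1⟩ : S) : Ω) = y⁻¹)
    (hb2 : ∀ y (hy : y ∈ Yc S), ((γ₂ ⟨y, hy.1.1⟩ : S) : Ω) = y⁻¹)
    (hc1 : ∀ z (hz : z ∈ Zc S), z⁻¹ * ((γ₁ ⟨z, hz.1⟩ : S) : Ω) ∈ Yc S)
    (hc2 : ∀ z (hz : z ∈ Zc S), z⁻¹ * ((γ₂ ⟨z, hz.1⟩ : S) : Ω) ∈ Yc S) :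
    ∀ z (hz : z ∈ Zc S), ((γ₁ ⟨z, hz.1⟩ : S) : Ω) = ((γ₂ ⟨z, hz.1⟩ : S) : Ω) := by
  obtain ⟨m, hm, hact⟩ := order_action hS hF
  intro z hz
  set ε : MulAut S := γ₂⁻¹ * γ₁ with hε
  have hεX : ε ∈ F.autGroup S := Subgroup.mul_mem _ (Subgroup.inv_mem _ h2) h1
  have hinv2 : ∀ y (hy : y ∈ Yc S), γ₂⁻¹ ⟨y, hy.1.1⟩ = ⟨y⁻¹, S.inv_mem hy.1.1⟩ := by
    intro y hy
    have h3 : γ₂ ⟨y⁻¹, S.inv_mem hy.1.1⟩ = ⟨y, hy.1.1⟩ := by
      apply Subtype.ext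
      rw [hb2 y⁻¹ ((Yc S).inv_mem hy), inv_inv]
    rw [← h3]
    show (γ₂⁻¹ * γ₂) _ = _
    simp
  set y₁ := z⁻¹ * ((γ₁ ⟨z, hz.1⟩ : S) : Ω) with hy₁
  set y₂ := z⁻¹ * ((γ₂ ⟨z, hz.1⟩ : S) : Ω) with hy₂
  have hy₁Y : y₁ ∈ Yc S := hc1 z hz
  have hy₂Y : y₂ ∈ Yc S := hc2 z hz
  have hγ₁z : γ₁ ⟨z, hz.1⟩ = ⟨z, hz.1⟩ * ⟨y₁, hy₁Y.1.1⟩ := by
    apply Subtype.ext
    show ((γ₁ ⟨z, hz.1⟩ : S) : Ω) = z * y₁
    rw [hy₁]
    group
  have hγ₂z : γ₂ ⟨z, hz.1⟩ = ⟨z, hz.1⟩ * ⟨y₂, hy₂Y.1.1⟩ := by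
    apply Subtype.ext
    show ((γ₂ ⟨z, hz.1⟩ : S) : Ω) = z * y₂
    rw [hy₂]
    group
  have hγ₂inv : γ₂⁻¹ ⟨z, hz.1⟩ = ⟨z, hz.1⟩ * ⟨y₂, hy₂Y.1.1⟩ := by
    have h3 : (⟨z, hz.1⟩ : S) = γ₂⁻¹ (γ₂ ⟨z, hz.1⟩) := by
      show _ = (γ₂⁻¹ * γ₂) _
      simp
    have h4 := h3
    rw [hγ₂z, map_mul, hinv2 y₂ hy₂Y] at h4
    apply Subtype.ext
    have h5 := congrArg Subtype.val h4
    simp only [Subgroup.coe_mul] at h5 ⊢
    rw [eq_mul_inv_iff_mul_eq] at h5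
    exact h5.symm
  set y₀ := y₂ * y₁⁻¹ with hy₀
  have hy₀Y : y₀ ∈ Yc S := (Yc S).mul_mem hy₂Y ((Yc S).inv_mem hy₁Y)
  have hεz : ε ⟨z, hz.1⟩ = ⟨z, hz.1⟩ * ⟨y₀, hy₀Y.1.1⟩ := by
    show γ₂⁻¹ (γ₁ ⟨z, hz.1⟩) = _
    rw [hγ₁z, map_mul, hγ₂inv, hinv2 y₁ hy₁Y]
    apply Subtype.ext
    simp only [Subgroup.coe_mul]
    rw [hy₀, mul_assoc]
  have hεy : ε ⟨y₀, hy₀Y.1.1⟩ = ⟨y₀, hy₀Y.1.1⟩ := by
    show γ₂⁻¹ (γ₁ ⟨y₀, hy₀Y.1.1⟩) = _
    have h3 : γ₁ ⟨y₀, hy₀Y.1.1⟩ = ⟨y₀⁻¹, S.inv_mem hy₀Y.1.1⟩ := Subtype.ext (hb1 y₀ hy₀Y)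
    rw [h3, hinv2 y₀⁻¹ ((Yc S).inv_mem hy₀Y)]
    apply Subtype.ext
    simp
  have hpowy : ∀ k : ℕ, (ε ^ k) ⟨y₀, hy₀Y.1.1⟩ = ⟨y₀, hy₀Y.1.1⟩ := by
    intro k
    induction k with
    | zero => rfl
    | succ k ih => rw [pow_succ, MulAut.mul_apply, hεy, ih]
  have hpowz : ∀ k : ℕ, (ε ^ k) ⟨z, hz.1⟩ = ⟨z, hz.1⟩ * ⟨y₀, hy₀Y.1.1⟩ ^ k := by
    intro k
    induction k with
    | zero => simp
    | succ k ih => rw [pow_succ, MulAut.mul_apply, hεz, map_mul, ih, hpowy, pow_succ, mul_assoc]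
  have h3 := hact ε hεX z hz
  rw [hpowz m] at h3
  have h4 : y₀ ^ m = 1 := by
    have h5 : z * y₀ ^ m = z := by simpa using h3
    exact mul_eq_left.1 h5
  have h5 : y₀ = 1 := by
    have hcop : Nat.Coprime m p := ((Nat.Prime.coprime_iff_not_dvd hp.out).2 hm).symm
    have h6 := Nat.eq_one_of_dvd_coprimes hcop (orderOf_dvd_of_pow_eq_one h4) (orderOf_dvd_of_pow_eq_one (hYp y₀ hy₀Y))
    exact orderOf_eq_one_iff.1 h6
  have h6 : y₂ = y₁ := by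
    rw [hy₀] at h5
    exact mul_inv_eq_one.1 h5
  have h7 : ((γ₁ ⟨z, hz.1⟩ : S) : Ω) = z * y₁ := by rw [hy₁]; group
  have h8 : ((γ₂ ⟨z, hz.1⟩ : S) : Ω) = z * y₂ := by rw [hy₂]; group
  rw [h7, h8, h6]

/-- A subgroup invariant under an automorphism of a finite `P`: the equality of the images. -/
theorem map_eq_of_forall [Finite P] {Q : Subgroup Ω} {α : MulAut P}
    (h : ∀ y : P, (y : Ω) ∈ Q → ((α y : P) : Ω) ∈ Q) :
    (Q.subgroupOf P).map α.toMonoidHom = Q.subgroupOf P := by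
  apply Subgroup.eq_of_le_of_card_ge
  · rintro _ ⟨y, hy, rfl⟩
    exact Subgroup.mem_subgroupOf.2 (h y (Subgroup.mem_subgroupOf.1 hy))
  · rw [Subgroup.card_map_of_injective α.injective]

theorem Zc_ne_bot (hd : IdxData p S A) : Zc S ≠ ⊥ := by
  intro h
  haveI : Nontrivial S := by
    by_contra hn
    rw [not_nontrivial_iff_subsingleton] at hn
    exact hd.not_comm (fun s hs t ht => congrArg Subtype.val
      (Subsingleton.elim ((⟨s, hs⟩ : S) * ⟨t, ht⟩) ((⟨t, ht⟩ : S) * ⟨s, hs⟩)))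
  have h1 := hd.hS.center_nontrivial
  obtain ⟨c, hc⟩ := exists_ne (1 : Subgroup.center S)
  have h2 : ((c : S) : Ω) ∈ Zc S := by
    refine Subgroup.mem_inf.2 ⟨(c : S).2, Subgroup.mem_centralizer_iff.2 fun g hg => ?_⟩
    exact congrArg Subtype.val ((Subgroup.mem_center_iff.1 c.2) ⟨g, hg⟩)
  rw [h, Subgroup.mem_bot] at h2
  apply hc
  apply Subtype.ext
  apply Subtype.ext
  exact h2

theorem exists_ab (hd : IdxData p S A) (hF : F.IsSaturated p) (hcore : F.core = ⊥) (hAe : ¬ F.IsEssential p A) :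
    ∃ P : Subgroup Ω, F.IsEssential p P ∧ ∀ u ∈ P, ∀ v ∈ P, u * v = v * u := by
  by_contra hno
  push Not at hno
  apply Zc_ne_bot hd
  have hN : F.IsNormal (Zc S) := by
    rw [isNormal_iff_aut hd.hS hF]
    intro P hP
    rcases hP with rfl | hP
    · refine ⟨inf_le_left, fun α _ => map_eq_of_forall (fun y hy => ?_)⟩
      exact gamma_Z α hy
    · have hPS := hP.1.1
      haveI := finite_of_le hPS
      refine ⟨Z_le_P hP, fun α _ => map_eq_of_forall (fun y hy => ?_)⟩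
      obtain ⟨x, hxP, hxA⟩ := SetLike.not_le_iff_exists.1 (ess_not_le hd hAe hP)
      have hna : ¬ ∀ u ∈ P, ∀ v ∈ P, u * v = v * u := fun hab => by
        obtain ⟨u, hu, v, hv, huv⟩ := hno P hP
        exact huv (hab u hu v hv)
      have hcen := center_iff hd hP hxP hxA hna
      rw [← hcen]
      exact Cfsg.Agent.Lib.Cl.EssChain.char_mem _ α ((hcen y).2 hy)
  have h1 : Zc S ≤ F.core := le_sSup hN
  rw [hcore] at h1
  exact le_bot_iff.1 h1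

theorem eq_sup_of_ab (hd : IdxData p S A) (hAe : ¬ F.IsEssential p A) (hP : F.IsEssential p P)
    (hab : ∀ u ∈ P, ∀ v ∈ P, u * v = v * u) :
    ∃ x ∈ S, x ∉ A ∧ P = Zc S ⊔ Subgroup.zpowers x := by
  have hPS := hP.1.1
  obtain ⟨x, hxP, hxA⟩ := SetLike.not_le_iff_exists.1 (ess_not_le hd hAe hP)
  have hxS := hPS hxP
  have hRZ : ∀ b ∈ P, b ∈ A → b ∈ Zc S := fun b hb hbA => hd.mem_Z hxS hxA hbA (hab _ hb _ hxP)
  refine ⟨x, hxS, hxA, le_antisymm ?_ (sup_le (Z_le_P hP) ((Subgroup.zpowers_le).2 hxP))⟩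
  intro y hy
  obtain ⟨i, b, hb, hbP, rfl⟩ := P_decomp hd hPS hxP hxA hy
  exact Subgroup.mul_mem _ (Subgroup.mem_sup_right (Subgroup.pow_mem _ (Subgroup.mem_zpowers x) i))
    (Subgroup.mem_sup_left (hRZ b hbP hb))

theorem Yc_pres (γ : MulAut S) {y : Ω} (hy : y ∈ Yc S) : ((γ ⟨y, hy.1.1⟩ : S) : Ω) ∈ Yc S := by
  refine ⟨gamma_Z γ hy.1, ?_⟩
  obtain ⟨y', hy', hyy⟩ := hy.2
  have h1 : y' = ⟨y, hy.1.1⟩ := Subtype.ext hyy
  subst h1
  haveI : (commutator ↥S).Characteristic := by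
    rw [commutator_def]
    infer_instance
  exact ⟨γ ⟨y, hy.1.1⟩, Cfsg.Agent.Lib.Cl.EssChain.char_mem _ γ hy', rfl⟩

theorem Z_le_comm (hd : IdxData p S A)
    (huniq : ∀ B : Subgroup Ω, B ≤ S → IsMulCommutative ↥B → (B.subgroupOf S).index = p → B = A)
    (hF : F.IsSaturated p) (hp2 : p ≠ 2) (hcore : F.core = ⊥) (hAe : ¬ F.IsEssential p A) :
    Zc S ≤ (commutator ↥S).map S.subtype := by
  classical
  have hS := hd.hS
  obtain ⟨P₀, hP₀, hab₀⟩ := exists_ab hd hF hcore hAe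
  obtain ⟨t₀, ht₀, γ₀, hγ₀, -, hb₀, hc₀, -, -⟩ := data_ab hd huniq hF hp2 hAe hP₀ hab₀
  haveI : Finite (Zc S : Subgroup Ω) := finite_of_le inf_le_left
  haveI : Finite (Yc S : Subgroup Ω) := finite_of_le (inf_le_left.trans inf_le_left)
  have hYp : ∀ y ∈ Yc S, y ^ p = 1 := by
    obtain ⟨x', hxS', hxA', hZ2, hD, -, -⟩ := mst hd huniq hF hP₀ (ess_not_le hd hAe hP₀)
    have hYcard : Nat.card (Yc S) = p := (Cfsg.Agent.Lib.Cl.EssIdx.formal hd hxS' hxA' hZ2 hD).1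
    intro y hy
    have h1 : (⟨y, hy⟩ : Yc S) ^ p = 1 := by
      rw [← hYcard]
      exact pow_card_eq_one'
    simpa using congrArg Subtype.val h1
  -- the candidate normal subgroup
  let Q : Subgroup Ω :=
    { carrier := {z | ∃ hz : z ∈ Zc S, ((γ₀ ⟨z, hz.1⟩ : S) : Ω) = z}
      one_mem' := ⟨Subgroup.one_mem _, by
        have : (⟨1, (Subgroup.one_mem (Zc S)).1⟩ : S) = 1 := rfl
        rw [this, map_one]
        rfl⟩
      mul_mem' := by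
        rintro a b ⟨ha, ha'⟩ ⟨hb, hb'⟩
        refine ⟨Subgroup.mul_mem _ ha hb, ?_⟩
        have : (⟨a * b, ((Zc S).mul_mem ha hb).1⟩ : S) = ⟨a, ha.1⟩ * ⟨b, hb.1⟩ := rfl
        rw [this, map_mul]
        show ((γ₀ ⟨a, ha.1⟩ : S) : Ω) * ((γ₀ ⟨b, hb.1⟩ : S) : Ω) = _
        rw [ha', hb']
      inv_mem' := by
        rintro a ⟨ha, ha'⟩
        refine ⟨Subgroup.inv_mem _ ha, ?_⟩
        have : (⟨a⁻¹, ((Zc S).inv_mem ha).1⟩ : S) = (⟨a, ha.1⟩ : S)⁻¹ := rfl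
        rw [this, map_inv]
        show ((γ₀ ⟨a, ha.1⟩ : S) : Ω)⁻¹ = _
        rw [ha'] }
  have hQZ : Q ≤ Zc S := fun z hz => hz.1
  -- invariance under `Aut_F(S)`
  have hQG : ∀ G ∈ F.autGroup S, ∀ z (hz : z ∈ Q), ((G ⟨z, hz.1.1⟩ : S) : Ω) ∈ Q := by
    intro G hG z hz
    set γ' : MulAut S := G * γ₀ * G⁻¹ with hγ'
    have hγ'X : γ' ∈ F.autGroup S := Subgroup.mul_mem _ (Subgroup.mul_mem _ hG hγ₀) (Subgroup.inv_mem _ hG)
    have hb' : ∀ y (hy : y ∈ Yc S), ((γ' ⟨y, hy.1.1⟩ : S) : Ω) = y⁻¹ := by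
      intro y hy
      show ((G (γ₀ (G⁻¹ ⟨y, hy.1.1⟩)) : S) : Ω) = y⁻¹
      have h1 := Yc_pres G⁻¹ hy
      have h2 : γ₀ (G⁻¹ ⟨y, hy.1.1⟩) = (G⁻¹ ⟨y, hy.1.1⟩)⁻¹ := Subtype.ext (hb₀ _ h1)
      rw [h2, map_inv]
      have h3 : G (G⁻¹ ⟨y, hy.1.1⟩) = ⟨y, hy.1.1⟩ := by
        show (G * G⁻¹) _ = _
        simp
      rw [h3]
      rfl
    have hc' : ∀ z (hz : z ∈ Zc S), z⁻¹ * ((γ' ⟨z, hz.1⟩ : S) : Ω) ∈ Yc S := by
      intro w hw
      show w⁻¹ * ((G (γ₀ (G⁻¹ ⟨w, hw.1⟩)) : S) : Ω) ∈ Yc S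
      have h1 := gamma_Z G⁻¹ hw
      have h2 := hc₀ _ h1
      set w' : S := G⁻¹ ⟨w, hw.1⟩ with hw'
      have h3 : G w' = ⟨w, hw.1⟩ := by
        show (G * G⁻¹) _ = _
        simp
      have h4 : γ₀ w' = w' * ⟨_, h2.1.1⟩ := by
        apply Subtype.ext
        show ((γ₀ w' : S) : Ω) = (w' : Ω) * ((w' : Ω)⁻¹ * ((γ₀ w' : S) : Ω))
        group
      rw [h4, map_mul, h3]
      have h5 := Yc_pres G h2
      have h6 : w⁻¹ * ((⟨w, hw.1⟩ * G ⟨_, h2.1.1⟩ : S) : Ω) = ((G ⟨_, h2.1.1⟩ : S) : Ω) := by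
        simp
      rw [h6]
      exact h5
    have hun := uniq hS hF hYp hγ'X hγ₀ hb' hb₀ hc' hc₀
    have hGz := gamma_Z G hz.1
    refine ⟨hGz, ?_⟩
    rw [← hun _ hGz]
    show ((G (γ₀ (G⁻¹ ⟨_, hGz.1⟩)) : S) : Ω) = _
    have h1 : (⟨((G ⟨z, hz.1.1⟩ : S) : Ω), hGz.1⟩ : S) = G ⟨z, hz.1.1⟩ := rfl
    have h2 : G⁻¹ (G ⟨z, hz.1.1⟩) = ⟨z, hz.1.1⟩ := by
      show (G⁻¹ * G) _ = _
      simp
    have h3 : γ₀ ⟨z, hz.1.1⟩ = ⟨z, hz.1.1⟩ := Subtype.ext hz.2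
    rw [h1, h2, h3]
  -- `Q` is normal in the fusion system
  have hN : F.IsNormal Q := by
    rw [isNormal_iff_aut hS hF]
    intro P hP
    rcases hP with rfl | hP
    · refine ⟨hQZ.trans inf_le_left, fun α hα => map_eq_of_forall (fun y hy => ?_)⟩
      exact hQG α hα y hy
    · have hPS := hP.1.1
      haveI := finite_of_le hPS
      have hZP := Z_le_P hP
      refine ⟨hQZ.trans hZP, fun α hα => map_eq_of_forall (fun y hy => ?_)⟩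
      by_cases hab : ∀ u ∈ P, ∀ v ∈ P, u * v = v * u
      · obtain ⟨t, ht, γ, hγ, h1, hb, hc, h2, h3⟩ := data_ab hd huniq hF hp2 hAe hP hab
        have hun := uniq hS hF hYp hγ hγ₀ hb hb₀ hc hc₀
        have hyZ := hy.1
        have hy1 : t y = y := by
          apply Subtype.ext
          have h4 := h2 y hyZ
          have h5 := hun y hyZ
          rw [h5, hy.2] at h4
          exact h4
        have hcomm := h1 α hα
        have h4 : t (α y) = α y := by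
          have h5 : (α * t) y = (t * α) y := by rw [hcomm]
          rw [MulAut.mul_apply, MulAut.mul_apply, hy1] at h5
          exact h5.symm
        have h5 := h3 _ h4
        refine ⟨h5, ?_⟩
        rw [← hun _ h5, ← h2 _ h5]
        exact congrArg Subtype.val h4
      · obtain ⟨hZ, G, hG, hv⟩ := ess_nonab_act hd hF hAe hP hab hα
        have h1 := hv y hy.1
        have h2 : (⟨(y : Ω), hZ hy.1⟩ : P) = y := rfl
        rw [h2] at h1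
        rw [h1]
        exact hQG G hG y hy
  have hQb : Q = ⊥ := by
    have h1 : Q ≤ F.core := le_sSup hN
    rw [hcore] at h1
    exact le_bot_iff.1 h1
  -- conclusion
  intro z hz
  set y := z⁻¹ * ((γ₀ ⟨z, hz.1⟩ : S) : Ω) with hy
  have hyY : y ∈ Yc S := hc₀ z hz
  obtain ⟨k, hk⟩ : ∃ k : ℕ, 2 * k = p + 1 := by
    have hodd : Odd p := hp.out.odd_of_ne_two hp2
    obtain ⟨r, hr⟩ := hodd
    exact ⟨r + 1, by omega⟩
  set y' := y ^ k with hy'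
  have hy'Y : y' ∈ Yc S := (Yc S).pow_mem hyY k
  have hy'2 : y' * y' = y := by
    rw [hy', ← pow_add, ← two_mul, hk, pow_succ, hYp y hyY, one_mul]
  have hwQ : z * y' ∈ Q := by
    have hwZ : z * y' ∈ Zc S := (Zc S).mul_mem hz hy'Y.1
    refine ⟨hwZ, ?_⟩
    have h1 : (⟨z * y', hwZ.1⟩ : S) = ⟨z, hz.1⟩ * ⟨y', hy'Y.1.1⟩ := rfl
    rw [h1, map_mul]
    show ((γ₀ ⟨z, hz.1⟩ : S) : Ω) * ((γ₀ ⟨y', hy'Y.1.1⟩ : S) : Ω) = _
    rw [hb₀ y' hy'Y]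
    have h2 : ((γ₀ ⟨z, hz.1⟩ : S) : Ω) = z * y := by rw [hy]; group
    rw [h2, ← hy'2]
    group
  rw [hQb, Subgroup.mem_bot] at hwQ
  have h3 : z = y'⁻¹ := eq_inv_of_mul_eq_one_left hwQ
  rw [h3]
  exact Subgroup.inv_mem _ hy'Y.2

omit [Finite S] in
theorem lcs_le (k : ℕ) : Subgroup.lowerCentralSeries S k ≤ S := by
  induction k with
  | zero => exact le_rfl
  | succ k ih =>
    rw [Subgroup.lowerCentralSeries_succ, Subgroup.commutator_le]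
    intro g hg h hh
    rw [commutatorElement_def]
    exact S.mul_mem (S.mul_mem (S.mul_mem (ih hg) hh) (S.inv_mem (ih hg))) (S.inv_mem hh)

omit [Finite S] in
theorem lcs_step (k : ℕ) (h : Subgroup.lowerCentralSeries S (k + 1) = ⊥) :
    Subgroup.lowerCentralSeries S k ≤ Zc S := by
  intro w hw
  refine Subgroup.mem_inf.2 ⟨lcs_le k hw, Subgroup.mem_centralizer_iff.2 fun s hs => ?_⟩
  have h1 : ⁅w, s⁆ ∈ Subgroup.lowerCentralSeries S (k + 1) := by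
    rw [Subgroup.lowerCentralSeries_succ]
    exact Subgroup.commutator_mem_commutator hw hs
  rw [h, Subgroup.mem_bot, commutatorElement_eq_one_iff_mul_comm] at h1
  exact h1.symm

theorem main_5244 (hd : IdxData p S A)
    (huniq : ∀ B : Subgroup Ω, B ≤ S → IsMulCommutative ↥B → (B.subgroupOf S).index = p → B = A)
    (hF : F.IsSaturated p) (hp2 : p ≠ 2) (hcore : F.core = ⊥) (hAe : ¬ F.IsEssential p A) :
    (∃ x ∈ S, x ∉ A ∧ F.IsEssential p ((S ⊓ Subgroup.centralizer (S : Set Ω)) ⊔ Subgroup.zpowers x)) ∧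
    (S ⊓ Subgroup.centralizer (S : Set Ω)) ≤ (commutator ↥S).map S.subtype ∧
    ∀ n : ℕ, Nat.card S = p ^ n → 3 ≤ n → Subgroup.lowerCentralSeries S (n - 2) ≠ ⊥ := by
  obtain ⟨P₀, hP₀, hab₀⟩ := exists_ab hd hF hcore hAe
  obtain ⟨x, hxS, hxA, hP⟩ := eq_sup_of_ab hd hAe hP₀ hab₀
  have hZ := Z_le_comm hd huniq hF hp2 hcore hAe
  refine ⟨⟨x, hxS, hxA, hP ▸ hP₀⟩, hZ, ?_⟩
  intro n hn h3 hb
  obtain ⟨x', hxS', hxA', hZ2, hD, -, -⟩ := mst hd huniq hF hP₀ (ess_not_le hd hAe hP₀)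
  obtain ⟨hY, -, -, hm⟩ := Cfsg.Agent.Lib.Cl.EssIdx.formal hd hxS' hxA' hZ2 hD
  have hZinf : Zc S ⊓ (commutator ↥S).map S.subtype = Zc S := inf_eq_left.2 hZ
  have hZp : Nat.card (Zc S) = p := by
    rw [← hY]
    show _ = Nat.card ↥(Zc S ⊓ (commutator ↥S).map S.subtype)
    rw [hZinf]
  have hidx : ((Zc S).subgroupOf S).index = p ^ (n - 1) := by
    have h1 := Subgroup.card_mul_index ((Zc S).subgroupOf S)
    have h2 : Nat.card ((Zc S).subgroupOf S) = Nat.card (Zc S) :=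
      Nat.card_congr (Subgroup.subgroupOfEquivOfLe inf_le_left).toEquiv
    rw [h2, hZp, hn] at h1
    have h4 : p ^ n = p * p ^ (n - 1) := by
      rw [← pow_succ']
      congr 1
      omega
    rw [h4] at h1
    exact Nat.eq_of_mul_eq_mul_left hp.out.pos h1
  obtain ⟨k, rfl⟩ : ∃ k, n = k + 3 := ⟨n - 3, by omega⟩
  have h5 : k + 3 - 2 = k + 1 := by omega
  rw [h5] at hb
  have h6 := lcs_step k hb
  rcases Nat.eq_zero_or_pos k with rfl | hk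
  · apply hd.not_comm
    intro s hs t ht
    have h7 : t ∈ Zc S := h6 ht
    exact (Subgroup.mem_centralizer_iff.1 h7.2 s hs)
  · have h7 := hm (k + 3 - 1) hidx (by omega)
    apply h7
    have h8 : k + 3 - 1 - 2 = k := by omega
    rw [h8]
    exact h6

end Cfsg.Agent.Lib.Cl.EssZ
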