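import Mathlib

/-!
Field automorphisms of a finite field of characteristic 2 as a basis of the additive
endomorphisms (Artin/Dedekind independence plus a dimension count).
-/

namespace Cfsg.Agent.Lib.Cl

variable {F : Type*} [Field F]

theorem aut_linearIndependent :
    LinearIndependent F (fun σ : F ≃+* F => ((σ : F →+* F) : F → F)) := by
  have h := linearIndependent_monoidHom F F
  have hinj : Function.Injective (fun σ : F ≃+* F => (((σ : F →+* F) : F →* F))) := by
    intro σ τ hst
    ext x
    exact DFunLike.congr_fun hst x
  exact h.comp _ hinj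

variable [Fintype F] [CharP F 2]

/-- The automorphism as an `F₂`-linear map. -/
noncomputable def autLin (σ : F ≃+* F) : letI := ZMod.algebra F 2; F →ₗ[ZMod 2] F :=
  letI := ZMod.algebra F 2
  AddMonoidHom.toZModLinearMap 2 ((σ : F →+* F) : F →+ F)

theorem exists_aut_coord [Fintype (F ≃+* F)] :
    ∃ c : (F ≃+* F) → (F →+ F) →+ F, ∀ (f : F →+ F) (x : F), f x = ∑ σ, c σ f * σ x := by
  classical
  letI := ZMod.algebra F 2
  haveI : Module.Finite (ZMod 2) F := Module.Finite.of_finite
  have hli : LinearIndependent F (autLin (F := F)) := by
    have h0 := aut_linearIndependent (F := F)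
    let φ : (F →ₗ[ZMod 2] F) →ₗ[F] (F → F) :=
      { toFun := fun g => g
        map_add' := fun _ _ => rfl
        map_smul' := fun _ _ => rfl }
    exact LinearIndependent.of_comp φ h0
  have hcard : Fintype.card (F ≃+* F) = Module.finrank F (F →ₗ[ZMod 2] F) := by
    have h1 : Module.finrank F (F →ₗ[ZMod 2] F) = Module.finrank (ZMod 2) F := by
      rw [Module.finrank_linearMap_self]
    rw [h1]
    apply le_antisymm
    · have := hli.fintype_card_le_finrank
      rwa [h1] at this
    · have h2 : Nat.card (F ≃ₐ[ZMod 2] F) = Module.finrank (ZMod 2) F :=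
        IsGalois.card_aut_eq_finrank _ _
      rw [← h2, ← Nat.card_eq_fintype_card]
      exact Nat.card_le_card_of_injective (fun τ : F ≃ₐ[ZMod 2] F => τ.toRingEquiv)
        (by
          intro a b h
          ext x
          exact congrArg (fun e : F ≃+* F => e x) h)
  let b := basisOfLinearIndependentOfCardEqFinrank' (K := F) _ hli hcard
  have hb : ∀ σ, b σ = autLin σ := fun σ => by
    simp [b]
  refine ⟨fun σ => ?_, ?_⟩
  · exact
      { toFun := fun f => b.repr (AddMonoidHom.toZModLinearMap 2 f) σ
        map_zero' := by
          have : AddMonoidHom.toZModLinearMap 2 (0 : F →+ F) = 0 := rfl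
          simp [this]
        map_add' := fun f g => by
          have : AddMonoidHom.toZModLinearMap 2 (f + g) =
              AddMonoidHom.toZModLinearMap 2 f + AddMonoidHom.toZModLinearMap 2 g := rfl
          simp [this] }
  · intro f x
    have h := b.sum_repr (AddMonoidHom.toZModLinearMap 2 f)
    have h2 := congrArg (fun g : F →ₗ[ZMod 2] F => g x) h
    simp only [LinearMap.sum_apply, LinearMap.smul_apply, hb] at h2
    simpa [autLin] using h2.symm

end Cfsg.Agent.Lib.Cl
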