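import Mathlib
import Cfsg.Agent.Lib.Cl.KPi

/-! Counting conjugacy classes of `π`-elements: normal subgroups. -/

set_option autoImplicit false

namespace Cfsg.Agent.Lib.Cl

open Subgroup

universe u

/-- `g` is a `π`-element. -/
def IsPi {G : Type*} [Group G] (π : Set ℕ) (g : G) : Prop := ∀ q : ℕ, q.Prime → q ∣ orderOf g → q ∈ π

/-- `g` is a `π'`-element. -/
def IsPi' {G : Type*} [Group G] (π : Set ℕ) (g : G) : Prop := ∀ q : ℕ, q.Prime → q ∣ orderOf g → q ∉ π

theorem piClass_mk_iff {G : Type*} [Group G] (π : Set ℕ) (x : G) :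
    PiClass π (ConjClasses.mk x) ↔ IsPi π x := by
  constructor
  · intro h q hq hd
    exact h q hq ⟨x, rfl, hd⟩
  · rintro h q hq ⟨g, hg, hd⟩
    rw [ConjClasses.mk_eq_mk_iff_isConj] at hg
    rw [orderOf_of_isConj hg] at hd
    exact h q hq hd

theorem card_cent_mul_carrier {G : Type*} [Group G] [Finite G] (g : G) :
    Nat.card (centralizer ({g} : Set G)) * (ConjClasses.mk g).carrier.ncard = Nat.card G := by
  rw [Subgroup.nat_card_centralizer_nat_card_stabilizer, ← ConjAct.orbit_eq_carrier_conjClasses,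
    ← MulAction.index_stabilizer, Subgroup.card_mul_index]
  rfl

/-- The class formula: the sum of centralizer orders over the `π`-elements. -/
theorem sum_centralizer_eq {X : Type*} [Group X] [Finite X] (π : Set ℕ) [Fintype X]
    [DecidablePred (IsPi (G := X) π)] :
    ∑ x ∈ Finset.univ.filter (IsPi (G := X) π), Nat.card (centralizer ({x} : Set X)) =
      Nat.card X * Nat.card {C : ConjClasses X // PiClass π C} := by
  classical
  haveI := Fintype.ofFinite (ConjClasses X)
  have hmaps : ∀ x ∈ Finset.univ.filter (IsPi (G := X) π),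
      ConjClasses.mk x ∈ Finset.univ.filter (PiClass (G := X) π) := by
    intro x hx
    exact Finset.mem_filter.mpr ⟨Finset.mem_univ _, (piClass_mk_iff π x).mpr (Finset.mem_filter.mp hx).2⟩
  rw [← Finset.sum_fiberwise_of_maps_to hmaps]
  have hinner : ∀ C ∈ Finset.univ.filter (PiClass (G := X) π),
      ∑ x ∈ (Finset.univ.filter (IsPi (G := X) π)).filter (fun x => ConjClasses.mk x = C),
        Nat.card (centralizer ({x} : Set X)) = Nat.card X := by
    intro C hC
    obtain ⟨g, rfl⟩ := ConjClasses.exists_rep C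
    have hset : (Finset.univ.filter (IsPi (G := X) π)).filter (fun x => ConjClasses.mk x = ConjClasses.mk g) =
        Finset.univ.filter (fun x => x ∈ (ConjClasses.mk g).carrier) := by
      ext x
      simp only [Finset.mem_filter, Finset.mem_univ, true_and, ConjClasses.mem_carrier_iff_mk_eq]
      constructor
      · exact fun h => h.2
      · intro h
        refine ⟨?_, h⟩
        rw [← piClass_mk_iff, h]
        exact (Finset.mem_filter.mp hC).2
    rw [hset]
    have hconst : ∀ x ∈ Finset.univ.filter (fun x => x ∈ (ConjClasses.mk g).carrier),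
        Nat.card (centralizer ({x} : Set X)) = Nat.card (centralizer ({g} : Set X)) := by
      intro x hx
      have hx' := (Finset.mem_filter.mp hx).2
      rw [ConjClasses.mem_carrier_iff_mk_eq] at hx'
      have h1 := card_cent_mul_carrier x
      have h2 := card_cent_mul_carrier g
      rw [hx'] at h1
      have hpos : 0 < (ConjClasses.mk g).carrier.ncard := by
        rw [Nat.pos_iff_ne_zero]
        intro h0
        rw [h0, mul_zero] at h2
        exact Nat.card_pos.ne' h2.symm
      exact Nat.eq_of_mul_eq_mul_right hpos (h1.trans h2.symm)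
    rw [Finset.sum_congr rfl hconst, Finset.sum_const, smul_eq_mul]
    have hcard : (Finset.univ.filter (fun x => x ∈ (ConjClasses.mk g).carrier)).card =
        (ConjClasses.mk g).carrier.ncard := by
      rw [Set.ncard_eq_toFinset_card']
      congr 1
      ext x
      simp
    rw [hcard, mul_comm]
    exact card_cent_mul_carrier g
  rw [Finset.sum_congr rfl hinner, Finset.sum_const, smul_eq_mul, mul_comm]
  congr 1
  rw [Nat.card_eq_fintype_card, Fintype.card_subtype]

section
variable {G : Type*} [Group G] [Finite G]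

theorem exists_decomp_pi (g : G) (π : Set ℕ) :
    ∃ y ∈ zpowers g, ∃ z ∈ zpowers g, g = y * z ∧ IsPi π y ∧ IsPi' π z := by
  classical
  set o := orderOf g with ho
  have ho0 : o ≠ 0 := (orderOf_pos g).ne'
  set S := o.primeFactors.filter (· ∈ π) with hS
  set S' := o.primeFactors.filter (· ∉ π) with hS'
  set m := ∏ q ∈ S, q ^ o.factorization q with hm
  set b := ∏ q ∈ S', q ^ o.factorization q with hb
  have hmb : m * b = o := by
    rw [hm, hb, hS, hS', Finset.prod_filter_mul_prod_filter_not]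
    conv_rhs => rw [← Nat.factorization_prod_pow_eq_self ho0]
    rw [Finsupp.prod, Nat.support_factorization]
  have hprimem : ∀ r : ℕ, r.Prime → r ∣ m → r ∈ π := by
    intro r hr hd
    obtain ⟨q, hq, hrq⟩ := (Prime.dvd_finset_prod_iff hr.prime _).mp hd
    have hq' := Nat.prime_of_mem_primeFactors (Finset.mem_filter.mp hq).1
    have h1 : r = q := (Nat.prime_dvd_prime_iff_eq hr hq').mp (hr.dvd_of_dvd_pow hrq)
    rw [h1]
    exact (Finset.mem_filter.mp hq).2
  have hprimeb : ∀ r : ℕ, r.Prime → r ∣ b → r ∉ π := by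
    intro r hr hd
    obtain ⟨q, hq, hrq⟩ := (Prime.dvd_finset_prod_iff hr.prime _).mp hd
    have hq' := Nat.prime_of_mem_primeFactors (Finset.mem_filter.mp hq).1
    have h1 : r = q := (Nat.prime_dvd_prime_iff_eq hr hq').mp (hr.dvd_of_dvd_pow hrq)
    rw [h1]
    exact (Finset.mem_filter.mp hq).2
  have hcop : Nat.Coprime m b := by
    apply Nat.coprime_of_dvd
    intro r hr h1 h2
    exact hprimeb r hr h2 (hprimem r hr h1)
  obtain ⟨s, t, hst⟩ := Nat.isCoprime_iff_coprime.mpr hcop
  have hox : g ^ (m * b) = 1 := by rw [hmb, ho]; exact pow_orderOf_eq_one g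
  refine ⟨g ^ (t * (b : ℤ)), zpow_mem (mem_zpowers g) _, g ^ (s * (m : ℤ)),
    zpow_mem (mem_zpowers g) _, ?_, ?_, ?_⟩
  · rw [← zpow_add, add_comm, hst, zpow_one]
  · intro q hq hd
    apply hprimem q hq
    refine hd.trans (orderOf_dvd_of_pow_eq_one ?_)
    rw [← zpow_natCast, ← zpow_mul]
    have : t * (b : ℤ) * (m : ℤ) = ((m * b : ℕ) : ℤ) * t := by
      push_cast; ring
    rw [this, zpow_mul, zpow_natCast, hox, one_zpow]
  · intro q hq hd
    apply hprimeb q hq
    refine hd.trans (orderOf_dvd_of_pow_eq_one ?_)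
    rw [← zpow_natCast, ← zpow_mul]
    have : s * (m : ℤ) * (b : ℤ) = ((m * b : ℕ) : ℤ) * s := by
      push_cast; ring
    rw [this, zpow_mul, zpow_natCast, hox, one_zpow]

theorem coprime_of_isPi {π : Set ℕ} {x v : G} (hx : IsPi π x) (hv : IsPi' π v) :
    (orderOf x).Coprime (orderOf v) := by
  apply Nat.coprime_of_dvd
  intro r hr h1 h2
  exact hv r hr h2 (hx r hr h1)

theorem mem_zpowers_mul_left {x v : G} (hc : Commute x v) (hcop : (orderOf x).Coprime (orderOf v)) :
    x ∈ zpowers (x * v) := by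
  obtain ⟨s, t, hst⟩ := Nat.isCoprime_iff_coprime.mpr hcop
  have hxm : x ^ (orderOf x : ℤ) = 1 := by rw [zpow_natCast]; exact pow_orderOf_eq_one x
  have hvl : v ^ (orderOf v : ℤ) = 1 := by rw [zpow_natCast]; exact pow_orderOf_eq_one v
  refine mem_zpowers_iff.mpr ⟨t * (orderOf v : ℤ), ?_⟩
  rw [hc.mul_zpow, mul_comm t, zpow_mul v, hvl, one_zpow, mul_one]
  have h1 : t * (orderOf v : ℤ) = 1 - s * (orderOf x : ℤ) := by linarith
  rw [mul_comm (orderOf v : ℤ) t, h1, zpow_sub, zpow_one, mul_comm s, zpow_mul, hxm, one_zpow, inv_one, mul_one]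

theorem pi_unique {π : Set ℕ} {x v x' v' : G} (hx : IsPi π x) (hv : IsPi' π v) (hc : Commute x v)
    (hx' : IsPi π x') (hv' : IsPi' π v') (hc' : Commute x' v') (h : x * v = x' * v') :
    x = x' ∧ v = v' := by
  have h1 : x ∈ zpowers (x * v) := mem_zpowers_mul_left hc (coprime_of_isPi hx hv)
  have h2 : v ∈ zpowers (x * v) := by
    rw [hc.eq]
    exact mem_zpowers_mul_left hc.symm (coprime_of_isPi hx hv).symm
  have h3 : x' ∈ zpowers (x * v) := by
    rw [h]
    exact mem_zpowers_mul_left hc' (coprime_of_isPi hx' hv')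
  have h4 : v' ∈ zpowers (x * v) := by
    rw [h, hc'.eq]
    exact mem_zpowers_mul_left hc'.symm (coprime_of_isPi hx' hv').symm
  have hcomm : ∀ a ∈ zpowers (x * v), ∀ b ∈ zpowers (x * v), Commute a b := by
    intro a ha b hb
    obtain ⟨i, rfl⟩ := mem_zpowers_iff.mp ha
    obtain ⟨j, rfl⟩ := mem_zpowers_iff.mp hb
    exact (Commute.refl _).zpow_zpow i j
  set w : G := x'⁻¹ * x with hw
  have hw2 : w = v' * v⁻¹ := by
    rw [hw]
    have h5 : x = x' * v' * v⁻¹ := by rw [← h]; group
    rw [h5]; group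
  have hw1 : w = 1 := by
    have hd1 : orderOf w ∣ orderOf x' * orderOf x := by
      apply orderOf_dvd_of_pow_eq_one
      have hc1 : Commute x'⁻¹ x := (hcomm _ h3 _ h1).inv_left
      rw [hw, hc1.mul_pow, inv_pow, pow_mul, pow_orderOf_eq_one, one_pow, inv_one, one_mul,
        mul_comm, pow_mul, pow_orderOf_eq_one, one_pow]
    have hd2 : orderOf w ∣ orderOf v' * orderOf v := by
      apply orderOf_dvd_of_pow_eq_one
      have hc1 : Commute v' v⁻¹ := (hcomm _ h4 _ h2).inv_right
      rw [hw2, hc1.mul_pow, inv_pow, pow_mul, pow_orderOf_eq_one, one_pow, one_mul,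
        mul_comm, pow_mul, pow_orderOf_eq_one, one_pow, inv_one]
    by_contra hne
    have hne' : orderOf w ≠ 1 := by rwa [Ne, orderOf_eq_one_iff]
    obtain ⟨r, hr, hrd⟩ := Nat.exists_prime_and_dvd hne'
    have hr1 : r ∈ π := by
      rcases (Nat.Prime.dvd_mul hr).mp (hrd.trans hd1) with h5 | h5
      · exact hx' r hr h5
      · exact hx r hr h5
    rcases (Nat.Prime.dvd_mul hr).mp (hrd.trans hd2) with h5 | h5
    · exact hv' r hr h5 hr1
    · exact hv r hr h5 hr1
  constructor
  · rw [hw, inv_mul_eq_one] at hw1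
    exact hw1.symm
  · rw [hw2, mul_inv_eq_one] at hw1
    exact hw1.symm

/-- The centralizer inequality. -/
theorem card_centralizer_le (N : Subgroup G) [N.Normal] (x : G) :
    Nat.card (centralizer ({x} : Set G)) ≤
      Nat.card ↥(N ⊓ centralizer ({x} : Set G)) *
        Nat.card (centralizer ({((x : G) : G ⧸ N)} : Set (G ⧸ N))) := by
  set K := centralizer ({x} : Set G) with hK
  let ψ : K →* G ⧸ N := (QuotientGroup.mk' N).comp K.subtype
  have hker : ψ.ker = N.subgroupOf K := by
    ext y
    rw [MonoidHom.mem_ker, Subgroup.mem_subgroupOf]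
    show ((y : G) : G ⧸ N) = 1 ↔ _
    exact QuotientGroup.eq_one_iff _
  have h1 := Subgroup.card_mul_index ψ.ker
  rw [Subgroup.index_ker, hker] at h1
  have h2 : Nat.card (N.subgroupOf K) = Nat.card ↥(N ⊓ K) := by
    rw [inf_comm, ← Subgroup.inf_subgroupOf_left]
    exact Nat.card_congr (Subgroup.subgroupOfEquivOfLe inf_le_left).toEquiv
  rw [h2] at h1
  rw [← h1]
  apply Nat.mul_le_mul_left
  apply Subgroup.card_le_of_le
  rintro _ ⟨y, rfl⟩
  rw [Subgroup.mem_centralizer_singleton_iff]
  have hy : (y : G) * x = x * y := Subgroup.mem_centralizer_singleton_iff.mp y.2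
  show ((y : G) : G ⧸ N) * (x : G ⧸ N) = (x : G ⧸ N) * ((y : G) : G ⧸ N)
  rw [← QuotientGroup.mk_mul, hy, QuotientGroup.mk_mul]

end

end Cfsg.Agent.Lib.Cl
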