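import Cfsg.Agent.Lib.Cl.SD16
import Cfsg.Agent.Lib.KnownSimple.MathieuOut
import Cfsg.Agent.Lib.Golay.Dodecad2
import Mathlib

/-! # The `2`-fusion system of `M11` -/

set_option autoImplicit false
set_option linter.unusedSectionVars false
set_option linter.unusedVariables false

namespace Cfsg.Agent.Lib.Cl.M11Fusion

open Cfsg Cfsg.Spor Cfsg.Agent.Lib.Compute Cfsg.Agent.Lib.Golay Cfsg.Agent.Lib.KnownSimple.CodeCalc
open Cfsg.Agent.Lib.KnownSimple.MathieuData Cfsg.Agent.Lib.KnownSimple.MathieuFacts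
open Cfsg.Agent.Lib.KnownSimple.MathieuGen Cfsg.Agent.Lib.KnownSimple.MathieuOut

abbrev pT : ℕ := 222803950135927914560252560635343424
abbrev pV : ℕ := 944399194160754855699880035276293184
abbrev pG1 : ℕ := 638313182673398223923852311311954112
abbrev pG2 : ℕ := 962670624353630852867838683956646304

noncomputable abbrev T : P24 := ppm pT
noncomputable abbrev V : P24 := ppm pV
noncomputable abbrev G1 : P24 := ppm pG1
noncomputable abbrev G2 : P24 := ppm pG2

theorem chk_T : checkPerm 24 (pc pT) = true := by decide +kernel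
theorem chk_V : checkPerm 24 (pc pV) = true := by decide +kernel
theorem chk_G1 : checkPerm 24 (pc pG1) = true := by decide +kernel
theorem chk_G2 : checkPerm 24 (pc pG2) = true := by decide +kernel

theorem code_T : enc.IsCode T (pc pT) := isCode_ppm chk_T
theorem code_V : enc.IsCode V (pc pV) := isCode_ppm chk_V
theorem code_G1 : enc.IsCode G1 (pc pG1) := isCode_ppm chk_G1
theorem code_G2 : enc.IsCode G2 (pc pG2) := isCode_ppm chk_G2

theorem mem_T : T ∈ M11 := mem_M11_of (mem_M24_of_check code_T (by decide +kernel)) code_T (by decide +kernel) (by decide +kernel)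
theorem mem_V : V ∈ M11 := mem_M11_of (mem_M24_of_check code_V (by decide +kernel)) code_V (by decide +kernel) (by decide +kernel)
theorem mem_G1 : G1 ∈ M11 := mem_M11_of (mem_M24_of_check code_G1 (by decide +kernel)) code_G1 (by decide +kernel) (by decide +kernel)
theorem mem_G2 : G2 ∈ M11 := mem_M11_of (mem_M24_of_check code_G2 (by decide +kernel)) code_G2 (by decide +kernel) (by decide +kernel)

theorem T_pow : T ^ 8 = 1 := eq_of_agree' (isCode_pow code_T 8) isCode_one (by decide +kernel)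
theorem V_sq : V * V = 1 := eq_of_agree' (isCode_mul code_V code_V) isCode_one (by decide +kernel)
theorem rel_VT : V * T = T ^ 3 * V :=
  eq_of_agree' (isCode_mul code_V code_T) (isCode_mul (isCode_pow code_T 3) code_V) (by decide +kernel)
theorem rel_G1 : G1 * T ^ 4 = V * G1 :=
  eq_of_agree' (isCode_mul code_G1 (isCode_pow code_T 4)) (isCode_mul code_V code_G1) (by decide +kernel)
theorem rel_G2 : G2 * T ^ 2 = V * T * G2 :=
  eq_of_agree' (isCode_mul code_G2 (isCode_pow code_T 2)) (isCode_mul (isCode_mul code_V code_T) code_G2) (by decide +kernel)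

theorem T_pow_ne : T ^ 4 ≠ 1 := by
  intro h
  have h1 : iterC (pc pT) 4 1 = idx ((1 : P24) (pt 1)) := by
    rw [← h]
    exact code_apply (isCode_pow code_T 4) (by norm_num)
  have h2 : iterC (pc pT) 4 1 ≠ 1 := by decide +kernel
  have h3 : idx ((1 : P24) (pt 1)) = 1 := by decide
  exact h2 (h1.trans h3)

theorem card_M11 : Nat.card M11 = 7920 := by
  have hd : squareDodecad ∈ dodecads := by
    rw [squareDodecad_eq]
    exact D0_mem
  have hp : (some 0 : GolayPt) ∈ squareDodecad := by decide +kernel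
  rw [← card_stabilizer_flag hd hp]
  refine Nat.card_congr ⟨fun y => ⟨⟨y.1, y.2.1.1⟩, y.2.1.2, y.2.2⟩, fun x => ⟨x.1.1, ⟨x.1.2, x.2.1⟩, x.2.2⟩, fun x => rfl, fun y => rfl⟩

/-- `S5166`. -/
theorem m11_isSimple (S : Sylow 2 M11) : (groupFusionSystem (S : Subgroup M11)).IsSimple 2 := by
  set t : M11 := ⟨T, mem_T⟩ with ht
  set v : M11 := ⟨V, mem_V⟩ with hv
  set g₁ : M11 := ⟨G1, mem_G1⟩ with hg₁
  set g₂ : M11 := ⟨G2, mem_G2⟩ with hg₂
  refine Cfsg.Agent.Lib.Cl.SD16.isSimple_of_sd16_data t v ?_ ?_ ?_ ?_ ?_ ⟨g₁, ?_⟩ ⟨g₂, ?_⟩ S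
  · exact Subtype.ext T_pow
  · intro h
    exact T_pow_ne (congrArg Subtype.val h)
  · exact Subtype.ext V_sq
  · apply Subtype.ext
    show V * T * V⁻¹ = T ^ 3
    rw [rel_VT]
    group
  · rw [card_M11]
    norm_num
  · apply Subtype.ext
    show G1 * T ^ 4 * G1⁻¹ = V
    rw [rel_G1]
    group
  · apply Subtype.ext
    show G2 * T ^ 2 * G2⁻¹ = V * T
    rw [rel_G2]
    group

end Cfsg.Agent.Lib.Cl.M11Fusion
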