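import Cfsg.Agent.Lib.Cl.M12FusData
import Cfsg.Agent.Lib.KnownSimple.MathieuOut
import Cfsg.Agent.Lib.Golay.Dodecad2
import Mathlib

/-! # The `2`-fusion system of `M12` is simple -/

set_option autoImplicit false
set_option linter.unusedSectionVars false
set_option linter.unusedVariables false

namespace Cfsg.Agent.Lib.Cl.MatFus

open Cfsg Cfsg.Spor Cfsg.Agent.Lib.Compute Cfsg.Agent.Lib.Golay Cfsg.Agent.Lib.M24
open Cfsg.Agent.Lib.KnownSimple.CodeCalc Cfsg.Agent.Lib.KnownSimple.MathieuFacts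
open Cfsg.Agent.Lib.KnownSimple.MathieuGen Cfsg.Agent.Lib.KnownSimple.MathieuOut

/-- Membership in `M12`. -/
noncomputable def memM12 (b : ℕ) : Bool := vld b && Nat.beq (imgMask (pc b) Dm 24) Dm

theorem memM12_spec (b : ℕ) (h : memM12 b = true) : vld b = true ∧ ppm b ∈ M12 := by
  rw [memM12, Bool.and_eq_true] at h
  exact ⟨h.1, mem_M12_of (vld_mem h.1) (vld_code h.1) (Nat.eq_of_beq_eq_true h.2)⟩

theorem gens12 : allBelow (fun j => memM12 (T12.L (T12.gi j))) T12.n = true := by decide +kernel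

theorem hAM12 : T12.A ≤ M12 := by
  rw [Tab.A, Subgroup.closure_le]
  rintro _ ⟨j, hj, rfl⟩
  exact (memM12_spec _ ((allBelow_iff _ _).1 gens12 j hj)).2

theorem z12 : zOK T12 memM12 Zc12 = true := by decide +kernel

/-- The invariant of the points. -/
noncomputable def inv12 (y : ℕ) : ℕ := bcond (tb Dm y) 1 0

theorem chain12 : chainOK T12 inv12 steps12 [] = true := by decide +kernel

theorem hinv12 (g : P24) (hg : g ∈ M12) (a : ℕ) (ha : a < 24) : inv12 (idx (g (pt a))) = inv12 a := by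
  have h1 := inv_tb (mem_M12_iff.1 hg).2 ha
  rw [inv12, inv12]
  show bcond (tb Dm (cd g a)) 1 0 = _
  rw [h1]

theorem hbase12 (g : P24) (hg : g ∈ M12) (hfix : ∀ a ∈ steps12.map Prod.fst, g (pt a) = pt a) : g = 1 := by
  have hq : memM12 h12 = true := by decide +kernel
  obtain ⟨hv, hm⟩ := memM12_spec _ hq
  have hc := vld_code hv
  have h1 : ppm h12 * g * (ppm h12)⁻¹ = 1 := by
    have hmem : ppm h12 * g * (ppm h12)⁻¹ ∈ M12 := mul_mem (mul_mem hm hg) (inv_mem hm)
    apply eq_one_of_fix_base (mem_GE_Dm.2 (mem_M12_iff.1 hmem))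
    have hchk : ∀ i : Fin 5, ∃ a ∈ steps12.map Prod.fst, a < 24 ∧ pc h12 a = i.1 := by
      have : allBelow (fun i => (steps12.map Prod.fst).any (fun a => Nat.blt a 24 && Nat.beq (pc h12 a) i)) 5 = true := by
        decide +kernel
      intro i
      have h2 := (allBelow_iff _ _).1 this i.1 i.2
      rw [List.any_eq_true] at h2
      obtain ⟨a, ha, h3⟩ := h2
      rw [Bool.and_eq_true] at h3
      exact ⟨a, ha, by simpa [Nat.blt_eq] using h3.1, Nat.eq_of_beq_eq_true h3.2⟩
    intro i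
    obtain ⟨a, ha, ha24, e⟩ := hchk i
    have e2 : pt i.1 = ppm h12 (pt a) := by
      rw [code_pt hc ha24, e]
    rw [e2]
    simp only [Equiv.Perm.coe_mul, Function.comp_apply]
    have e3 : (ppm h12)⁻¹ (ppm h12 (pt a)) = pt a := by simp
    rw [e3, hfix a ha]
  have h2 : g = (ppm h12)⁻¹ * 1 * ppm h12 := by
    rw [← h1]
    group
  rw [h2]
  group

theorem card_M12 : Nat.card M12 = 95040 := by
  have hd : squareDodecad ∈ dodecads := by
    rw [squareDodecad_eq]
    exact D0_mem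
  rw [← card_stabilizer_dodecad hd]
  exact Nat.card_congr ⟨fun y => ⟨⟨y.1, y.2.1⟩, y.2.2⟩, fun x => ⟨x.1.1, ⟨x.1.2, x.2⟩⟩, fun x => rfl, fun y => rfl⟩

/-- `S5167`. -/
theorem m12_isSimple (S : Sylow 2 M12) : (groupFusionSystem (S : Subgroup M12)).IsSimple 2 :=
  isSimple_main T12_OK memM12_spec hAM12 6 1485 (by norm_num) (by decide +kernel) (by norm_num)
    (by rw [card_M12]; rfl) z12 hinv12 chain12 hbase12 S

end Cfsg.Agent.Lib.Cl.MatFus
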