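import Cfsg.Agent.Lib.Cl.MatFus
import Mathlib

/-! # The criterion with an initial list of fixed points -/

set_option autoImplicit false
set_option linter.unusedSectionVars false
set_option linter.unusedVariables false

namespace Cfsg.Agent.Lib.Cl.MatFus

open Cfsg Cfsg.Agent.Lib.Compute Cfsg.Agent.Lib.Golay Cfsg.Agent.Lib.M24

section Zero

variable {t : Tab} (h : t.OK) {memM : ℕ → Bool} {M : Subgroup P24}

include h

/-- The final criterion, with initial fixed points. -/
theorem isSimple_main₀ [Finite M] (hM : ∀ b, memM b = true → vld b = true ∧ ppm b ∈ M) (hAM : t.A ≤ M) (e m : ℕ)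
    (he : e ≠ 0) (hK : t.K = 2 ^ e) (hm : m % 2 = 1) (hcard : Nat.card M = t.K * m)
    {Zc : List (ℕ × List (ℕ × ℕ × ℕ × ℕ))} (hz : zOK t memM Zc = true)
    {inv : ℕ → ℕ} (hinv : ∀ g, g ∈ M → ∀ a, a < 24 → inv (idx (g (pt a))) = inv a)
    {X₀ : List ℕ} (hX₀ : ∀ g, g ∈ M → ∀ a ∈ X₀, g (pt a) = pt a)
    {steps : List (ℕ × List (List ℕ))} (hc : chainOK t inv steps X₀ = true)
    (hbase : ∀ g, g ∈ M → (∀ a ∈ X₀ ++ steps.map Prod.fst, g (pt a) = pt a) → g = 1)
    (S : Sylow 2 M) : (Cfsg.groupFusionSystem (S : Subgroup M)).IsSimple 2 := by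
  classical
  haveI : Fact (Nat.Prime 2) := ⟨Nat.prime_two⟩
  have hcA := card_A h
  have hp : IsPGroup 2 t.A := IsPGroup.of_card (n := e) (by rw [hcA, hK])
  refine Cfsg.Agent.Lib.Cl.SelfNorm.isSimple_of_perm M t.A hAM hp ?_ ?_ ?_ ?_ S
  · have h1 := Subgroup.card_mul_index (t.A.subgroupOf M)
    rw [← Nat.card_congr (Subgroup.subgroupOfEquivOfLe hAM).symm.toEquiv, hcA, hcard] at h1
    have hK0 : 0 < t.K := by
      rw [hK]
      positivity
    have h2 := Nat.eq_of_mul_eq_mul_left hK0 h1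
    rw [h2]
    omega
  · intro h0
    rw [h0] at hcA
    have h1 : Nat.card (⊥ : Subgroup P24) = 1 := Subgroup.card_bot
    rw [h1, hK] at hcA
    have : 2 ^ e ≠ 1 := by
      have := Nat.one_lt_two_pow he
      omega
    exact this hcA.symm
  · intro g hg hn
    obtain ⟨s, hs, hq, hf⟩ := chain_spec h (Q := fun g => g ∈ M) (fun s g hs hg => mul_mem (hAM hs) hg) hinv steps X₀ hc
      g hg hn (hX₀ g hg)
    have h1 : s * g = 1 := hbase _ hq hf
    have h2 : g = s⁻¹ := eq_inv_of_mul_eq_one_right h1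
    rw [h2]
    exact inv_mem hs
  · intro T hT hcl
    exact closure_spec h hM hAM e hK hz T hT hcl

end Zero

end Cfsg.Agent.Lib.Cl.MatFus
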