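import Cfsg.Agent.Lib.Cl.M22FusData
import Cfsg.Agent.Lib.Cl.MatFus0
import Cfsg.Agent.Lib.KnownSimple.MathieuOut
import Cfsg.Agent.Lib.Golay.Dodecad2
import Mathlib

/-! # The `2`-fusion systems of `M22` and `M23` are simple -/

set_option autoImplicit false
set_option linter.unusedSectionVars false
set_option linter.unusedVariables false

namespace Cfsg.Agent.Lib.Cl.MatFus

open Cfsg Cfsg.Spor Cfsg.Agent.Lib.Compute Cfsg.Agent.Lib.Golay Cfsg.Agent.Lib.M24
open Cfsg.Agent.Lib.KnownSimple.CodeCalc Cfsg.Agent.Lib.KnownSimple.MathieuFacts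
open Cfsg.Agent.Lib.KnownSimple.MathieuGen Cfsg.Agent.Lib.KnownSimple.MathieuOut

/-- Membership in `M22`. -/
noncomputable def memM22 (b : ℕ) : Bool := vld b && Nat.beq (pc b 23) 23 && Nat.beq (pc b 0) 0

/-- Membership in `M23`. -/
noncomputable def memM23 (b : ℕ) : Bool := vld b && Nat.beq (pc b 23) 23

theorem memM22_spec (b : ℕ) (h : memM22 b = true) : vld b = true ∧ ppm b ∈ M22 := by
  rw [memM22, Bool.and_eq_true, Bool.and_eq_true] at h
  exact ⟨h.1.1, mem_M22_of (vld_mem h.1.1) (vld_code h.1.1) (Nat.eq_of_beq_eq_true h.1.2) (Nat.eq_of_beq_eq_true h.2)⟩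

theorem memM23_spec (b : ℕ) (h : memM23 b = true) : vld b = true ∧ ppm b ∈ M23 := by
  rw [memM23, Bool.and_eq_true] at h
  exact ⟨h.1, mem_M23_of (vld_mem h.1) (vld_code h.1) (Nat.eq_of_beq_eq_true h.2)⟩

theorem gens22 : allBelow (fun j => memM22 (T22.L (T22.gi j))) T22.n = true := by decide +kernel

theorem gens23 : allBelow (fun j => memM23 (T22.L (T22.gi j))) T22.n = true := by decide +kernel

theorem hAM22 : T22.A ≤ M22 := by
  rw [Tab.A, Subgroup.closure_le]
  rintro _ ⟨j, hj, rfl⟩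
  exact (memM22_spec _ ((allBelow_iff _ _).1 gens22 j hj)).2

theorem hAM23 : T22.A ≤ M23 := by
  rw [Tab.A, Subgroup.closure_le]
  rintro _ ⟨j, hj, rfl⟩
  exact (memM23_spec _ ((allBelow_iff _ _).1 gens23 j hj)).2

theorem z22 : zOK T22 memM22 Zc22 = true := by decide +kernel

theorem z23 : zOK T22 memM23 Zc22 = true := by decide +kernel

theorem chain22 : chainOK T22 (fun _ => 0) steps22 [23, 0] = true := by decide +kernel

theorem chain23 : chainOK T22 (fun _ => 0) steps23 [23] = true := by decide +kernel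

theorem fix_of_cd {g : P24} {a : ℕ} (h : cd g a = a) : g (pt a) = pt a := by
  have h1 : idx (g (pt a)) = a := h
  have h2 := pt_idx (g (pt a))
  rw [h1] at h2
  exact h2.symm

theorem hX22 (g : P24) (hg : g ∈ M22) (a : ℕ) (ha : a ∈ ([23, 0] : List ℕ)) : g (pt a) = pt a := by
  obtain ⟨-, h1, h2⟩ := mem_M22_iff.1 hg
  simp only [List.mem_cons, List.not_mem_nil, or_false] at ha
  rcases ha with rfl | rfl
  · exact fix_of_cd h1
  · exact fix_of_cd h2

theorem hX23 (g : P24) (hg : g ∈ M23) (a : ℕ) (ha : a ∈ ([23] : List ℕ)) : g (pt a) = pt a := by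
  obtain ⟨-, h1⟩ := mem_M23_iff.1 hg
  simp only [List.mem_cons, List.not_mem_nil, or_false] at ha
  subst ha
  exact fix_of_cd h1

theorem hbase22 (g : P24) (hg : g ∈ M22) (hfix : ∀ a ∈ ([23, 0] : List ℕ) ++ steps22.map Prod.fst, g (pt a) = pt a) : g = 1 :=
  base_of_conj (q := h22) (by decide +kernel) (by decide +kernel) (mem_M22_iff.1 hg).1 hfix

theorem hbase23 (g : P24) (hg : g ∈ M23) (hfix : ∀ a ∈ ([23] : List ℕ) ++ steps23.map Prod.fst, g (pt a) = pt a) : g = 1 :=
  base_of_conj (q := h23) (by decide +kernel) (by decide +kernel) (mem_M23_iff.1 hg).1 hfix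

theorem card_M23 : Nat.card M23 = 10200960 := by
  rw [← card_stabilizer_point none]
  exact Nat.card_congr ⟨fun y => ⟨⟨y.1, y.2.1⟩, y.2.2⟩, fun x => ⟨x.1.1, ⟨x.1.2, x.2⟩⟩, fun x => rfl, fun y => rfl⟩

theorem card_M22 : Nat.card M22 = 443520 := by
  rw [← card_stabilizer_two (p := none) (q := some 0) (by simp)]
  exact Nat.card_congr ⟨fun y => ⟨⟨y.1, y.2.1.1⟩, y.2.1.2, y.2.2⟩, fun x => ⟨x.1.1, ⟨x.1.2, x.2.1⟩, x.2.2⟩, fun x => rfl, fun y => rfl⟩

/-- `S5168`. -/
theorem m22_isSimple (S : Sylow 2 M22) : (groupFusionSystem (S : Subgroup M22)).IsSimple 2 :=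
  isSimple_main₀ T22_OK memM22_spec hAM22 7 3465 (by norm_num) (by decide +kernel) (by norm_num)
    (by rw [card_M22]; rfl) z22 (inv := fun _ => 0) (fun _ _ _ _ => rfl) hX22 chain22 hbase22 S

/-- `S5169`. -/
theorem m23_isSimple (S : Sylow 2 M23) : (groupFusionSystem (S : Subgroup M23)).IsSimple 2 :=
  isSimple_main₀ T22_OK memM23_spec hAM23 7 79695 (by norm_num) (by decide +kernel) (by norm_num)
    (by rw [card_M23]; rfl) z23 (inv := fun _ => 0) (fun _ _ _ _ => rfl) hX23 chain23 hbase23 S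

end Cfsg.Agent.Lib.Cl.MatFus
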