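import Cfsg.Agent.Lib.Cl.M24FusData
import Cfsg.Agent.Lib.Cl.MatFus0
import Cfsg.Agent.Lib.KnownSimple.MathieuOut
import Mathlib

/-! # The `2`-fusion system of `M24` is simple -/

set_option autoImplicit false
set_option linter.unusedSectionVars false
set_option linter.unusedVariables false

namespace Cfsg.Agent.Lib.Cl.MatFus

open Cfsg Cfsg.Spor Cfsg.Agent.Lib.Compute Cfsg.Agent.Lib.Golay Cfsg.Agent.Lib.M24
open Cfsg.Agent.Lib.KnownSimple.CodeCalc Cfsg.Agent.Lib.KnownSimple.MathieuFacts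
open Cfsg.Agent.Lib.KnownSimple.MathieuGen Cfsg.Agent.Lib.KnownSimple.MathieuOut

theorem memM24_spec (b : ℕ) (h : vld b = true) : vld b = true ∧ ppm b ∈ Cfsg.M24 := ⟨h, vld_mem h⟩

theorem gens24 : allBelow (fun j => vld (T24.L (T24.gi j))) T24.n = true := by decide +kernel

theorem hAM24 : T24.A ≤ Cfsg.M24 := by
  rw [Tab.A, Subgroup.closure_le]
  rintro _ ⟨j, hj, rfl⟩
  exact vld_mem ((allBelow_iff _ _).1 gens24 j hj)

theorem z24 : zOK T24 vld Zc24 = true := by decide +kernel

theorem chain24 : chainOK T24 (fun _ => 0) steps24 [] = true := by decide +kernel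

theorem hbase24 (g : P24) (hg : g ∈ Cfsg.M24) (hfix : ∀ a ∈ steps24.map Prod.fst, g (pt a) = pt a) : g = 1 :=
  base_of_conj (q := h24) (by decide +kernel) (by decide +kernel) hg hfix

/-- `S5170`. -/
theorem m24_isSimple (S : Sylow 2 Cfsg.M24) : (groupFusionSystem (S : Subgroup Cfsg.M24)).IsSimple 2 :=
  isSimple_main T24_OK memM24_spec hAM24 10 239085 (by norm_num) (by decide +kernel) (by norm_num)
    (by rw [card_M24]; rfl) z24 (inv := fun _ => 0) (fun _ _ _ _ => rfl) chain24 hbase24 S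

end Cfsg.Agent.Lib.Cl.MatFus
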