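import Cfsg.Agent.Lib.Cl.SelfNorm
import Cfsg.Agent.Lib.M24.Table
import Cfsg.Agent.Lib.M24.Six
import Mathlib

/-! # Kernel certificates for a self-normalizing Sylow subgroup of a subgroup of `M24` -/

set_option autoImplicit false
set_option linter.unusedSectionVars false
set_option linter.unusedVariables false

namespace Cfsg.Agent.Lib.Cl.MatFus

open Cfsg Cfsg.Agent.Lib.Compute Cfsg.Agent.Lib.Golay Cfsg.Agent.Lib.M24

/-- Permutations of the `24` points. -/
abbrev P24 := Equiv.Perm GolayPt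

/-- A table of an explicit subgroup. -/
structure Tab where
  K : ℕ
  L : ℕ → ℕ
  n : ℕ
  gi : ℕ → ℕ
  R : ℕ → ℕ → ℕ
  par : ℕ → ℕ
  gen : ℕ → ℕ
  dist : ℕ → ℕ
  k₀ : ℕ

/-- The checks on a table. -/
structure Tab.OK (t : Tab) : Prop where
  hv : allBelow (fun k => vld (t.L k)) t.K = true
  hasc : allBelow (fun k => Nat.blt (keyOf (pc (t.L k))) (keyOf (pc (t.L (k + 1))))) (t.K - 1) = true
  hgi : allBelow (fun j => Nat.blt (t.gi j) t.K) t.n = true
  hR : allBelow (fun j => allBelow (fun k => Nat.blt (t.R j k) t.K &&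
    eqF (pc (t.L (t.R j k))) (fun i => pc (t.L (t.gi j)) (pc (t.L k) i))) t.K) t.n = true
  hk₀ : t.k₀ < t.K
  hid : idF (pc (t.L t.k₀)) = true
  htree : allBelow (fun k => Nat.beq k t.k₀ || (Nat.blt (t.gen k) t.n && Nat.blt (t.par k) t.K &&
    Nat.blt (t.dist (t.par k)) (t.dist k) && Nat.beq (t.R (t.gen k) (t.par k)) k)) t.K = true

/-- The element of a row. -/
noncomputable abbrev Tab.el (t : Tab) (k : ℕ) : P24 := ppm (t.L k)

/-- The subgroup generated by the distinguished rows. -/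
noncomputable def Tab.A (t : Tab) : Subgroup P24 := Subgroup.closure {σ | ∃ j, j < t.n ∧ σ = t.el (t.gi j)}

section Tab

variable {t : Tab} (h : t.OK)

include h

theorem vld_el {k : ℕ} (hk : k < t.K) : vld (t.L k) = true := (allBelow_iff _ _).1 h.hv k hk

theorem code_el {k : ℕ} (hk : k < t.K) : enc.IsCode (t.el k) (pc (t.L k)) := vld_code (vld_el h hk)

theorem gi_lt {j : ℕ} (hj : j < t.n) : t.gi j < t.K := by
  have := (allBelow_iff _ _).1 h.hgi j hj
  simpa [Nat.blt_eq] using this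

theorem R_lt {j k : ℕ} (hj : j < t.n) (hk : k < t.K) : t.R j k < t.K := by
  have h1 := (allBelow_iff _ _).1 ((allBelow_iff _ _).1 h.hR j hj) k hk
  simp only [Bool.and_eq_true] at h1
  simpa [Nat.blt_eq] using h1.1

theorem el_mul {j k : ℕ} (hj : j < t.n) (hk : k < t.K) : t.el (t.gi j) * t.el k = t.el (t.R j k) := by
  have h1 := (allBelow_iff _ _).1 ((allBelow_iff _ _).1 h.hR j hj) k hk
  simp only [Bool.and_eq_true] at h1
  exact ((eqF_iff (code_el h (R_lt h hj hk)) (isCode_mul (code_el h (gi_lt h hj)) (code_el h hk))).1 h1.2).symm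

theorem el_k₀ : t.el t.k₀ = 1 := (idF_iff (code_el h h.hk₀)).1 h.hid

theorem el_mem_A : ∀ k, k < t.K → t.el k ∈ t.A := by
  have main : ∀ m k, t.dist k < m → k < t.K → t.el k ∈ t.A := by
    intro m
    induction m with
    | zero => intro k h0; omega
    | succ m ih =>
      intro k hd hk
      have h1 := (allBelow_iff _ _).1 h.htree k hk
      rw [Bool.or_eq_true] at h1
      rcases h1 with h1 | h1
      · have : k = t.k₀ := Nat.eq_of_beq_eq_true h1
        rw [this, el_k₀ h]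
        exact one_mem _
      · simp only [Bool.and_eq_true] at h1
        obtain ⟨⟨⟨h2, h3⟩, h4⟩, h5⟩ := h1
        have h2' : t.gen k < t.n := by simpa [Nat.blt_eq] using h2
        have h3' : t.par k < t.K := by simpa [Nat.blt_eq] using h3
        have h4' : t.dist (t.par k) < t.dist k := by simpa [Nat.blt_eq] using h4
        have h5' : t.R (t.gen k) (t.par k) = k := Nat.eq_of_beq_eq_true h5
        rw [← h5', Tab.el, ← Tab.el, ← el_mul h h2' h3']
        exact mul_mem (Subgroup.subset_closure ⟨_, h2', rfl⟩) (ih _ (by omega) h3')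
  exact fun k hk => main _ k (Nat.lt_succ_self _) hk

theorem cover_A {σ : P24} (hσ : σ ∈ t.A) : ∃ k, k < t.K ∧ σ = t.el k := by
  have h1 : σ ∈ Submonoid.closure {σ | ∃ j, j < t.n ∧ σ = t.el (t.gi j)} := by
    rw [← Subgroup.closure_toSubmonoid_of_finite]
    exact hσ
  induction h1 using Submonoid.closure_induction_left with
  | one => exact ⟨t.k₀, h.hk₀, (el_k₀ h).symm⟩
  | mul_left x hx y hy ih =>
    obtain ⟨j, hj, rfl⟩ := hx
    have hy' : y ∈ t.A := by
      have : y ∈ (Subgroup.closure {σ | ∃ j, j < t.n ∧ σ = t.el (t.gi j)}).toSubmonoid := by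
        rw [Subgroup.closure_toSubmonoid_of_finite]
        exact hy
      exact this
    obtain ⟨k, hk, rfl⟩ := ih hy'
    exact ⟨_, R_lt h hj hk, el_mul h hj hk⟩

theorem el_inj {a b : ℕ} (ha : a < t.K) (hb : b < t.K) (e : t.el a = t.el b) : a = b :=
  list_inj h.hv h.hasc a b ha hb e

theorem card_A : Nat.card t.A = t.K := by
  classical
  let F : Fin t.K → t.A := fun k => ⟨t.el k.1, el_mem_A h k.1 k.2⟩
  have hbij : Function.Bijective F := by
    constructor
    · intro a b e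
      exact Fin.ext (el_inj h a.2 b.2 (congrArg Subtype.val e))
    · rintro ⟨σ, hσ⟩
      obtain ⟨k, hk, rfl⟩ := cover_A h hσ
      exact ⟨⟨k, hk⟩, rfl⟩
  rw [← Nat.card_congr (Equiv.ofBijective F hbij), Nat.card_eq_fintype_card, Fintype.card_fin]

end Tab

/-! ### Fixing lists of points -/

/-- The element fixes the listed points. -/
noncomputable def fixOK (X : List ℕ) (q : ℕ) : Bool := X.all (fun a => Nat.beq (pc q a) a)

theorem fixOK_iff {q : ℕ} (hq : vld q = true) {X : List ℕ} (hX : ∀ a ∈ X, a < 24) :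
    fixOK X q = true ↔ ∀ a ∈ X, ppm q (pt a) = pt a := by
  have hc := vld_code hq
  rw [fixOK, List.all_eq_true]
  constructor
  · intro h a ha
    rw [code_pt hc (hX a ha), Nat.eq_of_beq_eq_true (h a ha)]
  · intro h a ha
    have h1 := h a ha
    rw [code_pt hc (hX a ha)] at h1
    have h2 := pt_inj (code_lt hc (hX a ha)) (hX a ha) h1
    rw [h2]
    exact Nat.beq_refl a

/-- The number of rows fixing `y` and `Y`. -/
noncomputable def cnt (t : Tab) (Y : List ℕ) (y : ℕ) : ℕ := countBelow (fun k => fixOK (y :: Y) (t.L k)) t.K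

/-- The stabiliser in `A` of `y` and `Y`. -/
def St (t : Tab) (Y : List ℕ) (y : ℕ) : Set P24 := {σ | σ ∈ t.A ∧ ∀ a ∈ y :: Y, σ (pt a) = pt a}

section Cnt

variable {t : Tab} (h : t.OK)

include h

theorem cnt_eq {Y : List ℕ} {y : ℕ} (hY : ∀ a ∈ Y, a < 24) (hy : y < 24) : cnt t Y y = (St t Y y).ncard := by
  classical
  have hX : ∀ a ∈ y :: Y, a < 24 := by
    intro a ha
    rcases List.mem_cons.1 ha with rfl | ha
    · exact hy
    · exact hY a ha
  have e : St t Y y = t.el '' (↑((Finset.range t.K).filter (fun k => fixOK (y :: Y) (t.L k) = true)) : Set ℕ) := by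
    ext σ
    constructor
    · rintro ⟨h1, h2⟩
      obtain ⟨k, hk, rfl⟩ := cover_A h h1
      refine ⟨k, ?_, rfl⟩
      simp only [Finset.coe_filter, Finset.mem_range, Set.mem_setOf_eq]
      exact ⟨hk, (fixOK_iff (vld_el h hk) hX).2 h2⟩
    · rintro ⟨k, hk, rfl⟩
      simp only [Finset.coe_filter, Finset.mem_range, Set.mem_setOf_eq] at hk
      exact ⟨el_mem_A h k hk.1, (fixOK_iff (vld_el h hk.1) hX).1 hk.2⟩
  rw [e, Set.ncard_image_of_injOn, Set.ncard_coe_finset, cnt, countBelow_eq]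
  intro a ha b hb hab
  simp only [Finset.coe_filter, Finset.mem_range, Set.mem_setOf_eq] at ha hb
  exact el_inj h ha.1 hb.1 hab

omit h in
theorem ncard_St_conj {Y : List ℕ} {y : ℕ} {g : P24} (hg : ∀ s, s ∈ t.A ↔ g * s * g⁻¹ ∈ t.A)
    (hfix : ∀ a ∈ Y, g (pt a) = pt a) :
    (St t Y (idx (g (pt y)))).ncard = (St t Y y).ncard := by
  have hinv : ∀ a ∈ Y, g⁻¹ (pt a) = pt a := by
    intro a ha
    rw [Equiv.Perm.inv_eq_iff_eq]
    exact (hfix a ha).symm
  have hy' : pt (idx (g (pt y))) = g (pt y) := pt_idx _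
  have hc : ∀ x, g⁻¹ (g x) = x := fun x => by simp
  have e : St t Y (idx (g (pt y))) = (fun σ => g * σ * g⁻¹) '' St t Y y := by
    ext τ
    constructor
    · rintro ⟨h1, h2⟩
      refine ⟨g⁻¹ * τ * g, ⟨?_, ?_⟩, by simp [mul_assoc]⟩
      · rw [hg]
        have : g * (g⁻¹ * τ * g) * g⁻¹ = τ := by group
        rwa [this]
      · intro a ha
        rcases List.mem_cons.1 ha with rfl | ha
        · have h3 := h2 _ List.mem_cons_self
          rw [hy'] at h3
          simp only [Equiv.Perm.coe_mul, Function.comp_apply]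
          rw [h3, hc]
        · have h3 := h2 a (List.mem_cons_of_mem _ ha)
          simp only [Equiv.Perm.coe_mul, Function.comp_apply]
          rw [hfix a ha, h3, hinv a ha]
    · rintro ⟨σ, ⟨h1, h2⟩, rfl⟩
      refine ⟨(hg σ).1 h1, ?_⟩
      intro a ha
      rcases List.mem_cons.1 ha with rfl | ha
      · rw [hy']
        simp only [Equiv.Perm.coe_mul, Function.comp_apply]
        rw [hc, h2 _ List.mem_cons_self]
      · simp only [Equiv.Perm.coe_mul, Function.comp_apply]
        rw [hinv a ha, h2 a (List.mem_cons_of_mem _ ha), hfix a ha]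
  rw [e, Set.ncard_image_of_injective]
  intro a b hab
  exact mul_left_cancel (mul_right_cancel hab)

theorem cnt_conj {Y : List ℕ} {y : ℕ} (hY : ∀ a ∈ Y, a < 24) (hy : y < 24) {g : P24}
    (hg : ∀ s, s ∈ t.A ↔ g * s * g⁻¹ ∈ t.A) (hfix : ∀ a ∈ Y, g (pt a) = pt a) :
    cnt t Y (idx (g (pt y))) = cnt t Y y := by
  rw [cnt_eq h hY (idx_lt _), cnt_eq h hY hy, ncard_St_conj hg hfix]

end Cnt

/-! ### The normalizer chain -/

/-- One step of the reduction of a normalizing element. -/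
noncomputable def stepOK (t : Tab) (inv : ℕ → ℕ) (X : List ℕ) (x : ℕ) (Ys : List (List ℕ)) : Bool :=
  Nat.blt x 24 && X.all (fun a => Nat.blt a 24) && Ys.all (fun Y => Y.all (fun a => X.any (Nat.beq a))) &&
  !(X.any (Nat.beq x)) &&
  allBelow (fun y => X.any (Nat.beq y) || !(Nat.beq (inv y) (inv x)) ||
    !(Ys.all (fun Y => Nat.beq (cnt t Y y) (cnt t Y x))) ||
    anyBelow (fun k => fixOK X (t.L k) && Nat.beq (pc (t.L k) y) x) t.K) 24

/-- A chain of reductions. -/
noncomputable def chainOK (t : Tab) (inv : ℕ → ℕ) : List (ℕ × List (List ℕ)) → List ℕ → Bool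
  | [], _ => true
  | s :: l, X => stepOK t inv X s.1 s.2 && chainOK t inv l (s.1 :: X)

section Chain

variable {t : Tab} (h : t.OK) {inv : ℕ → ℕ} {Q : P24 → Prop}

include h

theorem chain_spec (hQ : ∀ s g, s ∈ t.A → Q g → Q (s * g))
    (hinv : ∀ g, Q g → ∀ a, a < 24 → inv (idx (g (pt a))) = inv a) :
    ∀ (steps : List (ℕ × List (List ℕ))) (X : List ℕ), chainOK t inv steps X = true → ∀ g, Q g →
      (∀ s, s ∈ t.A ↔ g * s * g⁻¹ ∈ t.A) → (∀ a ∈ X, g (pt a) = pt a) →
      ∃ s ∈ t.A, Q (s * g) ∧ ∀ a ∈ X ++ steps.map Prod.fst, (s * g) (pt a) = pt a := by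
  intro steps
  induction steps with
  | nil =>
    intro X _ g hg _ hfix
    exact ⟨1, one_mem _, by simpa using hg, by simpa using hfix⟩
  | cons st l ih =>
    intro X hc g hg hn hfix
    rw [chainOK, Bool.and_eq_true] at hc
    obtain ⟨hs, hc⟩ := hc
    simp only [stepOK, Bool.and_eq_true, List.all_eq_true] at hs
    obtain ⟨⟨⟨⟨hx, hX⟩, hY⟩, hxX⟩, hchk⟩ := hs
    have hx' : st.1 < 24 := by simpa [Nat.blt_eq] using hx
    have hX' : ∀ a ∈ X, a < 24 := fun a ha => by simpa [Nat.blt_eq] using hX a ha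
    have hYsub : ∀ Y ∈ st.2, ∀ a ∈ Y, a ∈ X := by
      intro Y hY' a ha
      have h1 := hY Y hY' a ha
      rw [List.any_eq_true] at h1
      obtain ⟨b, hb, e⟩ := h1
      rw [Nat.eq_of_beq_eq_true e]
      exact hb
    set y := idx (g (pt st.1)) with hy
    have hy24 : y < 24 := idx_lt _
    have hck := (allBelow_iff _ _).1 hchk y hy24
    have h1 : Nat.beq (inv y) (inv st.1) = true := by
      rw [hinv g hg _ hx']
      exact Nat.beq_refl _
    have h2 : st.2.all (fun Y => Nat.beq (cnt t Y y) (cnt t Y st.1)) = true := by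
      rw [List.all_eq_true]
      intro Y hY'
      have hYlt : ∀ a ∈ Y, a < 24 := fun a ha => hX' a (hYsub Y hY' a ha)
      rw [hy, cnt_conj h hYlt hx' hn (fun a ha => hfix a (hYsub Y hY' a ha))]
      exact Nat.beq_refl _
    have h0 : X.any (Nat.beq y) = false := by
      rw [Bool.eq_false_iff]
      intro h3
      rw [List.any_eq_true] at h3
      obtain ⟨b, hb, e⟩ := h3
      have e1 : y = b := Nat.eq_of_beq_eq_true e
      have e2 : g (pt st.1) = g (pt b) := by
        rw [hfix b hb, ← e1, hy, pt_idx]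
      have e3 : st.1 = b := pt_inj hx' (hX' b hb) (g.injective e2)
      have hxX' : X.any (Nat.beq st.1) = false := by simpa using hxX
      have hxX'' : X.any (Nat.beq st.1) = true := by
        rw [List.any_eq_true]
        exact ⟨b, hb, by rw [e3]; exact Nat.beq_refl _⟩
      rw [hxX'] at hxX''
      exact Bool.noConfusion hxX''
    rw [h0, h1, h2] at hck
    simp only [Bool.not_true, Bool.false_or] at hck
    obtain ⟨k, hk, hk2⟩ := (anyBelow_iff _ _).1 hck
    rw [Bool.and_eq_true] at hk2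
    obtain ⟨hk3, hk4⟩ := hk2
    have hkv := vld_el h hk
    have hkfix := (fixOK_iff hkv hX').1 hk3
    have hky : pc (t.L k) y = st.1 := Nat.eq_of_beq_eq_true hk4
    have hs₁ : t.el k ∈ t.A := el_mem_A h k hk
    have hg₁ : Q (t.el k * g) := hQ _ _ hs₁ hg
    have hn₁ : ∀ s, s ∈ t.A ↔ (t.el k * g) * s * (t.el k * g)⁻¹ ∈ t.A := by
      intro s
      rw [hn s]
      have e : (t.el k * g) * s * (t.el k * g)⁻¹ = t.el k * (g * s * g⁻¹) * (t.el k)⁻¹ := by group
      rw [e]
      constructor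
      · intro h3
        exact mul_mem (mul_mem hs₁ h3) (inv_mem hs₁)
      · intro h3
        have e2 : g * s * g⁻¹ = (t.el k)⁻¹ * (t.el k * (g * s * g⁻¹) * (t.el k)⁻¹) * t.el k := by group
        rw [e2]
        exact mul_mem (mul_mem (inv_mem hs₁) h3) hs₁
    have hfix₁ : ∀ a ∈ st.1 :: X, (t.el k * g) (pt a) = pt a := by
      intro a ha
      rcases List.mem_cons.1 ha with rfl | ha
      · simp only [Equiv.Perm.coe_mul, Function.comp_apply]
        have e : g (pt st.1) = pt y := (pt_idx _).symm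
        rw [e, code_pt (code_el h hk) hy24, hky]
      · simp only [Equiv.Perm.coe_mul, Function.comp_apply]
        rw [hfix a ha]
        exact hkfix a ha
    obtain ⟨s₂, hs₂, hq, hf⟩ := ih (st.1 :: X) hc _ hg₁ hn₁ hfix₁
    refine ⟨s₂ * t.el k, mul_mem hs₂ hs₁, ?_, ?_⟩
    · rw [mul_assoc]
      exact hq
    · intro a ha
      rw [mul_assoc]
      apply hf
      simp only [List.mem_append, List.mem_cons, List.map_cons] at ha ⊢
      tauto

theorem normalizer_le (hQ : ∀ s g, s ∈ t.A → Q g → Q (s * g))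
    (hinv : ∀ g, Q g → ∀ a, a < 24 → inv (idx (g (pt a))) = inv a)
    {steps : List (ℕ × List (List ℕ))} (hc : chainOK t inv steps [] = true)
    (hbase : ∀ g, Q g → (∀ a ∈ steps.map Prod.fst, g (pt a) = pt a) → g = 1)
    {g : P24} (hg : Q g) (hn : ∀ s, s ∈ t.A ↔ g * s * g⁻¹ ∈ t.A) : g ∈ t.A := by
  obtain ⟨s, hs, hq, hf⟩ := chain_spec h hQ hinv steps [] hc g hg hn (by simp)
  have h1 : s * g = 1 := hbase _ hq (fun a ha => hf a (by simpa using ha))
  have h2 : g = s⁻¹ := eq_inv_of_mul_eq_one_right h1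
  rw [h2]
  exact inv_mem hs

end Chain

/-- A base lemma by conjugation to the standard base. -/
theorem base_of_conj {q : ℕ} (hq : vld q = true) {X : List ℕ}
    (hX : ([5, 4, 3, 2, 1, 0, 23] : List ℕ).all (fun i => X.any (fun a => Nat.blt a 24 && Nat.beq (pc q a) i)) = true)
    {σ : P24} (hσ : σ ∈ M24) (hfix : ∀ a ∈ X, σ (pt a) = pt a) : σ = 1 := by
  have hc := vld_code hq
  have hm := vld_mem hq
  have h1 : ppm q * σ * (ppm q)⁻¹ = 1 := by
    apply eq_one_of_fix7 (mul_mem (mul_mem hm hσ) (inv_mem hm))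
    intro i hi
    have h2 := (List.all_eq_true.1 hX) i hi
    rw [List.any_eq_true] at h2
    obtain ⟨a, ha, h3⟩ := h2
    rw [Bool.and_eq_true] at h3
    have ha24 : a < 24 := by simpa [Nat.blt_eq] using h3.1
    have e : pc q a = i := Nat.eq_of_beq_eq_true h3.2
    have e2 : pt i = ppm q (pt a) := by
      rw [code_pt hc ha24, e]
    rw [e2]
    simp only [Equiv.Perm.coe_mul, Function.comp_apply]
    have e3 : (ppm q)⁻¹ (ppm q (pt a)) = pt a := by simp
    rw [e3, hfix a ha]
  have h2 : σ = (ppm q)⁻¹ * 1 * ppm q := by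
    rw [← h1]
    group
  rw [h2]
  group

/-! ### Strongly closed subgroups -/

/-- A step of a closure certificate: kind `0` conjugates row `a` by the element `b` into row `c`;
any other kind multiplies rows `a` and `b` into row `c`. -/
noncomputable def tstepOK (t : Tab) (memM : ℕ → Bool) (acc : List ℕ) (s : ℕ × ℕ × ℕ × ℕ) : Bool :=
  Nat.blt s.2.2.2 t.K && acc.any (Nat.beq s.2.1) &&
    bcond (Nat.beq s.1 0) (memM s.2.2.1 && conjF (pc s.2.2.1) (pc (t.L s.2.1)) (pc (t.L s.2.2.2)))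
      (acc.any (Nat.beq s.2.2.1) && eqF (pc (t.L s.2.2.2)) (fun i => pc (t.L s.2.1) (pc (t.L s.2.2.1) i)))

/-- A closure certificate. -/
noncomputable def tchainOK (t : Tab) (memM : ℕ → Bool) : List (ℕ × ℕ × ℕ × ℕ) → List ℕ → Bool
  | [], acc => allBelow (fun j => acc.any (Nat.beq (t.gi j))) t.n
  | s :: l, acc => tstepOK t memM acc s && tchainOK t memM l (s.2.2.2 :: acc)

/-- The row is central. -/
noncomputable def centralK (t : Tab) (k : ℕ) : Bool :=
  allBelow (fun j => eqF (fun i => pc (t.L k) (pc (t.L (t.gi j)) i)) (fun i => pc (t.L (t.gi j)) (pc (t.L k) i))) t.n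

/-- All nontrivial central rows have a certificate. -/
noncomputable def zOK (t : Tab) (memM : ℕ → Bool) (Zc : List (ℕ × List (ℕ × ℕ × ℕ × ℕ))) : Bool :=
  allBelow (fun k => !(centralK t k) || Nat.beq k t.k₀ ||
    Zc.any (fun z => Nat.beq k z.1 && tchainOK t memM z.2 [k])) t.K

theorem exists_central_in {P : Type*} [Group P] (A T : Subgroup P) [Finite A] (hA : IsPGroup 2 A) (hT : T ≤ A)
    (hn : ∀ x ∈ T, ∀ s ∈ A, s * x * s⁻¹ ∈ T) (hne : T ≠ ⊥) : ∃ z ∈ T, z ≠ 1 ∧ ∀ s ∈ A, s * z = z * s := by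
  classical
  haveI : Fact (Nat.Prime 2) := ⟨Nat.prime_two⟩
  haveI : Group.IsNilpotent A := hA.isNilpotent
  haveI hN : (T.subgroupOf A).Normal := ⟨by
    rintro ⟨x, hx⟩ hx' ⟨s, hs⟩
    exact hn x hx' s hs⟩
  have hne' : T.subgroupOf A ≠ ⊥ := by
    intro h
    apply hne
    rw [eq_bot_iff]
    intro x hx
    have h1 : (⟨x, hT hx⟩ : A) ∈ T.subgroupOf A := hx
    rw [h, Subgroup.mem_bot] at h1
    rw [Subgroup.mem_bot]
    exact congrArg Subtype.val h1
  have h1 := Cfsg.Agent.Lib.Core.normal_inf_center_ne_bot (T.subgroupOf A) hne'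
  obtain ⟨z, hz, hz1⟩ : ∃ z, z ∈ T.subgroupOf A ⊓ Subgroup.center A ∧ z ≠ 1 := by
    by_contra hcon
    push_neg at hcon
    apply h1
    rw [eq_bot_iff]
    intro z hz
    exact Subgroup.mem_bot.2 (hcon z hz)
  refine ⟨z.1, hz.1, fun h2 => hz1 (Subtype.ext h2), fun s hs => ?_⟩
  have h3 := Subgroup.mem_center_iff.1 hz.2 ⟨s, hs⟩
  exact congrArg Subtype.val h3

section TChain

variable {t : Tab} (h : t.OK) {memM : ℕ → Bool} {M : Subgroup P24}

include h

theorem tchain_spec (hM : ∀ b, memM b = true → vld b = true ∧ ppm b ∈ M) (T : Subgroup P24)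
    (hcl : ∀ x ∈ T, ∀ g ∈ M, g * x * g⁻¹ ∈ t.A → g * x * g⁻¹ ∈ T) :
    ∀ (l : List (ℕ × ℕ × ℕ × ℕ)) (acc : List ℕ), tchainOK t memM l acc = true →
      (∀ a ∈ acc, a < t.K ∧ t.el a ∈ T) → t.A ≤ T := by
  intro l
  induction l with
  | nil =>
    intro acc hc hacc
    rw [tchainOK] at hc
    rw [Tab.A, Subgroup.closure_le]
    rintro _ ⟨j, hj, rfl⟩
    have h1 := (allBelow_iff _ _).1 hc j hj
    rw [List.any_eq_true] at h1
    obtain ⟨b, hb, e⟩ := h1
    rw [Nat.eq_of_beq_eq_true e]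
    exact (hacc b hb).2
  | cons st l ih =>
    intro acc hc hacc
    rw [tchainOK, Bool.and_eq_true] at hc
    obtain ⟨hs, hc⟩ := hc
    refine ih _ hc ?_
    rw [tstepOK, Bool.and_eq_true, Bool.and_eq_true] at hs
    obtain ⟨⟨h1, h2⟩, h3⟩ := hs
    have hcK : st.2.2.2 < t.K := by simpa [Nat.blt_eq] using h1
    have hmemOf : ∀ x, acc.any (Nat.beq x) = true → x < t.K ∧ t.el x ∈ T := by
      intro x hx
      rw [List.any_eq_true] at hx
      obtain ⟨b, hb, e⟩ := hx
      rw [Nat.eq_of_beq_eq_true e]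
      exact hacc b hb
    obtain ⟨haK, haT⟩ := hmemOf _ h2
    have hnew : t.el st.2.2.2 ∈ T := by
      cases hkind : Nat.beq st.1 0 with
      | true =>
        rw [hkind, bcond_true, Bool.and_eq_true] at h3
        obtain ⟨hv, hm⟩ := hM _ h3.1
        have e := conj_eq_of_conjF (vld_code hv) (code_el h haK) (code_el h hcK) h3.2
        have hel := el_mem_A h _ hcK
        rw [← e] at hel ⊢
        exact hcl _ haT _ hm hel
      | false =>
        rw [hkind, bcond_false, Bool.and_eq_true] at h3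
        obtain ⟨hbK, hbT⟩ := hmemOf _ h3.1
        have e := (eqF_iff (code_el h hcK) (isCode_mul (code_el h haK) (code_el h hbK))).1 h3.2
        rw [e]
        exact mul_mem haT hbT
    intro a ha
    rcases List.mem_cons.1 ha with rfl | ha
    · exact ⟨hcK, hnew⟩
    · exact hacc a ha

theorem closure_spec (hM : ∀ b, memM b = true → vld b = true ∧ ppm b ∈ M) (hAM : t.A ≤ M) (e : ℕ) (hK : t.K = 2 ^ e)
    {Zc : List (ℕ × List (ℕ × ℕ × ℕ × ℕ))} (hz : zOK t memM Zc = true) (T : Subgroup P24) (hT : T ≤ t.A)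
    (hcl : ∀ x ∈ T, ∀ g ∈ M, g * x * g⁻¹ ∈ t.A → g * x * g⁻¹ ∈ T) : T = ⊥ ∨ T = t.A := by
  classical
  by_cases hT0 : T = ⊥
  · exact Or.inl hT0
  refine Or.inr (le_antisymm hT ?_)
  have hcard := card_A h
  haveI : Finite t.A := Nat.finite_of_card_ne_zero (by rw [hcard, hK]; positivity)
  have hp : IsPGroup 2 t.A := IsPGroup.of_card (n := e) (by rw [hcard, hK])
  obtain ⟨z, hzT, hz1, hzc⟩ := exists_central_in t.A T hp hT
    (fun x hx s hs => hcl x hx s (hAM hs) (mul_mem (mul_mem hs (hT hx)) (inv_mem hs))) hT0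
  obtain ⟨k, hk, rfl⟩ := cover_A h (hT hzT)
  have hcent : centralK t k = true := by
    refine (allBelow_iff _ _).2 fun j hj => ?_
    have hgj := gi_lt h hj
    refine (eqF_iff (isCode_mul (code_el h hk) (code_el h hgj)) (isCode_mul (code_el h hgj) (code_el h hk))).2 ?_
    exact (hzc _ (el_mem_A h _ hgj)).symm
  have h1 := (allBelow_iff _ _).1 hz k hk
  rw [hcent] at h1
  simp only [Bool.not_true, Bool.false_or, Bool.or_eq_true, List.any_eq_true, Bool.and_eq_true] at h1
  rcases h1 with h1 | ⟨z, hzm, h2, h3⟩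
  · exfalso
    apply hz1
    rw [Nat.eq_of_beq_eq_true h1]
    exact el_k₀ h
  · refine tchain_spec h hM T hcl z.2 [k] h3 ?_
    intro a ha
    rw [List.mem_singleton] at ha
    subst ha
    exact ⟨hk, hzT⟩

/-- The final criterion. -/
theorem isSimple_main [Finite M] (hM : ∀ b, memM b = true → vld b = true ∧ ppm b ∈ M) (hAM : t.A ≤ M) (e m : ℕ)
    (he : e ≠ 0) (hK : t.K = 2 ^ e) (hm : m % 2 = 1) (hcard : Nat.card M = t.K * m)
    {Zc : List (ℕ × List (ℕ × ℕ × ℕ × ℕ))} (hz : zOK t memM Zc = true)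
    {inv : ℕ → ℕ} (hinv : ∀ g, g ∈ M → ∀ a, a < 24 → inv (idx (g (pt a))) = inv a)
    {steps : List (ℕ × List (List ℕ))} (hc : chainOK t inv steps [] = true)
    (hbase : ∀ g, g ∈ M → (∀ a ∈ steps.map Prod.fst, g (pt a) = pt a) → g = 1)
    (S : Sylow 2 M) : (Cfsg.groupFusionSystem (S : Subgroup M)).IsSimple 2 := by
  classical
  haveI : Fact (Nat.Prime 2) := ⟨Nat.prime_two⟩
  have hcA := card_A h
  have hp : IsPGroup 2 t.A := IsPGroup.of_card (n := e) (by rw [hcA, hK])
  refine Cfsg.Agent.Lib.Cl.SelfNorm.isSimple_of_perm M t.A hAM hp ?_ ?_ ?_ ?_ S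
  · have h1 := Subgroup.card_mul_index (t.A.subgroupOf M)
    rw [← Nat.card_congr (Subgroup.subgroupOfEquivOfLe hAM).symm.toEquiv, hcA, hcard] at h1
    have hK0 : 0 < t.K := by
      rw [hK]
      positivity
    have h2 := Nat.eq_of_mul_eq_mul_left hK0 h1
    rw [h2]
    omega
  · intro h0
    rw [h0] at hcA
    have h1 : Nat.card (⊥ : Subgroup P24) = 1 := Subgroup.card_bot
    rw [h1, hK] at hcA
    have : 2 ^ e ≠ 1 := by
      have := Nat.one_lt_two_pow he
      omega
    exact this hcA.symm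
  · intro g hg hn
    exact normalizer_le h (Q := fun g => g ∈ M) (fun s g hs hg => mul_mem (hAM hs) hg) hinv hc hbase hg hn
  · intro T hT hcl
    exact closure_spec h hM hAM e hK hz T hT hcl

end TChain

end Cfsg.Agent.Lib.Cl.MatFus
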