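import Mathlib
import Cfsg.Agent.Lib.Hall.Basic
import Cfsg.Agent.Lib.Hall.FPFAction
import Cfsg.Agent.Lib.FStar.Signalizer
import Cfsg.Agent.Lib.Hall.CoprimeLemmas

/-! In a solvable group, among three primes two are joined in the prime graph. -/

set_option autoImplicit false

namespace Cfsg.Agent.Lib.Cl

open Subgroup

universe u

section

variable {X : Type u} [Group X] [Finite X]

/-- A nontrivial `p`-subgroup element has a power of order `p`. -/
theorem exists_pow_order_prime {p : ℕ} (hp : p.Prime) {v : X} {k : ℕ} (hv : v ^ p ^ k = 1) (hv1 : v ≠ 1) :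
    ∃ w : X, w ∈ zpowers v ∧ orderOf w = p := by
  have h1 : orderOf v ∣ p ^ k := orderOf_dvd_of_pow_eq_one hv
  obtain ⟨j, -, hj⟩ := (Nat.dvd_prime_pow hp).mp h1
  have hj0 : j ≠ 0 := by
    rintro rfl
    rw [pow_zero, orderOf_eq_one_iff] at hj
    exact hv1 hj
  have hd : p ∣ orderOf v := by rw [hj]; exact dvd_pow_self p hj0
  refine ⟨v ^ (orderOf v / p), pow_mem (mem_zpowers v) _, ?_⟩
  exact orderOf_pow_orderOf_div (orderOf_pos v).ne' hd

/-- The fixed-point-free action of elements of prime order on a normal `p`-subgroup. -/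
theorem inf_centralizer_eq_bot {p l : ℕ} (hp : p.Prime) (hpl : p ≠ l) (hl : l.Prime)
    (hno : ∀ x : X, orderOf x ≠ p * l) {N : Subgroup X} (hNp : IsPGroup p N) {a : X}
    (ha : orderOf a = l) : N ⊓ centralizer {a} = ⊥ := by
  rw [eq_bot_iff]
  rintro v ⟨hv, hva⟩
  rw [Subgroup.mem_bot]
  by_contra hv1
  obtain ⟨k, hk⟩ := hNp ⟨v, hv⟩
  have hk' : v ^ p ^ k = 1 := by simpa using congrArg (fun y : N => (y : X)) hk
  obtain ⟨w, hw, hwo⟩ := exists_pow_order_prime hp hk' hv1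
  have hc : Commute v a := Subgroup.mem_centralizer_singleton_iff.mp hva
  obtain ⟨i, rfl⟩ := mem_zpowers_iff.mp hw
  have hc2 : Commute (v ^ i) a := hc.zpow_left i
  have h1 := hc2.orderOf_mul_eq_mul_orderOf_of_coprime (by
    rw [hwo, ha]; exact (Nat.coprime_primes hp hl).mpr hpl)
  rw [hwo, ha] at h1
  exact hno _ h1

theorem gk_inner {p q r : ℕ} (hp : p.Prime) (hq : q.Prime) (hr : r.Prime) (hpq : p ≠ q) (hpr : p ≠ r)
    (hqr : q ≠ r) (hno1 : ∀ x : X, orderOf x ≠ p * q) (hno2 : ∀ x : X, orderOf x ≠ p * r)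
    (hno3 : ∀ x : X, orderOf x ≠ q * r) (N : Subgroup X) (hNn : N.Normal) (hN1 : N ≠ ⊥)
    (hNp : IsPGroup p N) (hNab : IsMulCommutative N) (B : Subgroup X) (hB1 : B ≠ ⊥)
    (hBq : ∀ b ∈ B, b ^ q = 1) {y : X} (hy : orderOf y = r) (hyB : ∀ b ∈ B, y * b * y⁻¹ ∈ B) : False := by
  classical
  haveI : Fact q.Prime := ⟨hq⟩
  have hAV : ∀ A : Subgroup X, A ≤ normalizer (N : Set X) := by
    intro A x _
    rw [Subgroup.mem_normalizer_iff]
    intro v
    refine ⟨fun h => hNn.conj_mem v h x, fun h => ?_⟩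
    have := hNn.conj_mem _ h x⁻¹
    simpa [mul_assoc] using this
  have hBfpf : ∀ a ∈ B, a ≠ 1 → N ⊓ centralizer {a} = ⊥ := by
    intro a ha ha1
    exact inf_centralizer_eq_bot hp hpq hq hno1 hNp (orderOf_eq_prime (hBq a ha) ha1)
  have hBp : IsPGroup q B := by
    rintro ⟨b, hb⟩
    refine ⟨1, ?_⟩
    apply Subtype.ext
    simpa using hBq b hb
  obtain ⟨k, hk⟩ := IsPGroup.iff_card.mp hBp
  have hk1 : k = 1 := by
    have hk0 : k ≠ 0 := by
      rintro rfl
      apply hB1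
      rw [pow_zero] at hk
      exact Subgroup.card_eq_one.mp hk
    by_contra hne
    have hd : q ^ 2 ∣ Nat.card B := by
      rw [hk]; exact pow_dvd_pow q (by omega)
    obtain ⟨E₀, hE₀⟩ := Sylow.exists_subgroup_card_pow_prime q hd
    let E : Subgroup X := E₀.map B.subtype
    have hE : Nat.card E = q ^ 2 := by
      rw [← hE₀]
      exact (Nat.card_congr (E₀.equivMapOfInjective B.subtype B.subtype_injective).toEquiv).symm
    have hEB : E ≤ B := Subgroup.map_subtype_le _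
    exact Cfsg.Agent.Lib.Hall.false_of_fpf_elementary B N hN1 (hAV B) hBfpf hEB hq hE
      (fun x hx => hBq x (hEB hx))
  subst hk1
  rw [pow_one] at hk
  let A : Subgroup X := B ⊔ zpowers y
  have hAcard : Nat.card A = q * r := by
    have h1 : Nat.card A ∣ q * r := by
      have := Cfsg.Agent.Lib.FStar.card_sup_dvd_of_normalized (X := B) (Y := zpowers y) (by
        intro z hz x hx
        obtain ⟨i, rfl⟩ := mem_zpowers_iff.mp hz
        have hN : y ∈ normalizer (B : Set X) := by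
          exact Cfsg.Agent.Lib.Hall.mem_normalizer_of_conj_le hyB
        have hN2 : y ^ i ∈ normalizer (B : Set X) := zpow_mem hN i
        exact (Subgroup.mem_normalizer_iff.mp hN2 x).mp hx)
      rwa [hk, Nat.card_zpowers, hy] at this
    have h2 : q ∣ Nat.card A := by
      rw [← hk]; exact Subgroup.card_dvd_of_le le_sup_left
    have h3 : r ∣ Nat.card A := by
      rw [← hy, ← Nat.card_zpowers]; exact Subgroup.card_dvd_of_le le_sup_right
    have h4 : q * r ∣ Nat.card A :=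
      Nat.Coprime.mul_dvd_of_dvd_of_dvd ((Nat.coprime_primes hq hr).mpr hqr) h2 h3
    exact Nat.dvd_antisymm h1 h4
  have hAfpf : ∀ a ∈ A, a ≠ 1 → N ⊓ centralizer {a} = ⊥ := by
    intro a ha ha1
    have hord : orderOf a ∣ q * r := by
      have := Subgroup.orderOf_dvd_natCard A ha
      rwa [hAcard] at this
    have hord1 : orderOf a ≠ 1 := by rwa [Ne, orderOf_eq_one_iff]
    obtain ⟨l, hl, hld⟩ := Nat.exists_prime_and_dvd hord1
    have hl2 : l = q ∨ l = r := by
      rcases (Nat.Prime.dvd_mul hl).mp (hld.trans hord) with h | h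
      · exact Or.inl ((Nat.prime_dvd_prime_iff_eq hl hq).mp h)
      · exact Or.inr ((Nat.prime_dvd_prime_iff_eq hl hr).mp h)
    have hao : orderOf (a ^ (orderOf a / l)) = l :=
      orderOf_pow_orderOf_div (orderOf_pos a).ne' hld
    have hbot : N ⊓ centralizer {a ^ (orderOf a / l)} = ⊥ := by
      rcases hl2 with rfl | rfl
      · exact inf_centralizer_eq_bot hp hpq hl hno1 hNp hao
      · exact inf_centralizer_eq_bot hp hpr hl hno2 hNp hao
    rw [eq_bot_iff, ← hbot]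
    rintro v ⟨hv, hva⟩
    refine ⟨hv, ?_⟩
    have hc : Commute v a := Subgroup.mem_centralizer_singleton_iff.mp hva
    exact Subgroup.mem_centralizer_singleton_iff.mpr (hc.pow_right _)
  haveI hcyc : IsCyclic A := Cfsg.Agent.Lib.Hall.isCyclic_of_fpf A N hN1 (hAV A) hAfpf
    (Or.inr ⟨q, r, hq, hr, hAcard⟩)
  obtain ⟨g, hg⟩ := IsCyclic.exists_ofOrder_eq_natCard (α := A)
  have hg' : orderOf (g : X) = q * r := by rw [Subgroup.orderOf_coe, hg, hAcard]
  exact hno3 _ hg'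

/-- Elements of order `t` in a normal abelian subgroup of a subgroup. -/
theorem gk_two {p q r : ℕ} {b c : ℕ} (hp : p.Prime) (hq : q.Prime) (hr : r.Prime) (hpq : p ≠ q)
    (hpr : p ≠ r) (hqr : q ≠ r) (hno1 : ∀ x : X, orderOf x ≠ p * q)
    (hno2 : ∀ x : X, orderOf x ≠ p * r) (hno3 : ∀ x : X, orderOf x ≠ q * r)
    (N : Subgroup X) (hNn : N.Normal) (hN1 : N ≠ ⊥) (hNp : IsPGroup p N) (hNab : IsMulCommutative N)
    (L : Subgroup X) (hLs : Group.IsSolvable L) (hL : Nat.card L = q ^ b * r ^ c) (hb : b ≠ 0)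
    (hc : c ≠ 0) : False := by
  classical
  have hqL : q ∣ Nat.card L := by
    rw [hL]; exact (dvd_pow_self q hb).trans (Dvd.intro _ rfl)
  have hrL : r ∣ Nat.card L := by
    rw [hL]; exact (dvd_pow_self r hc).trans (Dvd.intro_left _ rfl)
  haveI : Nontrivial L := by
    rw [← Finite.one_lt_card_iff_nontrivial]
    have := Nat.le_of_dvd Nat.card_pos hqL
    have := hq.one_lt
    omega
  obtain ⟨t, ht, B₀, hB₀n, hB₀1, hB₀p, hB₀c⟩ := Cfsg.Agent.Lib.Hall.exists_normal_abelian_pgroup (G := L)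
  haveI : Fact t.Prime := ⟨ht⟩
  have hcomm : ∀ x y : L, x ∈ B₀ → y ∈ B₀ → x * y = y * x := by
    intro x y hx hy
    have h1 := mul_comm' (⟨x, hx⟩ : B₀) ⟨y, hy⟩
    exact congrArg Subtype.val h1
  let B₁ : Subgroup X :=
    { carrier := {x | ∃ h : x ∈ L, (⟨x, h⟩ : L) ∈ B₀ ∧ x ^ t = 1}
      mul_mem' := by
        rintro x y ⟨hx, hx1, hx2⟩ ⟨hy, hy1, hy2⟩
        refine ⟨L.mul_mem hx hy, B₀.mul_mem hx1 hy1, ?_⟩
        have hc : Commute x y := by
          have := hcomm _ _ hx1 hy1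
          exact congrArg Subtype.val this
        rw [hc.mul_pow, hx2, hy2, one_mul]
      one_mem' := ⟨L.one_mem, B₀.one_mem, one_pow _⟩
      inv_mem' := by
        rintro x ⟨hx, hx1, hx2⟩
        exact ⟨L.inv_mem hx, B₀.inv_mem hx1, by rw [inv_pow, hx2, inv_one]⟩ }
  have hB₁1 : B₁ ≠ ⊥ := by
    obtain ⟨k, hk⟩ := IsPGroup.iff_card.mp hB₀p
    have hk0 : k ≠ 0 := by
      rintro rfl
      apply hB₀1
      rw [pow_zero] at hk
      exact Subgroup.card_eq_one.mp hk
    have hd : t ∣ Nat.card B₀ := by rw [hk]; exact dvd_pow_self t hk0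
    obtain ⟨w, hw⟩ := exists_prime_orderOf_dvd_card' t hd
    intro hbot
    have h1 : ((w : L) : X) ∈ B₁ := by
      refine ⟨(w : L).2, w.2, ?_⟩
      have : orderOf ((w : L) : X) = t := by
        rw [Subgroup.orderOf_coe, Subgroup.orderOf_coe, hw]
      rw [← this]
      exact pow_orderOf_eq_one _
    rw [hbot] at h1
    have h2 : ((w : L) : X) = 1 := h1
    have h3 : w = 1 := Subtype.ext (Subtype.ext h2)
    rw [h3, orderOf_one] at hw
    exact ht.one_lt.ne hw
  have htq : t = q ∨ t = r := by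
    obtain ⟨k, hk⟩ := IsPGroup.iff_card.mp hB₀p
    have hk0 : k ≠ 0 := by
      rintro rfl
      apply hB₀1
      rw [pow_zero] at hk
      exact Subgroup.card_eq_one.mp hk
    have hd : t ∣ Nat.card L := by
      have : t ∣ Nat.card B₀ := by rw [hk]; exact dvd_pow_self t hk0
      exact this.trans (Subgroup.card_subgroup_dvd_card B₀)
    rw [hL] at hd
    rcases (Nat.Prime.dvd_mul ht).mp hd with h | h
    · exact Or.inl ((Nat.prime_dvd_prime_iff_eq ht hq).mp (ht.dvd_of_dvd_pow h))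
    · exact Or.inr ((Nat.prime_dvd_prime_iff_eq ht hr).mp (ht.dvd_of_dvd_pow h))
  have hnormal : ∀ y : L, ∀ b ∈ B₁, (y : X) * b * (y : X)⁻¹ ∈ B₁ := by
    rintro y b ⟨hb, hb1, hb2⟩
    refine ⟨L.mul_mem (L.mul_mem y.2 hb) (L.inv_mem y.2), hB₀n.conj_mem _ hb1 y, ?_⟩
    have : (y : X) * b * (y : X)⁻¹ = MulAut.conj (y : X) b := rfl
    rw [this, ← map_pow, hb2, map_one]
  have hexp : ∀ b ∈ B₁, b ^ t = 1 := fun b hb => hb.2.2
  rcases htq with rfl | rfl
  · haveI : Fact r.Prime := ⟨hr⟩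
    obtain ⟨y, hy⟩ := exists_prime_orderOf_dvd_card' r hrL
    exact gk_inner hp hq hr hpq hpr hqr hno1 hno2 hno3 N hNn hN1 hNp hNab B₁ hB₁1 hexp
      (y := (y : X)) (by rw [Subgroup.orderOf_coe, hy]) (hnormal y)
  · haveI : Fact q.Prime := ⟨hq⟩
    obtain ⟨y, hy⟩ := exists_prime_orderOf_dvd_card' q hqL
    exact gk_inner hp hr hq hpr hpq hqr.symm hno2 hno1 (fun x => by rw [mul_comm]; exact hno3 x)
      N hNn hN1 hNp hNab B₁ hB₁1 hexp (y := (y : X)) (by rw [Subgroup.orderOf_coe, hy]) (hnormal y)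

/-- Order `p^a q^b r^c` level. -/
theorem gk_s {p q r a b c : ℕ} (hp : p.Prime) (hq : q.Prime) (hr : r.Prime) (hpq : p ≠ q)
    (hpr : p ≠ r) (hqr : q ≠ r) (hno1 : ∀ x : X, orderOf x ≠ p * q)
    (hno2 : ∀ x : X, orderOf x ≠ p * r) (hno3 : ∀ x : X, orderOf x ≠ q * r)
    [Group.IsSolvable X] (hcard : Nat.card X = q ^ b * r ^ c * p ^ a) (hb : b ≠ 0) (hc : c ≠ 0)
    (N : Subgroup X) (hNn : N.Normal) (hN1 : N ≠ ⊥) (hNp : IsPGroup p N) (hNab : IsMulCommutative N) :
    False := by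
  have hcop : Nat.Coprime (q ^ b * r ^ c) (p ^ a) := by
    apply Nat.Coprime.pow_right
    apply Nat.Coprime.mul_left
    · exact Nat.Coprime.pow_left _ ((Nat.coprime_primes hq hp).mpr hpq.symm)
    · exact Nat.Coprime.pow_left _ ((Nat.coprime_primes hr hp).mpr hpr.symm)
  obtain ⟨L, hL⟩ := Cfsg.Agent.Lib.Hall.exists_card_eq_of_solvable (q ^ b * r ^ c) (p ^ a) hcard hcop
  exact gk_two hp hq hr hpq hpr hqr hno1 hno2 hno3 N hNn hN1 hNp hNab L inferInstance hL hb hc

/-- Group of order `p^a q^b r^c`. -/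
theorem gk_three {p q r a b c : ℕ} (hp : p.Prime) (hq : q.Prime) (hr : r.Prime) (hpq : p ≠ q)
    (hpr : p ≠ r) (hqr : q ≠ r) (hno1 : ∀ x : X, orderOf x ≠ p * q)
    (hno2 : ∀ x : X, orderOf x ≠ p * r) (hno3 : ∀ x : X, orderOf x ≠ q * r)
    [Group.IsSolvable X] (hcard : Nat.card X = p ^ a * q ^ b * r ^ c) (ha : a ≠ 0) (hb : b ≠ 0)
    (hc : c ≠ 0) : False := by
  haveI : Nontrivial X := by
    rw [← Finite.one_lt_card_iff_nontrivial]
    have h1 : p ∣ Nat.card X := by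
      rw [hcard]; exact (dvd_pow_self p ha).trans ((Dvd.intro _ rfl).trans (Dvd.intro _ rfl))
    have := Nat.le_of_dvd Nat.card_pos h1
    have := hp.one_lt
    omega
  obtain ⟨s, hs, N, hNn, hN1, hNp, hNab⟩ := Cfsg.Agent.Lib.Hall.exists_normal_abelian_pgroup (G := X)
  haveI : Fact s.Prime := ⟨hs⟩
  have hsd : s ∣ Nat.card X := by
    obtain ⟨k, hk⟩ := IsPGroup.iff_card.mp hNp
    have hk0 : k ≠ 0 := by
      rintro rfl
      apply hN1
      rw [pow_zero] at hk
      exact Subgroup.card_eq_one.mp hk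
    have : s ∣ Nat.card N := by rw [hk]; exact dvd_pow_self s hk0
    exact this.trans (Subgroup.card_subgroup_dvd_card N)
  have hs3 : s = p ∨ s = q ∨ s = r := by
    rw [hcard] at hsd
    rcases (Nat.Prime.dvd_mul hs).mp hsd with h | h
    · rcases (Nat.Prime.dvd_mul hs).mp h with h | h
      · exact Or.inl ((Nat.prime_dvd_prime_iff_eq hs hp).mp (hs.dvd_of_dvd_pow h))
      · exact Or.inr (Or.inl ((Nat.prime_dvd_prime_iff_eq hs hq).mp (hs.dvd_of_dvd_pow h)))
    · exact Or.inr (Or.inr ((Nat.prime_dvd_prime_iff_eq hs hr).mp (hs.dvd_of_dvd_pow h)))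
  rcases hs3 with rfl | rfl | rfl
  · exact gk_s hs hq hr hpq hpr hqr hno1 hno2 hno3 (a := a) (b := b) (c := c)
      (by rw [hcard]; ring) hb hc N hNn hN1 hNp hNab
  · exact gk_s hs hp hr hpq.symm hqr hpr (fun x => by rw [mul_comm]; exact hno1 x) hno3 hno2
      (a := b) (b := a) (c := c) (by rw [hcard]; ring) ha hc N hNn hN1 hNp hNab
  · exact gk_s hs hp hq hpr.symm hqr.symm hpq (fun x => by rw [mul_comm]; exact hno2 x)
      (fun x => by rw [mul_comm]; exact hno3 x) hno1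
      (a := c) (b := a) (c := b) (by rw [hcard]) ha hb N hNn hN1 hNp hNab

end

/-- In a finite solvable group, among any three primes dividing the order, two are joined in the
prime graph: there is an element whose order is their product. -/
theorem exists_order_mul_of_solvable {G : Type u} [Group G] [Finite G] [Group.IsSolvable G]
    {p q r : ℕ} (hp : p.Prime) (hq : q.Prime) (hr : r.Prime) (hpq : p ≠ q) (hpr : p ≠ r) (hqr : q ≠ r)
    (hpd : p ∣ Nat.card G) (hqd : q ∣ Nat.card G) (hrd : r ∣ Nat.card G) :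
    (∃ x : G, orderOf x = p * q) ∨ (∃ x : G, orderOf x = p * r) ∨ (∃ x : G, orderOf x = q * r) := by
  by_contra hcon
  push Not at hcon
  obtain ⟨hno1, hno2, hno3⟩ := hcon
  have hc0 : Nat.card G ≠ 0 := Nat.card_pos.ne'
  obtain ⟨a, c₁, hc₁, he₁⟩ := Nat.exists_eq_pow_mul_and_not_dvd hc0 p hp.ne_one
  have hc₁0 : c₁ ≠ 0 := by
    rintro rfl
    simp at hc₁
  have hqc₁ : q ∣ c₁ := by
    rw [he₁] at hqd
    rcases (Nat.Prime.dvd_mul hq).mp hqd with h | h
    · exact absurd ((Nat.prime_dvd_prime_iff_eq hq hp).mp (hq.dvd_of_dvd_pow h)) hpq.symm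
    · exact h
  obtain ⟨b, c₂, hc₂, he₂⟩ := Nat.exists_eq_pow_mul_and_not_dvd hc₁0 q hq.ne_one
  have hc₂0 : c₂ ≠ 0 := by
    rintro rfl
    simp at hc₂
  have hrc₂ : r ∣ c₂ := by
    rw [he₁, he₂] at hrd
    rcases (Nat.Prime.dvd_mul hr).mp hrd with h | h
    · exact absurd ((Nat.prime_dvd_prime_iff_eq hr hp).mp (hr.dvd_of_dvd_pow h)) hpr.symm
    · rcases (Nat.Prime.dvd_mul hr).mp h with h | h
      · exact absurd ((Nat.prime_dvd_prime_iff_eq hr hq).mp (hr.dvd_of_dvd_pow h)) hqr.symm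
      · exact h
  obtain ⟨c, c₃, hc₃, he₃⟩ := Nat.exists_eq_pow_mul_and_not_dvd hc₂0 r hr.ne_one
  have ha : a ≠ 0 := by
    rintro rfl
    rw [pow_zero, one_mul] at he₁
    rw [he₁] at hpd
    exact hc₁ hpd
  have hb : b ≠ 0 := by
    rintro rfl
    rw [pow_zero, one_mul] at he₂
    rw [he₂] at hqc₁
    exact hc₂ hqc₁
  have hc : c ≠ 0 := by
    rintro rfl
    rw [pow_zero, one_mul] at he₃
    rw [he₃] at hrc₂
    exact hc₃ hrc₂
  have hpc₃ : ¬ p ∣ c₃ := fun h => hc₁ (by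
    rw [he₂, he₃]; exact h.trans ((Dvd.intro_left _ rfl).trans (Dvd.intro_left _ rfl)))
  have hqc₃ : ¬ q ∣ c₃ := fun h => hc₂ (by
    rw [he₃]; exact h.trans (Dvd.intro_left _ rfl))
  have hcard : Nat.card G = (p ^ a * q ^ b * r ^ c) * c₃ := by
    rw [he₁, he₂, he₃]; ring
  have hcop : Nat.Coprime (p ^ a * q ^ b * r ^ c) c₃ := by
    apply Nat.Coprime.mul_left
    · apply Nat.Coprime.mul_left
      · exact Nat.Coprime.pow_left _ ((Nat.Prime.coprime_iff_not_dvd hp).mpr hpc₃)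
      · exact Nat.Coprime.pow_left _ ((Nat.Prime.coprime_iff_not_dvd hq).mpr hqc₃)
    · exact Nat.Coprime.pow_left _ ((Nat.Prime.coprime_iff_not_dvd hr).mpr hc₃)
  obtain ⟨M, hM⟩ := Cfsg.Agent.Lib.Hall.exists_card_eq_of_solvable _ _ hcard hcop
  exact gk_three (X := M) hp hq hr hpq hpr hqr
    (fun x h => hno1 (x : G) (by rw [Subgroup.orderOf_coe]; exact h))
    (fun x h => hno2 (x : G) (by rw [Subgroup.orderOf_coe]; exact h))
    (fun x h => hno3 (x : G) (by rw [Subgroup.orderOf_coe]; exact h)) hM ha hb hc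

end Cfsg.Agent.Lib.Cl
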