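import Mathlib
import Cfsg.Agent.Lib.Cl.CycNormal
import Cfsg.Agent.Lib.Cl.PrimeGraph
import Cfsg.Agent.Lib.Core.Basic

/-! Finite `2`-groups with commutator quotient of order four have a cyclic subgroup of index two. -/

set_option autoImplicit false

namespace Cfsg.Agent.Lib.Cl

open Subgroup

universe u

section
variable {S : Type u} [Group S]

theorem comm_le_of_index_two {A : Subgroup S} (hA : A.index = 2)
    (hAab : ∀ x ∈ A, ∀ y ∈ A, x * y = y * x) {b : S} (hb : b ∉ A) (R : Subgroup S) (hRA : R ≤ A)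
    (hR : ∀ x ∈ A, b * x * b⁻¹ * x⁻¹ ∈ R) : commutator S ≤ R := by
  have hmem : ∀ g : S, g ∉ A → b⁻¹ * g ∈ A := by
    intro g hg
    rw [Subgroup.mul_mem_iff_of_index_two hA]
    simp [hb, hg]
  have hcomm1 : ∀ g : S, g ∉ A → ∀ y ∈ A, g * y * g⁻¹ * y⁻¹ ∈ R := by
    intro g hg y hy
    have hx := hmem g hg
    have e : g * y * g⁻¹ = b * ((b⁻¹ * g) * y * (b⁻¹ * g)⁻¹) * b⁻¹ := by group
    rw [e, mul_inv_eq_of_eq_mul (hAab _ hx _ hy)]
    simpa using hR y hy
  have hconj : ∀ g : S, ∀ r ∈ R, g * r * g⁻¹ ∈ R := by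
    intro g r hr
    by_cases hg : g ∈ A
    · rw [mul_inv_eq_of_eq_mul (hAab _ hg _ (hRA hr))]
      exact hr
    · have h1 := hcomm1 g hg r (hRA hr)
      have e : g * r * g⁻¹ = (g * r * g⁻¹ * r⁻¹) * r := by group
      rw [e]
      exact R.mul_mem h1 hr
  rw [_root_.commutator_def, Subgroup.commutator_le]
  intro g _ h _
  rw [commutatorElement_def]
  by_cases hg : g ∈ A
  · by_cases hh : h ∈ A
    · have : g * h * g⁻¹ * h⁻¹ = 1 := by
        rw [hAab g hg h hh]; group
      rw [this]; exact R.one_mem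
    · have h1 := hcomm1 h hh g hg
      have e : g * h * g⁻¹ * h⁻¹ = (h * g * h⁻¹ * g⁻¹)⁻¹ := by group
      rw [e]
      exact R.inv_mem h1
  · by_cases hh : h ∈ A
    · exact hcomm1 g hg h hh
    · have hy : g⁻¹ * h ∈ A := by
        rw [Subgroup.mul_mem_iff_of_index_two hA]
        simp [hg, hh]
      have h1 := hcomm1 g hg _ hy
      have h2 := hconj g _ h1
      have e : g * h * g⁻¹ * h⁻¹ = g * (g * (g⁻¹ * h) * g⁻¹ * (g⁻¹ * h)⁻¹) * g⁻¹ := by group
      rw [e]
      exact h2

theorem two_mul_card_le_of_lt [Finite S] {H K : Subgroup S} (hle : H ≤ K) (hne : H ≠ K) :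
    2 * Nat.card H ≤ Nat.card K := by
  obtain ⟨c, hc⟩ := Subgroup.card_dvd_of_le hle
  have hc0 : c ≠ 0 := by
    rintro rfl
    rw [mul_zero] at hc
    exact Nat.card_pos.ne' hc
  have hc1 : c ≠ 1 := by
    rintro rfl
    apply hne
    apply Subgroup.eq_of_le_of_card_ge hle
    rw [hc, mul_one]
  have : 2 ≤ c := by omega
  rw [hc, mul_comm]
  exact Nat.mul_le_mul_left _ this

end

/-- A finite `2`-group with commutator quotient of order four has a cyclic subgroup of index two. -/
theorem exists_cyclic_index_two : ∀ (n : ℕ) (S : Type u) [Group S] [Finite S], Nat.card S = n →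
    IsPGroup 2 S → (commutator S).index = 4 → ∃ a : S, (zpowers a).index = 2 := by
  intro n
  induction n using Nat.strong_induction_on with
  | _ n ih =>
  intro S _ _ hn h2 hidx
  haveI : Fact (Nat.Prime 2) := ⟨Nat.prime_two⟩
  by_cases hS' : commutator S = ⊥
  · rw [hS', Subgroup.index_bot] at hidx
    obtain ⟨a, ha⟩ := exists_prime_orderOf_dvd_card' (G := S) 2 (by rw [hidx]; norm_num)
    refine ⟨a, ?_⟩
    have h1 := Subgroup.card_mul_index (zpowers a)
    rw [Nat.card_zpowers, ha, hidx] at h1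
    omega
  haveI : Group.IsNilpotent S := h2.isNilpotent
  -- a central involution in the commutator subgroup
  obtain ⟨z, hz, hzo⟩ : ∃ z : S, z ∈ commutator S ⊓ center S ∧ orderOf z = 2 := by
    have h1 := Cfsg.Agent.Lib.Core.normal_inf_center_ne_bot (commutator S) hS'
    obtain ⟨⟨y, hy⟩, hy1⟩ := (Subgroup.ne_bot_iff_exists_ne_one).mp h1
    have hy1' : y ≠ 1 := fun h0 => hy1 (Subtype.ext h0)
    obtain ⟨k, hk⟩ := h2 y
    obtain ⟨w, hw, hwo⟩ := exists_pow_order_prime Nat.prime_two hk hy1'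
    refine ⟨w, ?_, hwo⟩
    obtain ⟨i, rfl⟩ := mem_zpowers_iff.mp hw
    exact zpow_mem hy i
  have hzS : z ∈ commutator S := hz.1
  have hzc : ∀ g : S, g * z = z * g := fun g => (Subgroup.mem_center_iff.mp hz.2 g)
  have hz2 : z ^ 2 = 1 := by rw [← hzo]; exact pow_orderOf_eq_one z
  set Z : Subgroup S := zpowers z with hZdef
  have hZc : Z ≤ center S := by
    rw [hZdef, zpowers_le]; exact hz.2
  haveI hZn : Z.Normal := by
    refine ⟨fun n hn g => ?_⟩
    have := Subgroup.mem_center_iff.mp (hZc hn) g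
    rw [this, mul_inv_cancel_right]
    exact hn
  have hZcard : Nat.card Z = 2 := by rw [hZdef, Nat.card_zpowers, hzo]
  have hZS : Z ≤ commutator S := by rw [hZdef, zpowers_le]; exact hzS
  let π : S →* S ⧸ Z := QuotientGroup.mk' Z
  have hπs : Function.Surjective π := QuotientGroup.mk'_surjective Z
  have hker : π.ker = Z := QuotientGroup.ker_mk' Z
  have hcQ : Nat.card S = Nat.card (S ⧸ Z) * 2 := by
    rw [Subgroup.card_eq_card_quotient_mul_card_subgroup Z, hZcard]
  have hQpos : 0 < Nat.card (S ⧸ Z) := Nat.card_pos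
  have hQlt : Nat.card (S ⧸ Z) < n := by rw [← hn, hcQ]; omega
  have hcommQ : commutator (S ⧸ Z) = (commutator S).map π := by
    rw [_root_.commutator_def, _root_.commutator_def, Subgroup.map_commutator,
      Subgroup.map_top_of_surjective π hπs]
  have hidxQ : (commutator (S ⧸ Z)).index = 4 := by
    rw [hcommQ, Subgroup.index_map, hker, sup_eq_left.mpr hZS, MonoidHom.range_eq_top.mpr hπs,
      Subgroup.index_top, mul_one, hidx]
  obtain ⟨abar, habar⟩ := ih _ hQlt (S ⧸ Z) rfl (h2.to_quotient Z) hidxQ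
  obtain ⟨a, rfl⟩ := hπs abar
  set A : Subgroup S := (zpowers (π a)).comap π with hAdef
  have hAidx : A.index = 2 := by
    rw [hAdef, Subgroup.index_comap_of_surjective _ hπs]; exact habar
  have haA : a ∈ A := by
    rw [hAdef, Subgroup.mem_comap]; exact mem_zpowers _
  have hzA : z ∈ A := by
    rw [hAdef, Subgroup.mem_comap]
    have : π z = 1 := by
      rw [← MonoidHom.mem_ker, hker]; exact mem_zpowers z
    rw [this]; exact one_mem _
  -- the elements of `A`
  have hAform : ∀ x ∈ A, ∃ k : ℤ, x = a ^ k ∨ x = a ^ k * z := by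
    intro x hx
    rw [hAdef, Subgroup.mem_comap] at hx
    obtain ⟨k, hk⟩ := mem_zpowers_iff.mp hx
    refine ⟨k, ?_⟩
    have h3 : (a ^ k)⁻¹ * x ∈ Z := by
      rw [← hker, MonoidHom.mem_ker, map_mul, map_inv, map_zpow, hk, inv_mul_cancel]
    have h4 : ∀ y ∈ Z, y = 1 ∨ y = z := by
      intro y hy
      obtain ⟨j, rfl⟩ := mem_zpowers_iff.mp hy
      obtain ⟨c, hc | hc⟩ := Int.even_or_odd' j
      · left; rw [hc, zpow_mul]; norm_cast; rw [hz2, one_zpow]
      · right; rw [hc, zpow_add, zpow_mul]; norm_cast; rw [hz2, one_zpow, one_mul, pow_one]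
    rcases h4 _ h3 with h5 | h5
    · left; exact (inv_mul_eq_one.mp h5).symm
    · right; rw [← h5, mul_inv_cancel_left]
  have hAab : ∀ x ∈ A, ∀ y ∈ A, x * y = y * x := by
    intro x hx y hy
    obtain ⟨k, hk⟩ := hAform x hx
    obtain ⟨l, hl⟩ := hAform y hy
    have hc : Commute (a ^ k) (a ^ l) := (Commute.refl a).zpow_zpow k l
    rcases hk with rfl | rfl <;> rcases hl with rfl | rfl
    · exact hc
    · exact hc.mul_right (hzc _)
    · exact hc.mul_left (hzc _).symm
    · exact (hc.mul_right (hzc _)).mul_left (Commute.mul_right (Commute.symm (hzc _)) (Commute.refl z))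
  by_cases hzca : z ∈ zpowers a
  · refine ⟨a, ?_⟩
    have : zpowers a = A := by
      apply le_antisymm
      · rw [zpowers_le]; exact haA
      · intro x hx
        obtain ⟨k, hk | hk⟩ := hAform x hx
        · rw [hk]; exact zpow_mem (mem_zpowers a) k
        · rw [hk]; exact mul_mem (zpow_mem (mem_zpowers a) k) hzca
    rw [this]; exact hAidx
  -- `z` is not a power of `a`
  obtain ⟨b, hb⟩ : ∃ b, b ∉ A := by
    by_contra hcon
    push Not at hcon
    have : A = ⊤ := (Subgroup.eq_top_iff' A).mpr hcon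
    rw [this, Subgroup.index_top] at hAidx
    omega
  haveI hAn : A.Normal := Subgroup.normal_of_index_eq_two hAidx
  set w : S := b * a * b⁻¹ * a⁻¹ with hw
  have hwA : w ∈ A := by
    rw [hw]
    exact mul_mem (hAn.conj_mem a haA b) (inv_mem haA)
  have hwa : Commute w a := hAab w hwA a haA
  have hR : ∀ x ∈ A, b * x * b⁻¹ * x⁻¹ ∈ zpowers w := by
    have hpow : ∀ k : ℤ, b * a ^ k * b⁻¹ = w ^ k * a ^ k := by
      intro k
      have h1 : b * a * b⁻¹ = w * a := by rw [hw]; group
      have h2 : b * a ^ k * b⁻¹ = (b * a * b⁻¹) ^ k := by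
        rw [conj_zpow]
      rw [h2, h1, hwa.mul_zpow]
    intro x hx
    obtain ⟨k, hk | hk⟩ := hAform x hx
    · rw [hk, hpow k, mul_inv_cancel_right]
      exact zpow_mem (mem_zpowers w) k
    · have h3 : b * (a ^ k * z) * b⁻¹ * (a ^ k * z)⁻¹ = w ^ k := by
        have : b * (a ^ k * z) * b⁻¹ = (b * a ^ k * b⁻¹) * z := by
          simp only [mul_assoc]
          rw [← hzc b⁻¹]
        rw [this, hpow k, mul_inv_rev]
        group
      rw [hk, h3]
      exact zpow_mem (mem_zpowers w) k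
  have hRA : zpowers w ≤ A := by rw [zpowers_le]; exact hwA
  have hS'le : commutator S ≤ zpowers w := comm_le_of_index_two hAidx hAab hb _ hRA hR
  have hcardS' : Nat.card S = Nat.card (commutator S) * 4 := by
    rw [← hidx, Subgroup.card_mul_index]
  have hcardw : Nat.card (commutator S) ≤ orderOf w := by
    rw [← Nat.card_zpowers]
    exact Subgroup.card_le_of_le hS'le
  have hcardA : Nat.card S = Nat.card A * 2 := by
    rw [← hAidx, Subgroup.card_mul_index]
  have hlt : 2 * orderOf a ≤ Nat.card A := by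
    rw [← Nat.card_zpowers]
    apply two_mul_card_le_of_lt
    · rw [zpowers_le]; exact haA
    · intro h
      apply hzca
      rw [h]; exact hzA
  have hma : orderOf a ≤ orderOf w := by
    omega
  -- the order of `a`
  obtain ⟨r, hr⟩ : ∃ r, orderOf a = 2 ^ r := by
    obtain ⟨k, hk⟩ := h2 a
    obtain ⟨j, -, hj⟩ := (Nat.dvd_prime_pow Nat.prime_two).mp (orderOf_dvd_of_pow_eq_one hk)
    exact ⟨j, hj⟩
  by_cases hr2 : 2 ≤ r
  · exfalso
    obtain ⟨s, rfl⟩ : ∃ s, r = s + 2 := ⟨r - 2, by omega⟩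
    -- `b a b⁻¹` is `a ^ i z ^ e`, with `i` odd
    have hpowa : a ^ (2 ^ (s + 2)) = 1 := by rw [← hr]; exact pow_orderOf_eq_one a
    have hpowz : z ^ (2 ^ (s + 1)) = 1 := by
      rw [pow_succ, pow_mul']; simp [hz2]
    have hconj : (b * a * b⁻¹) ^ (2 ^ (s + 1)) ≠ 1 := by
      rw [conj_pow]
      intro h
      have h0 : a ^ (2 ^ (s + 1)) = 1 := by
        have h1 : b * a ^ (2 ^ (s + 1)) * b⁻¹ * b = 1 * b := by rw [h]
        simpa [mul_assoc] using h1
      have := orderOf_dvd_of_pow_eq_one h0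
      rw [hr] at this
      have h3 := (Nat.pow_dvd_pow_iff_le_right (by norm_num)).mp this
      omega
    have hbab : (b * a * b⁻¹) ∈ A := hAn.conj_mem a haA b
    have hwpow : w ^ (2 ^ (s + 1)) = 1 := by
      obtain ⟨i, hi⟩ := hAform _ hbab
      have hev : ((b * a * b⁻¹) ^ (2 ^ (s + 1))) = a ^ (i * 2 ^ (s + 1)) := by
        rcases hi with hi | hi
        · rw [hi, ← zpow_natCast, ← zpow_mul]; norm_cast
        · rw [hi, (show Commute (a ^ i) z from hzc _).mul_pow, hpowz, mul_one, ← zpow_natCast,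
            ← zpow_mul]; norm_cast
      have hap : ∀ t : ℤ, a ^ ((2 * t) * 2 ^ (s + 1) : ℤ) = 1 := by
        intro t
        have : ((2 * t) * 2 ^ (s + 1) : ℤ) = (2 ^ (s + 2) : ℕ) * t := by push_cast; ring
        rw [this, zpow_mul, zpow_natCast, hpowa, one_zpow]
      obtain ⟨c, hc | hc⟩ := Int.even_or_odd' i
      · exfalso
        apply hconj
        rw [hev, hc]; exact hap c
      · -- `w = a ^ (2 c) * z ^ e`
        have hw' : w ^ (2 ^ (s + 1)) = (b * a * b⁻¹) ^ (2 ^ (s + 1)) * (a ^ (2 ^ (s + 1)))⁻¹ := by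
          have hcom : Commute (b * a * b⁻¹) a⁻¹ :=
            hAab _ hbab _ (inv_mem haA)
          rw [hw, hcom.mul_pow, inv_pow]
        rw [hw', hev, hc]
        have : ((2 * c + 1) * 2 ^ (s + 1) : ℤ) = (2 * c) * 2 ^ (s + 1) + ((2 ^ (s + 1) : ℕ) : ℤ) := by
          push_cast; ring
        rw [this, zpow_add, hap, one_mul, zpow_natCast, mul_inv_cancel]
    have h3 := orderOf_le_of_pow_eq_one (by positivity) hwpow
    rw [hr] at hma
    have : 2 ^ (s + 2) = 2 * 2 ^ (s + 1) := by ring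
    have hpos : 0 < 2 ^ (s + 1) := by positivity
    omega
  · -- `a` has order at most `2`, so `S` has order eight
    have hmQ : orderOf (π a) ∣ orderOf a := orderOf_map_dvd π a
    have hcardQ : Nat.card (S ⧸ Z) = orderOf (π a) * 2 := by
      rw [← Nat.card_zpowers, ← habar, Subgroup.card_mul_index]
    have hle : orderOf a ≤ 2 := by
      rw [hr]
      have : r ≤ 1 := by omega
      calc 2 ^ r ≤ 2 ^ 1 := Nat.pow_le_pow_right (by norm_num) this
        _ = 2 := by norm_num
    have hoa : 0 < orderOf a := by rw [hr]; positivity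
    have hm := Nat.le_of_dvd hoa hmQ
    have hS8 : Nat.card S ≤ 8 := by
      rw [hcQ, hcardQ]; omega
    have hcS'pos : Nat.card (commutator S) ≠ 1 := by
      intro h
      exact hS' ((Subgroup.card_eq_one).mp h)
    have hcS'ne : Nat.card (commutator S) ≠ 0 := Nat.card_pos.ne'
    have hS8' : Nat.card S = 8 := by omega
    -- an element of order four
    obtain ⟨x, hx⟩ : ∃ x : S, x ^ 2 ≠ 1 := by
      by_contra hcon
      push Not at hcon
      apply hS'
      rw [_root_.commutator_def, eq_bot_iff, Subgroup.commutator_le]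
      intro g _ h _
      rw [commutatorElement_def, Subgroup.mem_bot]
      have hg : g⁻¹ = g := inv_eq_of_mul_eq_one_left (by rw [← pow_two]; exact hcon g)
      have hh : h⁻¹ = h := inv_eq_of_mul_eq_one_left (by rw [← pow_two]; exact hcon h)
      rw [hg, hh]
      have := hcon (g * h)
      rw [pow_two] at this
      simpa [mul_assoc] using this
    obtain ⟨k, hk⟩ := h2 x
    obtain ⟨j, -, hj⟩ := (Nat.dvd_prime_pow Nat.prime_two).mp (orderOf_dvd_of_pow_eq_one hk)
    have hj2 : 2 ≤ j := by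
      by_contra hj2
      apply hx
      have : j ≤ 1 := by omega
      have h3 : orderOf x ∣ 2 := by
        rw [hj]
        calc 2 ^ j ∣ 2 ^ 1 := pow_dvd_pow 2 this
          _ = 2 := by norm_num
      exact orderOf_dvd_iff_pow_eq_one.mp h3
    have h4 : (4 : ℕ) ∣ orderOf x := by
      rw [hj]
      calc (4 : ℕ) = 2 ^ 2 := by norm_num
        _ ∣ 2 ^ j := pow_dvd_pow 2 hj2
    have h5 := orderOf_pow_orderOf_div (x := x) (n := 4)
      (by rw [hj]; positivity) h4
    refine ⟨x ^ (orderOf x / 4), ?_⟩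
    have h6 := Subgroup.card_mul_index (zpowers (x ^ (orderOf x / 4)))
    rw [Nat.card_zpowers, h5, hS8'] at h6
    omega

/-- The classification of finite `2`-groups with commutator quotient of order four. -/
theorem classify_of_commutator_index_four {S : Type u} [Group S] [Finite S] (h2 : IsPGroup 2 S)
    (hidx : (commutator S).index = 4) :
    Nat.card S = 4 ∨
    ((∃ k : ℕ, Nonempty (S ≃* DihedralGroup (2 ^ (k + 2)))) ∨
      (∃ k : ℕ, Nat.card S = 2 ^ (k + 4) ∧ ∃ a b : S, orderOf a = 2 ^ (k + 3) ∧ orderOf b = 2 ∧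
        b * a * b⁻¹ = a ^ (2 ^ (k + 2) - 1)) ∨
      (∃ k : ℕ, Nonempty (S ≃* QuaternionGroup (2 ^ (k + 1))))) := by
  obtain ⟨a, ha⟩ := exists_cyclic_index_two _ S rfl h2 hidx
  obtain ⟨n, hn⟩ : ∃ n, orderOf a = 2 ^ n := by
    obtain ⟨k, hk⟩ := h2 a
    obtain ⟨j, -, hj⟩ := (Nat.dvd_prime_pow Nat.prime_two).mp (orderOf_dvd_of_pow_eq_one hk)
    exact ⟨j, hj⟩
  have hcard : Nat.card S = 2 ^ (n + 1) := by
    have := Subgroup.card_mul_index (zpowers a)
    rw [Nat.card_zpowers, ha, hn] at this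
    rw [← this, pow_succ]
  have hcardS' : Nat.card S = Nat.card (commutator S) * 4 := by
    rw [← hidx, Subgroup.card_mul_index]
  have h0 : 0 < Nat.card (commutator S) := Nat.card_pos
  by_cases hn1 : n ≤ 1
  · left
    have : Nat.card S ≤ 4 := by
      rw [hcard]
      calc 2 ^ (n + 1) ≤ 2 ^ 2 := Nat.pow_le_pow_right (by norm_num) (by omega)
        _ = 4 := by norm_num
    omega
  right
  have hn2 : 2 ≤ n := by omega
  haveI hU : (zpowers a).Normal := Subgroup.normal_of_index_eq_two ha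
  have hAab : ∀ x ∈ zpowers a, ∀ y ∈ zpowers a, x * y = y * x := by
    intro x hx y hy
    obtain ⟨k, rfl⟩ := mem_zpowers_iff.mp hx
    obtain ⟨l, rfl⟩ := mem_zpowers_iff.mp hy
    exact (Commute.refl a).zpow_zpow k l
  obtain ⟨g, hg⟩ : ∃ g, g ∉ zpowers a := by
    by_contra hcon
    push Not at hcon
    have : zpowers a = ⊤ := (Subgroup.eq_top_iff' _).mpr hcon
    rw [this, Subgroup.index_top] at ha
    omega
  have hlarge : 8 ≤ Nat.card S := by
    rw [hcard]
    calc 8 = 2 ^ 3 := by norm_num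
      _ ≤ 2 ^ (n + 1) := Nat.pow_le_pow_right (by norm_num) (by omega)
  have hC : ∀ g : S, Commute g a → g ∈ zpowers a := by
    intro x hx
    by_contra hxa
    have h3 := comm_le_of_index_two ha hAab hxa ⊥ bot_le (by
      intro y hy
      obtain ⟨k, rfl⟩ := mem_zpowers_iff.mp hy
      rw [mem_bot, mul_inv_eq_one, mul_inv_eq_iff_eq_mul]
      exact (hx.zpow_right k).eq)
    have h1 : Nat.card (commutator S) = 1 := by
      rw [le_bot_iff.mp h3]; exact Subgroup.card_bot
    omega
  have hyp : n = 2 ∨ ∀ x : S, Commute x (a ^ 2) → x ∈ zpowers a := by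
    by_cases hn3 : n = 2
    · exact Or.inl hn3
    right
    intro x hx
    by_contra hxa
    set w := x * a * x⁻¹ * a⁻¹ with hw
    have hwA : w ∈ zpowers a :=
      mul_mem (hU.conj_mem a (mem_zpowers a) x) (inv_mem (mem_zpowers a))
    have hwa : Commute w a := hAab w hwA a (mem_zpowers a)
    have hpow : ∀ k : ℤ, x * a ^ k * x⁻¹ = w ^ k * a ^ k := by
      intro k
      have h1 : x * a * x⁻¹ = w * a := by rw [hw]; group
      have h2' : x * a ^ k * x⁻¹ = (x * a * x⁻¹) ^ k := by
        rw [conj_zpow]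
      rw [h2', h1, hwa.mul_zpow]
    have hw2 : w ^ 2 = 1 := by
      have h3 := hpow 2
      have h4 : x * a ^ (2 : ℤ) * x⁻¹ = a ^ (2 : ℤ) := by
        have : a ^ (2 : ℤ) = a ^ 2 := by norm_cast
        rw [this, mul_inv_eq_iff_eq_mul]
        exact hx.eq
      rw [h4] at h3
      have h5 : w ^ (2 : ℤ) = 1 := by
        exact mul_eq_right.mp h3.symm
      have : w ^ (2 : ℤ) = w ^ 2 := by norm_cast
      rwa [this] at h5
    have hS'le := comm_le_of_index_two ha hAab hxa (zpowers w) (by rw [zpowers_le]; exact hwA) (by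
      intro y hy
      obtain ⟨k, rfl⟩ := mem_zpowers_iff.mp hy
      rw [hpow k, mul_inv_cancel_right]
      exact zpow_mem (mem_zpowers w) k)
    have h5 : Nat.card (commutator S) ≤ 2 := by
      calc Nat.card (commutator S) ≤ Nat.card (zpowers w) := Subgroup.card_le_of_le hS'le
        _ = orderOf w := Nat.card_zpowers w
        _ ≤ 2 := orderOf_le_of_pow_eq_one (by norm_num) hw2
    have h6 : Nat.card S ≤ 8 := by omega
    have h7 : 2 ^ (n + 1) ≤ 2 ^ 3 := by rw [← hcard]; norm_num; omega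
    have h8 := (Nat.pow_le_pow_iff_right (by norm_num)).mp h7
    omega
  obtain ⟨hc, hcases⟩ := alt_one h2 hn hn2 hU hC hyp hg
  obtain ⟨t, rfl⟩ : ∃ t, n = t + 2 := ⟨n - 2, by omega⟩
  rcases hcases with ⟨m, ⟨e⟩⟩ | ⟨m, ⟨e⟩⟩ | ⟨n', hn', hc', x, y, hx, hy, hxy⟩
  · left
    refine ⟨t, ?_⟩
    have h1 : Nat.card (DihedralGroup m) = Nat.card S := Nat.card_congr e.toEquiv.symm
    rw [DihedralGroup.nat_card, hc] at h1
    have hm : m = 2 ^ (t + 2) := by
      have : 2 * m = 2 * 2 ^ (t + 2) := by rw [h1, pow_succ 2 (t + 2)]; ring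
      omega
    rw [← hm]
    exact ⟨e⟩
  · right; right
    refine ⟨t, ?_⟩
    have hm0 : m ≠ 0 := by
      rintro rfl
      haveI : Finite (QuaternionGroup 0) := Finite.of_equiv S e.toEquiv
      have hinj : Function.Injective (QuaternionGroup.a : ZMod (2 * 0) → QuaternionGroup 0) := by
        intro u v huv
        injection huv
      haveI : Finite (ZMod (2 * 0)) := Finite.of_injective _ hinj
      haveI : Finite ℤ := this
      exact not_finite ℤ
    haveI : NeZero m := ⟨hm0⟩
    have h1 : Nat.card (QuaternionGroup m) = Nat.card S := Nat.card_congr e.toEquiv.symm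
    rw [Nat.card_eq_fintype_card, QuaternionGroup.card, hc] at h1
    have hm : m = 2 ^ (t + 1) := by
      have : 4 * m = 4 * 2 ^ (t + 1) := by rw [h1, pow_succ 2 (t + 2), pow_succ 2 (t + 1)]; ring
      omega
    rw [← hm]
    exact ⟨e⟩
  · right; left
    obtain ⟨k, rfl⟩ : ∃ k, n' = k + 3 := ⟨n' - 3, by omega⟩
    exact ⟨k, hc', x, y, hx, hy, hxy⟩

end Cfsg.Agent.Lib.Cl
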