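import Cfsg.Agent.Lib.Cl.SelfNorm
import Mathlib

/-! # The self-normalizing criterion through an injective homomorphism -/

set_option autoImplicit false
set_option linter.unusedSectionVars false
set_option linter.unusedVariables false

namespace Cfsg.Agent.Lib.Cl.SelfNorm

open Cfsg Cfsg.FusionSystem Cfsg.Agent.Lib.Fusion

/-- The criterion for a group embedded in another group. -/
theorem isSimple_of_inj {G P : Type*} [Group G] [Finite G] [Group P] (f : G →* P) (hf : Function.Injective f)
    (A : Subgroup P) (hAM : A ≤ f.range) (hA2 : IsPGroup 2 A) (hA1 : A ≠ ⊥) (m : ℕ) (hm : m % 2 = 1)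
    (hcard : Nat.card G = Nat.card A * m)
    (hN : ∀ g ∈ f.range, (∀ s, s ∈ A ↔ g * s * g⁻¹ ∈ A) → g ∈ A)
    (hC : ∀ T : Subgroup P, T ≤ A → (∀ x ∈ T, ∀ h ∈ f.range, h * x * h⁻¹ ∈ A → h * x * h⁻¹ ∈ T) → T = ⊥ ∨ T = A)
    (S : Sylow 2 G) : (groupFusionSystem (S : Subgroup G)).IsSimple 2 := by
  classical
  haveI : Fact (Nat.Prime 2) := ⟨Nat.prime_two⟩
  have hmem : ∀ x : G, x ∈ A.comap f ↔ f x ∈ A := fun x => Iff.rfl
  have hP : IsPGroup 2 (A.comap f) := hA2.comap_of_injective f hf
  have hbij : Function.Bijective (fun x : A.comap f => (⟨f x.1, x.2⟩ : A)) := by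
    refine ⟨?_, ?_⟩
    · intro x y h
      exact Subtype.ext (hf (congrArg Subtype.val h))
    · rintro ⟨a, ha⟩
      obtain ⟨x, rfl⟩ := hAM ha
      exact ⟨⟨x, ha⟩, rfl⟩
  haveI : Finite A := Finite.of_surjective _ hbij.2
  have hcA : Nat.card (A.comap f) = Nat.card A := Nat.card_congr (Equiv.ofBijective _ hbij)
  have hidx : ¬ 2 ∣ (A.comap f).index := by
    have h1 := Subgroup.card_mul_index (A.comap f)
    rw [hcA, hcard] at h1
    have hA0 : 0 < Nat.card A := Nat.card_pos
    have h2 := Nat.eq_of_mul_eq_mul_left hA0 h1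
    rw [h2]
    omega
  have hS₀ : ((hP.toSylow hidx : Sylow 2 G) : Subgroup G) = A.comap f := rfl
  refine isSimple_of_selfNorm' (hP.toSylow hidx) ?_ ?_ ?_ S
  · rw [hS₀]
    intro h
    apply hA1
    rw [eq_bot_iff]
    intro x hx
    obtain ⟨y, rfl⟩ := hAM hx
    have h1 : y ∈ A.comap f := hx
    rw [h, Subgroup.mem_bot] at h1
    rw [h1, map_one, Subgroup.mem_bot]
  · intro g hg
    rw [hS₀] at hg ⊢
    rw [hmem]
    refine hN (f g) ⟨g, rfl⟩ fun s => ⟨fun hs => ?_, fun hs => ?_⟩
    · obtain ⟨y, rfl⟩ := hAM hs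
      have h1 := (hg y).1 hs
      rw [hmem] at h1
      simpa using h1
    · have hsM : s ∈ f.range := by
        have h1 := hAM hs
        have h2 : s = (f g)⁻¹ * (f g * s * (f g)⁻¹) * f g := by group
        rw [h2]
        exact f.range.mul_mem (f.range.mul_mem (f.range.inv_mem ⟨g, rfl⟩) h1) ⟨g, rfl⟩
      obtain ⟨y, rfl⟩ := hsM
      have h3 : g * y * g⁻¹ ∈ A.comap f := by
        rw [hmem]
        simpa using hs
      exact (hg y).2 h3
  · intro T hT hcl
    rw [hS₀] at hT hcl
    have hT' : T.map f ≤ A := by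
      rintro _ ⟨x, hx, rfl⟩
      exact hT hx
    have hm' : ∀ x : G, f x ∈ T.map f ↔ x ∈ T := by
      intro x
      constructor
      · rintro ⟨y, hy, e⟩
        have : y = x := hf e
        rwa [← this]
      · intro h
        exact ⟨x, h, rfl⟩
    have := hC (T.map f) hT' (fun x hx h hh hA => by
      obtain ⟨y, hy, rfl⟩ := hx
      obtain ⟨k, rfl⟩ := hh
      have h1 : k * y * k⁻¹ ∈ A.comap f := by
        rw [hmem]
        simpa using hA
      have h2 := hcl y hy k h1
      have h3 := (hm' _).2 h2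
      simpa using h3)
    rw [hS₀]
    rcases this with h | h
    · left
      rw [eq_bot_iff]
      intro x hx
      have h1 : f x ∈ T.map f := (hm' x).2 hx
      rw [h, Subgroup.mem_bot] at h1
      rw [Subgroup.mem_bot]
      exact hf (by rw [h1, map_one])
    · right
      refine le_antisymm hT ?_
      intro x hx
      have h1 : f x ∈ A := hx
      rw [← h] at h1
      exact (hm' x).1 h1

end Cfsg.Agent.Lib.Cl.SelfNorm
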