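import Cfsg.Agent.Lib.KnownSimple.Leech.McL.Main
import Cfsg.Agent.Lib.Cl.M22Fus
import Cfsg.Agent.Lib.Cl.SelfNormInj
import Mathlib

/-! # The `2`-fusion system of the McLaughlin group is simple -/

set_option autoImplicit false
set_option linter.unusedSectionVars false
set_option linter.unusedVariables false

namespace Cfsg.Agent.Lib.Cl.McLFus

open Cfsg Cfsg.Agent.Lib.Compute Cfsg.Agent.Lib.Golay Cfsg.Agent.Lib.M24 Cfsg.Agent.Lib.Cl.MatFus
open Cfsg.Agent.Lib.KnownSimple.Leech Cfsg.Agent.Lib.KnownSimple.PE Cfsg.Spor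

/-- The number of points. -/
local notation "NN" => Cfsg.Agent.Lib.KnownSimple.Leech.McL.N

theorem phi_inj : Function.Injective phi := by
  intro σ τ h
  apply Subtype.ext
  have key : ∀ a, σ.1.symm a = τ.1.symm a := by
    intro a
    have h1 := congrArg (fun f : Equiv.Perm LL => ((f (E8 (σ.1.symm a)) : LL) : Vec) a) h
    have h2 : e8 (σ.1.symm a) (σ.1.symm a) = e8 (σ.1.symm a) (τ.1.symm a) := h1
    by_contra hne
    simp [e8, Ne.symm hne] at h2
  ext a
  have := key (σ.1 a)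
  rw [Equiv.symm_apply_apply] at this
  have h3 := congrArg τ.1 this
  rw [Equiv.apply_symm_apply] at h3
  rw [h3]

/-- The element of the group attached to an element of `M22`. -/
noncomputable def gOf : ↥Spor.M22 →* ↥Spor.McL :=
  MonoidHom.codRestrict (phi.comp (Subgroup.inclusion KnownSimple.MathieuOut.M22_le)) Spor.McL
    (fun π => McL.phi_mem_G (π := Subgroup.inclusion KnownSimple.MathieuOut.M22_le π) π.2)

theorem Θ_eq (π : ↥Spor.M22) : McL.Θ π = McL.R.rep (gOf π) := rfl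

theorem gOf_val (π : ↥Spor.M22) : (gOf π).1 = phi (Subgroup.inclusion KnownSimple.MathieuOut.M22_le π) := rfl

theorem Θ_inj : Function.Injective McL.Θ := by
  intro x y h
  have h1 : gOf x = gOf y := McL.hinj h
  have h2 := phi_inj (congrArg Subtype.val h1)
  exact Subgroup.inclusion_injective _ h2

theorem hb0 : 2024 < NN := by norm_num

/-- The fixed point. -/
def p₀ : Fin NN := ⟨2024, hb0⟩

theorem vec_p₀ : McL.R.vec p₀ = leechU' := McL.R.vec_eq hb0 rowU'_pt (by decide +kernel)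

theorem Θ_fix (π : ↥Spor.M22) : McL.Θ π p₀ = p₀ := by
  have h1 := McL.R.rep_spec (gOf π) p₀
  rw [vec_p₀, gOf_val, (phi_fix (π := Subgroup.inclusion KnownSimple.MathieuOut.M22_le π) π.2).2.2, ← vec_p₀] at h1
  exact (McL.R.vec_inj h1).symm

theorem stab_range (g : Equiv.Perm (Fin NN)) (hg : g ∈ McL.R.rep.range) (hf : g p₀ = p₀) : g ∈ McL.Θ.range := by
  obtain ⟨g, rfl⟩ := hg
  have h1 : g.1 leechU' = leechU' := by
    have h2 := McL.R.rep_spec g p₀
    rw [hf, vec_p₀] at h2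
    exact h2
  obtain ⟨π, hπ, e⟩ := stab_M22 (McL.R.hG g.2) g.2.1.2 g.2.2 h1
  refine ⟨⟨π.1, hπ⟩, ?_⟩
  have h3 : g = gOf ⟨π.1, hπ⟩ := Subtype.ext e
  rw [h3]
  rfl

/-- The test that a point is moved by the generators. -/
noncomputable def movedChk (i : ℕ) : Bool :=
  Nat.beq i 2024 || !(allBelow (fun j => allBelow (fun c =>
    decide (vecZ McL.tab i (pc (T22.L (T22.gi j)) c) = vecZ McL.tab i c)) 24) T22.n)

set_option maxRecDepth 100000 in
theorem movedAll : allBelow movedChk NN = true := by decide +kernel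

/-- The generators. -/
noncomputable def gn (j : ℕ) (hj : j < T22.n) : ↥Spor.M22 :=
  ⟨T22.el (T22.gi j), hAM22 (Subgroup.subset_closure ⟨j, hj, rfl⟩)⟩

theorem gn_mem (j : ℕ) (hj : j < T22.n) : (gn j hj).1 ∈ T22.A := Subgroup.subset_closure ⟨j, hj, rfl⟩

theorem fix_coord (j : ℕ) (hj : j < T22.n) (p : Fin NN) (h : McL.Θ (gn j hj) p = p) (c : ℕ) (hc : c < 24) :
    vecZ McL.tab p.1 (pc (T22.L (T22.gi j)) c) = vecZ McL.tab p.1 c := by
  have h1 := McL.R.rep_spec (gOf (gn j hj)) p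
  rw [← Θ_eq, h, gOf_val] at h1
  have hcode : enc.IsCode (T22.el (T22.gi j)) (pc (T22.L (T22.gi j))) := code_el T22_OK (gi_lt T22_OK hj)
  set f := pc (T22.L (T22.gi j)) with hf
  have h2 : f c = idx ((T22.el (T22.gi j)) (pt c)) := by
    have h0 : enc.idx (pt c) = c := idx_pt hc
    have := hcode (pt c)
    rw [h0] at this
    exact this
  have h3 : f c < 24 := by
    rw [h2]
    exact idx_lt _
  have h4 : pt (f c) = (T22.el (T22.gi j)) (pt c) := by
    rw [h2, pt_idx]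
  have h5 := congrArg (fun x : LL => (x : Vec) (pt (f c))) h1
  have h6 : ((phi (Subgroup.inclusion KnownSimple.MathieuOut.M22_le (gn j hj)) (McL.R.vec p) : LL) : Vec) (pt (f c))
      = (McL.R.vec p : Vec) (pt c) := by
    show (McL.R.vec p : Vec) ((T22.el (T22.gi j)).symm (pt (f c))) = _
    rw [h4, Equiv.symm_apply_apply]
  have h7 : (McL.R.vec p : Vec) (pt c) = (McL.R.vec p : Vec) (pt (f c)) := by
    rw [← h6]
    exact h5
  rw [McL.R.vec_pt p hc, McL.R.vec_pt p h3] at h7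
  exact h7.symm

theorem moved_spec (p : Fin NN) (h : ∀ j, ∀ hj : j < T22.n, McL.Θ (gn j hj) p = p) : p = p₀ := by
  have h1 := (allBelow_iff _ _).1 movedAll p.1 p.2
  rw [movedChk, Bool.or_eq_true] at h1
  rcases h1 with h1 | h1
  · exact Fin.ext (Nat.eq_of_beq_eq_true h1)
  · exfalso
    have h2 : allBelow (fun j => allBelow (fun c =>
        decide (vecZ McL.tab p.1 (pc (T22.L (T22.gi j)) c) = vecZ McL.tab p.1 c)) 24) T22.n = true := by
      refine (allBelow_iff _ _).2 fun j hj => (allBelow_iff _ _).2 fun c hc => ?_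
      exact decide_eq_true (fix_coord j hj p (h j hj) c hc)
    rw [h2] at h1
    exact absurd h1 (by decide)

/-- The Sylow subgroup. -/
noncomputable def Ap : Subgroup (Equiv.Perm (Fin NN)) := (T22.A.subgroupOf Spor.M22).map McL.Θ

theorem mem_Ap_iff (x : ↥Spor.M22) : McL.Θ x ∈ Ap ↔ x.1 ∈ T22.A := by
  constructor
  · rintro ⟨y, hy, e⟩
    have : y = x := Θ_inj e
    rw [← this]
    exact hy
  · intro h
    exact ⟨x, h, rfl⟩

theorem Ap_le : Ap ≤ McL.Θ.range := by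
  rintro _ ⟨y, -, rfl⟩
  exact ⟨y, rfl⟩

theorem Θ_le : McL.Θ.range ≤ McL.R.rep.range := by
  rintro _ ⟨y, rfl⟩
  exact ⟨gOf y, rfl⟩

theorem card_Ap : Nat.card Ap = 128 := by
  have h1 : Nat.card Ap = Nat.card (T22.A.subgroupOf Spor.M22) :=
    (Nat.card_congr (Subgroup.equivMapOfInjective _ _ Θ_inj).toEquiv).symm
  rw [h1, ← Nat.card_congr (Subgroup.subgroupOfEquivOfLe hAM22).symm.toEquiv, card_A T22_OK]
  decide +kernel

/-- `M22` normalizers. -/
theorem norm22 (g : P24) (hg : g ∈ Spor.M22) (hn : ∀ s, s ∈ T22.A ↔ g * s * g⁻¹ ∈ T22.A) : g ∈ T22.A := by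
  obtain ⟨s, hs, hq, hf⟩ := chain_spec T22_OK (Q := fun g => g ∈ Spor.M22) (fun s g hs hg => mul_mem (hAM22 hs) hg)
    (inv := fun _ => 0) (fun _ _ _ _ => rfl) steps22 [23, 0] chain22 g hg hn (hX22 g hg)
  have h1 : s * g = 1 := hbase22 _ hq hf
  have h2 : g = s⁻¹ := eq_inv_of_mul_eq_one_right h1
  rw [h2]
  exact inv_mem hs

theorem hN_main (g : Equiv.Perm (Fin NN)) (hg : g ∈ McL.R.rep.range) (hn : ∀ s, s ∈ Ap ↔ g * s * g⁻¹ ∈ Ap) : g ∈ Ap := by
  have hfix : ∀ a ∈ Ap, a p₀ = p₀ := by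
    rintro _ ⟨y, -, rfl⟩
    exact Θ_fix y
  have h1 : g p₀ = p₀ := by
    apply moved_spec
    intro j hj
    have hb : g⁻¹ * McL.Θ (gn j hj) * g ∈ Ap := by
      rw [hn]
      have : g * (g⁻¹ * McL.Θ (gn j hj) * g) * g⁻¹ = McL.Θ (gn j hj) := by group
      rw [this, mem_Ap_iff]
      exact gn_mem j hj
    have h2 := hfix _ hb
    have h3 : McL.Θ (gn j hj) (g p₀) = g ((g⁻¹ * McL.Θ (gn j hj) * g) p₀) := by
      simp [Equiv.Perm.mul_apply]
    rw [h3, h2]
  obtain ⟨π, rfl⟩ := stab_range g hg h1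
  rw [mem_Ap_iff]
  refine norm22 π.1 π.2 fun s => ⟨fun hs => ?_, fun hs => ?_⟩
  · have hsM : s ∈ Spor.M22 := hAM22 hs
    have h2 : McL.Θ ⟨s, hsM⟩ ∈ Ap := (mem_Ap_iff _).2 hs
    have h3 := (hn _).1 h2
    rw [← map_inv, ← map_mul, ← map_mul, mem_Ap_iff] at h3
    exact h3
  · have hsM : s ∈ Spor.M22 := by
      have h2 := hAM22 hs
      have h3 : s = π.1⁻¹ * (π.1 * s * π.1⁻¹) * π.1 := by group
      rw [h3]
      exact Spor.M22.mul_mem (Spor.M22.mul_mem (Spor.M22.inv_mem π.2) h2) π.2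
    have h2 : McL.Θ (π * ⟨s, hsM⟩ * π⁻¹) ∈ Ap := (mem_Ap_iff _).2 hs
    rw [map_mul, map_mul, map_inv] at h2
    have h3 := (hn _).2 h2
    rw [mem_Ap_iff] at h3
    exact h3

theorem hC_main (T : Subgroup (Equiv.Perm (Fin NN))) (hT : T ≤ Ap)
    (hcl : ∀ x ∈ T, ∀ h ∈ McL.R.rep.range, h * x * h⁻¹ ∈ Ap → h * x * h⁻¹ ∈ T) : T = ⊥ ∨ T = Ap := by
  set T' : Subgroup P24 := (T.comap McL.Θ).map Spor.M22.subtype with hT'
  have hmem : ∀ x : ↥Spor.M22, x.1 ∈ T' ↔ McL.Θ x ∈ T := by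
    intro x
    constructor
    · rintro ⟨y, hy, e⟩
      have : y = x := Subtype.ext e
      rw [← this]
      exact hy
    · intro h
      exact ⟨x, h, rfl⟩
  have hle : T' ≤ T22.A := by
    rintro _ ⟨y, hy, rfl⟩
    exact (mem_Ap_iff y).1 (hT hy)
  have h1 := closure_spec T22_OK memM22_spec hAM22 7 (by decide +kernel) z22 T' hle (by
    rintro _ ⟨y, hy, rfl⟩ g hg hh
    have h2 : (⟨g, hg⟩ * y * (⟨g, hg⟩ : ↥Spor.M22)⁻¹).1 ∈ T' := by
      rw [hmem, map_mul, map_mul, map_inv]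
      refine hcl _ hy _ (Θ_le ⟨_, rfl⟩) ?_
      rw [← map_inv, ← map_mul, ← map_mul, mem_Ap_iff]
      exact hh
    exact h2)
  rcases h1 with h1 | h1
  · left
    rw [eq_bot_iff]
    intro x hx
    obtain ⟨y, rfl⟩ := Ap_le (hT hx)
    have h2 : y.1 ∈ T' := (hmem y).2 hx
    rw [h1, Subgroup.mem_bot] at h2
    have h3 : y = 1 := Subtype.ext h2
    rw [h3, map_one, Subgroup.mem_bot]
  · right
    refine le_antisymm hT ?_
    intro x hx
    obtain ⟨y, rfl⟩ := Ap_le hx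
    have h2 : y.1 ∈ T22.A := (mem_Ap_iff y).1 hx
    rw [← h1] at h2
    exact (hmem y).1 h2

/-- The `2`-fusion system of the McLaughlin group is simple. -/
theorem mcl_isSimple {G : Type*} [Group G] [Finite G] (hG : IsoMcL G) (S : Sylow 2 G) :
    (groupFusionSystem (S : Subgroup G)).IsSimple 2 := by
  obtain ⟨e⟩ := hG
  set f : G →* Equiv.Perm (Fin NN) := McL.R.rep.comp e.toMonoidHom with hf
  have hfi : Function.Injective f := McL.hinj.comp e.injective
  have hr : f.range = McL.R.rep.range := by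
    ext x
    constructor
    · rintro ⟨y, rfl⟩
      exact ⟨e y, rfl⟩
    · rintro ⟨y, rfl⟩
      exact ⟨e.symm y, by simp [hf]⟩
  have hcG : Nat.card G = 898128000 := by
    rw [Nat.card_congr e.toEquiv, Nat.card_congr (MonoidHom.ofInjective McL.hinj).toEquiv]
    exact McL.card_H
  refine Cfsg.Agent.Lib.Cl.SelfNorm.isSimple_of_inj f hfi Ap ?_ ?_ ?_ 7016625 (by norm_num) ?_ ?_ ?_ S
  · rw [hr]
    exact Ap_le.trans Θ_le
  · exact IsPGroup.of_card (n := 7) (by rw [card_Ap]; norm_num)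
  · intro h0
    have h1 := card_Ap
    rw [h0, Subgroup.card_bot] at h1
    norm_num at h1
  · rw [hcG, card_Ap]
  · intro g hg
    rw [hr] at hg
    exact hN_main g hg
  · intro T hT hcl
    rw [hr] at hcl
    exact hC_main T hT hcl

end Cfsg.Agent.Lib.Cl.McLFus
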