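import Cfsg.Agent.Lib.Cl.SuperAb
import Cfsg.Agent.S1447
import Cfsg.Agent.S1896
import Cfsg.Agent.S5234
import Cfsg.Agent.S5212
import Mathlib

/-! # Metacyclic groups: chains from coprime actions -/

set_option autoImplicit false
set_option linter.unusedSectionVars false
set_option linter.unusedVariables false

namespace Cfsg.Agent.Lib.Cl.SuperSol

section Chain

variable {G : Type*} [Group G] [Finite G] {p : ℕ} [hpp : Fact p.Prime]

/-- A coprime group of automorphisms preserving a normal cyclic subgroup with cyclic quotient. -/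
theorem coprime_of_invariant_cyclic (hG : IsPGroup p G) (C : Subgroup G) [hCn : C.Normal] (hC : IsCyclic C) (x₀ : G)
    (hq : ∀ y : G, ∃ m : ℕ, ∃ c ∈ C, y = c * x₀ ^ m) (H : Subgroup (MulAut G)) (hH : (Nat.card H).Coprime p)
    (hinv : ∀ h ∈ H, ∀ c ∈ C, h c ∈ C) : IsMulCommutative H ∧ ∀ h ∈ H, h ^ (p - 1) = 1 := by
  let V : ℕ → Subgroup G := fun j => if j = 0 then ⊥ else if j = 1 then C else ⊤
  have hV0 : V 0 = ⊥ := rfl
  have hV1 : V 1 = C := rfl
  have hV2 : ∀ j, V (j + 2) = ⊤ := fun j => rfl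
  haveI hN : ∀ j, (V j).Normal := by
    intro j
    match j with
    | 0 => rw [hV0]; infer_instance
    | 1 => rw [hV1]; exact hCn
    | j + 2 => rw [hV2]; infer_instance
  have hmono : ∀ j, V j ≤ V (j + 1) := by
    intro j
    match j with
    | 0 => rw [hV0]; exact bot_le
    | 1 => rw [hV2]; exact le_top
    | j + 2 => rw [hV2]; exact le_top
  obtain ⟨h1, h2⟩ := coprime_aut (p := p) (V := V) (n := 2) hG hV0 (hV2 0) hmono (fun j hj => by
      match j, hj with
      | 0, _ =>
        obtain ⟨g, hg⟩ := IsCyclic.exists_monoid_generator (α := C)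
        refine ⟨g, by rw [hV1]; exact g.2, fun y hy => ?_⟩
        rw [hV1] at hy
        obtain ⟨m, hm⟩ := Submonoid.mem_powers_iff _ _ |>.1 (hg ⟨y, hy⟩)
        refine ⟨m, ?_⟩
        have h3 : y = (g : G) ^ m := by
          have := congrArg Subtype.val hm
          simpa using this.symm
        rw [h3, QuotientGroup.mk_pow]
      | 1, _ =>
        refine ⟨x₀, by rw [hV2]; trivial, fun y _ => ?_⟩
        obtain ⟨m, c, hc, rfl⟩ := hq y
        refine ⟨m, ?_⟩
        rw [QuotientGroup.mk_mul, QuotientGroup.mk_pow]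
        have h3 : ((c : G) : G ⧸ V 1) = 1 := (QuotientGroup.eq_one_iff c).2 (by rw [hV1]; exact hc)
        rw [h3, one_mul]) H hH (fun h hh j y hy => by
      match j with
      | 0 =>
        rw [hV0, Subgroup.mem_bot] at hy ⊢
        rw [hy, map_one]
      | 1 =>
        rw [hV1] at hy ⊢
        exact hinv h hh y hy
      | j + 2 =>
        rw [hV2]
        trivial)
  exact ⟨⟨⟨fun a b => Subtype.ext (h1 a a.2 b b.2)⟩⟩, h2⟩

open Cfsg

/-- A metacyclic group of exponent dividing `p` has order at most `p²`. -/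
theorem card_le_of_exp {E : Type*} [Group E] [Finite E] {p : ℕ} (hp : 0 < p) (hm : IsMetacyclic E)
    (h : ∀ x : E, x ^ p = 1) : Nat.card E ≤ p ^ 2 := by
  classical
  obtain ⟨N, hN, h1, h2⟩ := hm
  have key : ∀ (A : Type _) [Group A] [Finite A] [IsCyclic A], (∀ x : A, x ^ p = 1) → Nat.card A ≤ p := by
    intro A _ _ _ hA
    haveI := Fintype.ofFinite A
    have h3 := IsCyclic.card_pow_eq_one_le (α := A) hp
    rw [Nat.card_eq_fintype_card]
    have h4 : (Finset.univ.filter fun a : A => a ^ p = 1) = Finset.univ := by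
      ext a; simp [hA a]
    rw [h4] at h3
    exact h3
  have a1 : Nat.card N ≤ p := key N fun x => Subtype.ext (by simpa using h x)
  have a2 : Nat.card (E ⧸ N) ≤ p := key (E ⧸ N) fun x => by
    induction x using QuotientGroup.induction_on with
    | H y => rw [← QuotientGroup.mk_pow, h y]; rfl
  rw [Subgroup.card_eq_card_quotient_mul_card_subgroup N, pow_two]
  exact Nat.mul_le_mul a2 a1

/-- A metacyclic abelian `p`-group not homocyclic of rank two has no homocyclic rank-two factor. -/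
theorem noSplit_of_metacyclic {G : Type*} [Group G] [Finite G] {p : ℕ} [hpp : Fact p.Prime] (hG : IsPGroup p G)
    (hm : IsMetacyclic G)
    (hno : ¬ ∃ n : ℕ, 0 < n ∧ Nonempty (G ≃* Multiplicative (ZMod (p ^ n)) × Multiplicative (ZMod (p ^ n)))) :
    ¬ ∃ (n : ℕ) (H : Type) (_ : CommGroup H), 0 < n ∧
      Nonempty (G ≃* (Multiplicative (ZMod (p ^ n)) × Multiplicative (ZMod (p ^ n))) × H) := by
  classical
  rintro ⟨n, K, _, hn, ⟨φ⟩⟩
  have hp := hpp.out
  by_cases hK : Subsingleton K
  · haveI : Unique K := ⟨⟨1⟩, fun a => Subsingleton.elim _ _⟩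
    exact hno ⟨n, hn, ⟨φ.trans MulEquiv.prodUnique⟩⟩
  · haveI hKn : Nontrivial K := not_subsingleton_iff_nontrivial.1 hK
    haveI : NeZero (p ^ n) := ⟨pow_ne_zero _ hp.ne_zero⟩
    haveI hfin : Finite ((Multiplicative (ZMod (p ^ n)) × Multiplicative (ZMod (p ^ n))) × K) := Finite.of_equiv G φ.toEquiv
    haveI hKf : Finite K := Finite.of_injective (fun k : K => (((1, 1) : Multiplicative (ZMod (p ^ n)) × Multiplicative (ZMod (p ^ n))), k))
      (fun a b h => (Prod.ext_iff.1 h).2)
    have hKp : IsPGroup p K := IsPGroup.of_injective hG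
      (φ.symm.toMonoidHom.comp (MonoidHom.inr (Multiplicative (ZMod (p ^ n)) × Multiplicative (ZMod (p ^ n))) K))
      (fun a b h => by
        have := φ.symm.injective h
        exact (Prod.ext_iff.1 this).2)
    obtain ⟨c, hc⟩ : ∃ c : Multiplicative (ZMod (p ^ n)), orderOf c = p := by
      apply exists_prime_orderOf_dvd_card' p
      rw [Nat.card_eq_fintype_card, Fintype.card_multiplicative, ZMod.card]
      exact dvd_pow_self p hn.ne'
    obtain ⟨t, ht⟩ : ∃ t : K, orderOf t = p := by
      apply exists_prime_orderOf_dvd_card' p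
      obtain ⟨k, hk⟩ := IsPGroup.iff_card.1 hKp
      rw [hk]
      have : k ≠ 0 := by
        rintro rfl
        have := Finite.one_lt_card (α := K)
        rw [pow_zero] at hk
        omega
      exact dvd_pow_self p this
    let W : Subgroup ((Multiplicative (ZMod (p ^ n)) × Multiplicative (ZMod (p ^ n))) × K) :=
      ((Subgroup.zpowers c).prod (Subgroup.zpowers c)).prod (Subgroup.zpowers t)
    have hWm : IsMetacyclic W := Cfsg.Agent.Lib.ClassSizes.Metacyclic.isMetacyclic_subgroup
      (Cfsg.Agent.Lib.ClassSizes.Metacyclic.isMetacyclic_of_equiv φ hm) W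
    have hWe : ∀ x : W, x ^ p = 1 := by
      rintro ⟨⟨⟨a, b⟩, k⟩, hx⟩
      have h1 := Subgroup.mem_prod.1 hx
      have h2 := Subgroup.mem_prod.1 h1.1
      obtain ⟨i, hi⟩ := Subgroup.mem_zpowers_iff.1 h2.1
      obtain ⟨j, hj⟩ := Subgroup.mem_zpowers_iff.1 h2.2
      obtain ⟨l, hl⟩ := Subgroup.mem_zpowers_iff.1 h1.2
      have ea : ∀ (A : Type _) [Group A] (y : A) (m : ℤ), y ^ p = 1 → (y ^ m) ^ p = 1 := by
        intro A _ y m hy
        rw [← zpow_natCast, ← zpow_mul, mul_comm, zpow_mul, zpow_natCast, hy, one_zpow]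
      have e1 : a ^ p = 1 := by
        have := ea _ c i (orderOf_dvd_iff_pow_eq_one.1 (dvd_of_eq hc))
        rwa [hi] at this
      have e2 : b ^ p = 1 := by
        have := ea _ c j (orderOf_dvd_iff_pow_eq_one.1 (dvd_of_eq hc))
        rwa [hj] at this
      have e3 : k ^ p = 1 := by
        have := ea _ t l (orderOf_dvd_iff_pow_eq_one.1 (dvd_of_eq ht))
        rwa [hl] at this
      apply Subtype.ext
      show ((a, b), k) ^ p = 1
      rw [Prod.pow_mk, Prod.pow_mk, e1, e2, e3]
      rfl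
    have hcard : Nat.card W = p ^ 3 := by
      have h1 : Nat.card W = Nat.card (Subgroup.zpowers c) * Nat.card (Subgroup.zpowers c) * Nat.card (Subgroup.zpowers t) := by
        rw [Nat.card_congr (Subgroup.prodEquiv _ _).toEquiv, Nat.card_prod,
          Nat.card_congr (Subgroup.prodEquiv _ _).toEquiv, Nat.card_prod]
      rw [h1, Nat.card_zpowers, Nat.card_zpowers, hc, ht]
      ring
    have := card_le_of_exp hp.pos hWm hWe
    rw [hcard] at this
    have h3 := Nat.pow_lt_pow_right hp.one_lt (show 2 < 3 by norm_num)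
    omega

open scoped commutatorElement in
/-- Coprime automorphism groups of nonabelian metacyclic groups for odd `p`. -/
theorem cond_of_metacyclic_nonab {G : Type*} [Group G] [Finite G] {p : ℕ} [hpp : Fact p.Prime] (hG : IsPGroup p G)
    (hm : IsMetacyclic G) (hp : p ≠ 2) (hnab : ¬ IsMulCommutative G) (H : Subgroup (MulAut G))
    (hH : (Nat.card H).Coprime p) : IsMulCommutative H ∧ ∀ h ∈ H, h ^ (p - 1) = 1 := by
  classical
  haveI hfa : Finite (MulAut G) := Cfsg.Agent.Lib.Fusion.finite_mulAut G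
  haveI hfX : Finite (G ⋊[H.subtype] H) := Finite.of_equiv (G × H) SemidirectProduct.equivProd.symm
  let inl : G →* G ⋊[H.subtype] H := SemidirectProduct.inl
  let inr : H →* G ⋊[H.subtype] H := SemidirectProduct.inr
  have hinl : Function.Injective inl := SemidirectProduct.inl_injective
  have hinr : Function.Injective inr := SemidirectProduct.inr_injective
  have hconj : ∀ (h : H) (g : G), inr h * inl g * (inr h)⁻¹ = inl ((h : MulAut G) g) := by
    intro h g
    rw [← map_inv]
    exact (SemidirectProduct.inl_aut h g).symm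
  let R : Subgroup (G ⋊[H.subtype] H) := inl.range
  let A : Subgroup (G ⋊[H.subtype] H) := inr.range
  haveI hRn : R.Normal := by
    show (SemidirectProduct.inl : G →* G ⋊[H.subtype] H).range.Normal
    rw [SemidirectProduct.range_inl_eq_ker_rightHom]
    infer_instance
  have hR : IsPGroup p R := IsPGroup.of_equiv hG (MonoidHom.ofInjective hinl)
  have hRm : IsMetacyclic R := Cfsg.Agent.Lib.ClassSizes.Metacyclic.isMetacyclic_of_equiv (MonoidHom.ofInjective hinl) hm
  have hA : A ≤ Subgroup.normalizer (R : Set (G ⋊[H.subtype] H)) := by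
    rw [Subgroup.normalizer_eq_top_iff.2 hRn]
    exact le_top
  have hcop : (Nat.card A).Coprime p := by
    rw [← Nat.card_congr (MonoidHom.ofInjective hinr).toEquiv]
    exact hH
  have hRnab : ¬ IsMulCommutative R := by
    intro hc
    apply hnab
    refine ⟨⟨fun a b => hinl ?_⟩⟩
    rw [map_mul, map_mul]
    exact congrArg Subtype.val (hc.is_comm.comm ⟨inl a, a, rfl⟩ ⟨inl b, b, rfl⟩)
  obtain ⟨-, hsup, -, h4⟩ := Cfsg.Agent.S1447.result p hp R A hR hRm hA hcop
  by_cases hcent : A ≤ Subgroup.centralizer (R : Set (G ⋊[H.subtype] H))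
  · have htriv : ∀ h : H, (h : MulAut G) = 1 := by
      intro h
      ext g
      have h1 := hconj h g
      have h2 : inr h * inl g = inl g * inr h :=
        (Subgroup.mem_centralizer_iff.1 (hcent ⟨h, rfl⟩) (inl g) ⟨g, rfl⟩).symm
      rw [h2, mul_inv_cancel_right] at h1
      exact (hinl h1).symm
    refine ⟨⟨⟨fun a b => Subtype.ext ?_⟩⟩, fun h hh => ?_⟩
    · show (a : MulAut G) * (b : MulAut G) = (b : MulAut G) * (a : MulAut G)
      rw [htriv a, htriv b]
    · have h5 : h = 1 := htriv ⟨h, hh⟩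
      rw [h5, one_pow]
  · obtain ⟨-, hcyc, -, hcyc2, -⟩ := h4 hRnab hcent
    let C : Subgroup G := (⁅R, A⁆ : Subgroup (G ⋊[H.subtype] H)).comap inl
    let D : Subgroup G := (R ⊓ Subgroup.centralizer (A : Set (G ⋊[H.subtype] H))).comap inl
    haveI hCn : C.Normal := by
      constructor
      intro c hc g
      show inl (g * c * g⁻¹) ∈ (⁅R, A⁆ : Subgroup (G ⋊[H.subtype] H))
      rw [map_mul, map_mul, map_inv]
      exact (Subgroup.mem_normalizer_iff.1 (Cfsg.Agent.Lib.Hall.le_normalizer_commutator_left A R (⟨g, rfl⟩ : inl g ∈ R)) (inl c)).1 hc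
    have hCc : IsCyclic C := isCyclic_of_injective
      ((inl.comp C.subtype).codRestrict (⁅R, A⁆ : Subgroup (G ⋊[H.subtype] H)) (fun c => c.2))
      (fun a b hab => Subtype.ext (hinl (congrArg Subtype.val hab)))
    have hDc : IsCyclic D := isCyclic_of_injective
      ((inl.comp D.subtype).codRestrict (R ⊓ Subgroup.centralizer (A : Set (G ⋊[H.subtype] H))) (fun c => c.2))
      (fun a b hab => Subtype.ext (hinl (congrArg Subtype.val hab)))
    have hCD : C ⊔ D = ⊤ := by
      apply Subgroup.map_injective hinl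
      rw [Subgroup.map_sup, Subgroup.map_comap_eq_self, Subgroup.map_comap_eq_self, hsup, ← MonoidHom.range_eq_map]
      · exact inf_le_left
      · exact Cfsg.Agent.Lib.Hall.commutator_le_of_normalizes hA
    obtain ⟨g₀, hg₀⟩ := IsCyclic.exists_monoid_generator (α := D)
    refine coprime_of_invariant_cyclic hG C hCc (g₀ : G) (fun y => ?_) H hH (fun h hh c hc => ?_)
    · have hy : y ∈ ((C ⊔ D : Subgroup G) : Set G) := by rw [hCD]; trivial
      rw [Subgroup.normal_mul] at hy
      obtain ⟨c, hc, d, hd, rfl⟩ := Set.mem_mul.1 hy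
      obtain ⟨m, hm'⟩ := Submonoid.mem_powers_iff _ _ |>.1 (hg₀ ⟨d, hd⟩)
      refine ⟨m, c, hc, ?_⟩
      have := congrArg Subtype.val hm'
      simp only [SubmonoidClass.coe_pow] at this
      rw [this]
    · show inl (h c) ∈ (⁅R, A⁆ : Subgroup (G ⋊[H.subtype] H))
      have h1 := hconj ⟨h, hh⟩ c
      rw [show (((⟨h, hh⟩ : H) : MulAut G)) = h from rfl] at h1
      rw [← h1]
      exact (Subgroup.mem_normalizer_iff.1 (Cfsg.Agent.Lib.Hall.le_normalizer_commutator_right hA (⟨⟨h, hh⟩, rfl⟩ : inr ⟨h, hh⟩ ∈ A)) (inl c)).1 hc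

/-- The coprime condition for metacyclic `p`-groups, `p` odd. -/
theorem cond_of_metacyclic_odd {G : Type*} [Group G] [Finite G] {p : ℕ} [hpp : Fact p.Prime] (hG : IsPGroup p G)
    (hm : IsMetacyclic G) (hp : p ≠ 2)
    (hno : ¬ ∃ n : ℕ, 0 < n ∧ Nonempty (G ≃* Multiplicative (ZMod (p ^ n)) × Multiplicative (ZMod (p ^ n))))
    (H : Subgroup (MulAut G)) (hH : (Nat.card H).Coprime p) : IsMulCommutative H ∧ ∀ h ∈ H, h ^ (p - 1) = 1 := by
  by_cases hab : IsMulCommutative G
  · letI : CommGroup G := { (inferInstance : Group G) with mul_comm := hab.is_comm.comm }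
    exact cond_of_noSplit hG (noSplit_of_metacyclic hG hm hno) H hH
  · exact cond_of_metacyclic_nonab hG hm hp hab H hH

end Chain

section Back

open Cfsg Cfsg.FusionSystem Cfsg.Agent.Lib.Fusion

variable {Ω : Type*} [Group Ω] {S : Subgroup Ω}

/-- A system with only inner maps has `S` normal. -/
theorem isNormal_of_inner (F : FusionSystem S) (h : ∀ P : Subgroup Ω, F.Hom P = (innerFusionSystem S).Hom P) :
    F.IsNormal S := by
  refine ⟨le_rfl, fun P φ hφ => ?_⟩
  rw [h P] at hφ
  obtain ⟨hP, g, hg, hv⟩ := mem_inner_hom.1 hφ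
  refine ⟨conjHom (P ⊔ S) g, F.conj_mem (sup_le hP le_rfl) hg, fun x => ?_, ?_⟩
  · rw [hv x]
    rfl
  · ext y
    constructor
    · rintro ⟨⟨z, hz⟩, hzS, rfl⟩
      exact S.mul_mem (S.mul_mem hg hzS) (S.inv_mem hg)
    · intro hy
      refine ⟨⟨g⁻¹ * y * g, Subgroup.mem_sup_right (S.mul_mem (S.mul_mem (S.inv_mem hg) hy) hg)⟩,
        S.mul_mem (S.mul_mem (S.inv_mem hg) hy) hg, ?_⟩
      show g * (g⁻¹ * y * g) * g⁻¹ = y
      group

theorem dih_one_comm : ∀ a b : DihedralGroup 1, a * b = b * a := by decide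

theorem quat_one_comm : ∀ a b : QuaternionGroup 1, a * b = b * a := by decide

/-- `(⟸)` for `p = 2`. -/
theorem back_two [Finite S] (hS : IsPGroup 2 S) (hm : IsMetacyclic S)
    (hno : ¬ ∃ n : ℕ, 0 < n ∧ Nonempty (S ≃* Multiplicative (ZMod (2 ^ n)) × Multiplicative (ZMod (2 ^ n))))
    (hd : ¬ ∃ n : ℕ, 2 ≤ n ∧ Nonempty (S ≃* DihedralGroup n)) (hsd : ¬ IsQuasiDihedral S)
    (hq : ¬ ∃ n : ℕ, 2 ≤ n ∧ Nonempty (S ≃* QuaternionGroup n)) :
    (∀ F : FusionSystem S, F.IsSaturated 2 → F.IsNormal S) ∧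
      ∀ H : Subgroup (MulAut S), (Nat.card H).Coprime 2 → IsMulCommutative H ∧ ∀ h ∈ H, h ^ (2 - 1) = 1 := by
  constructor
  · intro F hF
    by_cases hab : ∀ x ∈ S, ∀ y ∈ S, x * y = y * x
    · exact abelian_isNormal hS hF hab
    · have hcomm : ¬ ∀ a b : S, a * b = b * a := fun h => hab fun x hx y hy =>
        congrArg Subtype.val (h ⟨x, hx⟩ ⟨y, hy⟩)
      refine isNormal_of_inner F (Cfsg.Agent.S5212.result hS F hF hm ?_ ?_ ?_ hsd)
      · rintro ⟨n, k, ⟨e⟩⟩
        apply hcomm
        intro a b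
        apply e.injective
        rw [map_mul, map_mul]
        exact mul_comm _ _
      · rintro ⟨m, ⟨e⟩⟩
        match m, e with
        | 0, e =>
          have := Nat.card_congr e.toEquiv
          rw [DihedralGroup.nat_card] at this
          have h1 : 0 < Nat.card S := Nat.card_pos
          omega
        | 1, e =>
          apply hcomm
          intro a b
          apply e.injective
          rw [map_mul, map_mul]
          exact dih_one_comm _ _
        | m + 2, e => exact hd ⟨m + 2, by omega, ⟨e⟩⟩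
      · rintro ⟨m, ⟨e⟩⟩
        match m, e with
        | 0, e =>
          haveI : Finite (QuaternionGroup 0) := Finite.of_equiv S e.toEquiv
          have h1 : Finite ℤ := Finite.of_injective (fun i : ℤ => (QuaternionGroup.a (show ZMod (2 * 0) from i) : QuaternionGroup 0))
            (fun a b h => QuaternionGroup.a.inj h)
          exact not_finite ℤ
        | 1, e =>
          apply hcomm
          intro a b
          apply e.injective
          rw [map_mul, map_mul]
          exact quat_one_comm _ _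
        | m + 2, e => exact hq ⟨m + 2, by omega, ⟨e⟩⟩
  · intro H hH
    have hA : IsPGroup 2 (MulAut S) := by
      by_contra hA
      rcases Cfsg.Agent.S1896.result hS hm hA with ⟨⟨e⟩⟩ | ⟨n, ⟨e⟩⟩
      · exact hq ⟨2, le_rfl, ⟨e⟩⟩
      · rcases Nat.eq_zero_or_pos n with rfl | hn
        · apply hA
          haveI h0 : Subsingleton (Multiplicative (ZMod (2 ^ 0))) := inferInstanceAs (Subsingleton (ZMod 1))
          have h1 : Subsingleton S := e.injective.subsingleton
          refine IsPGroup.of_card (n := 0) ?_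
          rw [pow_zero, Nat.card_eq_one_iff_unique]
          exact ⟨⟨fun a b => by
            ext x
            exact congrArg _ (Subsingleton.elim _ _)⟩, ⟨1⟩⟩
        · exact hno ⟨n, hn, ⟨e⟩⟩
    obtain ⟨k, hk⟩ := IsPGroup.iff_card.1 (hA.to_subgroup H)
    have hk0 : k = 0 := by
      by_contra h0
      rw [hk] at hH
      have := Nat.Coprime.coprime_dvd_left (dvd_pow_self 2 h0) hH
      simp at this
    rw [hk0, pow_zero] at hk
    have hsub : Subsingleton H := (Nat.card_eq_one_iff_unique.1 hk).1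
    refine ⟨⟨⟨fun a b => Subsingleton.elim _ _⟩⟩, fun h hh => ?_⟩
    have : (⟨h, hh⟩ : H) = 1 := Subsingleton.elim _ _
    have h5 : h = 1 := congrArg Subtype.val this
    rw [h5, one_pow]

/-- `(⟸)` in general. -/
theorem back_all [Finite S] (p : ℕ) [Fact p.Prime] (hS : IsPGroup p S) (hm : IsMetacyclic S)
    (h : ¬ ((∃ n : ℕ, 0 < n ∧ Nonempty (S ≃* Multiplicative (ZMod (p ^ n)) × Multiplicative (ZMod (p ^ n)))) ∨
      (p = 2 ∧ ((∃ n : ℕ, 2 ≤ n ∧ Nonempty (S ≃* DihedralGroup n)) ∨ IsQuasiDihedral S ∨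
        (∃ n : ℕ, 2 ≤ n ∧ Nonempty (S ≃* QuaternionGroup n)))))) :
    (∀ F : FusionSystem S, F.IsSaturated p → F.IsNormal S) ∧
      ∀ H : Subgroup (MulAut S), (Nat.card H).Coprime p → IsMulCommutative H ∧ ∀ h ∈ H, h ^ (p - 1) = 1 := by
  push Not at h
  obtain ⟨h1, h2⟩ := h
  by_cases hp : p = 2
  · subst hp
    obtain ⟨h3, h4, h5⟩ := h2 rfl
    refine back_two hS hm ?_ ?_ h4 ?_
    · rintro ⟨n, hn, ⟨e⟩⟩
      exact (h1 n hn).false e
    · rintro ⟨n, hn, ⟨e⟩⟩
      exact (h3 n hn).false e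
    · rintro ⟨n, hn, ⟨e⟩⟩
      exact (h5 n hn).false e
  · refine ⟨fun F hF => ?_, fun H hH => ?_⟩
    · exact Cfsg.Agent.S5234.result p hS F hF S ⟨le_rfl, fun R _ φ hφ x => (F.le_of_mem hφ).2 x⟩ hp hm
    · refine cond_of_metacyclic_odd hS hm hp ?_ H hH
      rintro ⟨n, hn, ⟨e⟩⟩
      exact (h1 n hn).false e

end Back

end Cfsg.Agent.Lib.Cl.SuperSol
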