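import Cfsg.Agent.Lib.Cl.MetaBack
import Cfsg.Agent.Lib.Fusion.RealizedSimple
import Cfsg.Agent.Lib.Fusion.ModelUse
import Mathlib

/-! # Metacyclic groups with non-normal realized systems -/

set_option autoImplicit false
set_option linter.unusedSectionVars false
set_option linter.unusedVariables false

namespace Cfsg.Agent.Lib.Cl.SuperSol

section Fwd

open Cfsg Cfsg.FusionSystem Cfsg.Agent.Lib.Fusion

variable {Ω : Type*} [Group Ω] {S : Subgroup Ω}

/-- Every injective homomorphism realizes a system. -/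
theorem exists_realized {G : Type*} [Group G] (ι : S →* G) (hι : Function.Injective ι) :
    ∃ F : FusionSystem S, F.IsRealizedBy ι := by
  have hT : preimageAlong ι (⊤ : Subgroup G) = S := by
    apply le_antisymm (preimageAlong_le _)
    intro x hx
    exact mem_preimageAlong.2 ⟨hx, trivial⟩
  obtain ⟨E, hE⟩ := cast_fusion hT (pullSys ι hι (⊤ : Subgroup G))
  refine ⟨E, hι, fun P hP φ hφ => ?_⟩
  rw [hE, mem_pullSys]
  constructor
  · rintro ⟨-, hv, h, -, H⟩
    exact ⟨h, fun x => H x (hP x.2) (hφ x)⟩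
  · rintro ⟨g, hg⟩
    refine ⟨by rw [hT]; exact hP, fun x => by rw [hT]; exact hφ x, g, trivial, fun x hx hy => hg x⟩

/-- Squares transfer along conjugation in the realizing group when `S` is normal in the system. -/
theorem square_of_conj {F : FusionSystem S} {G : Type*} [Group G] {ι : S →* G} (hreal : F.IsRealizedBy ι)
    (hN : F.IsNormal S) {a b u : S} (hu : u * u = a) {g : G} (hg : g * ι a * g⁻¹ = ι b) : ∃ v : S, v * v = b := by
  let P : Subgroup Ω := Subgroup.zpowers (a : Ω)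
  have hP : P ≤ S := by
    rw [Subgroup.zpowers_le]
    exact a.2
  have hv : ∀ x : P, g * ι ⟨x, hP x.2⟩ * g⁻¹ ∈ ι.range := by
    rintro ⟨x, hx⟩
    obtain ⟨k, rfl⟩ := Subgroup.mem_zpowers_iff.1 hx
    refine ⟨b ^ k, ?_⟩
    have h1 : (⟨(a : Ω) ^ k, hP hx⟩ : S) = a ^ k := Subtype.ext (by simp)
    show ι (b ^ k) = g * ι ⟨(a : Ω) ^ k, hP hx⟩ * g⁻¹
    rw [h1, map_zpow, map_zpow, ← hg]
    simp [conj_zpow]
  obtain ⟨φ, hφ, hφv⟩ := IsRealizedBy.exists_hom hreal hP g hv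
  obtain ⟨ψ, hψ, hext, -⟩ := hN.2 P φ hφ
  have hψS := F.le_of_mem hψ
  let u' : ↥(P ⊔ S) := ⟨u, Subgroup.mem_sup_right u.2⟩
  refine ⟨⟨ψ u', hψS.2 u'⟩, Subtype.ext ?_⟩
  have h2 : u' * u' = Subgroup.inclusion le_sup_left (⟨a, Subgroup.mem_zpowers _⟩ : P) := by
    apply Subtype.ext
    show (u : Ω) * u = a
    rw [← hu]
    rfl
  show ψ u' * ψ u' = b
  rw [← map_mul, h2, hext]
  obtain ⟨hx, hy⟩ := hφv ⟨a, Subgroup.mem_zpowers _⟩
  have h3 : (⟨((⟨a, Subgroup.mem_zpowers _⟩ : P) : Ω), hP (Subgroup.mem_zpowers _)⟩ : S) = a := rfl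
  rw [show (⟨(((⟨a, Subgroup.mem_zpowers _⟩ : P) : Ω)), hP ((⟨a, Subgroup.mem_zpowers _⟩ : P)).2⟩ : S) = a from rfl, hg] at hy
  exact congrArg Subtype.val (hreal.1 hy)

/-- Non-normality from a conjugation of a square to a non-square. -/
theorem not_all_normal_of_conj [Finite S] {p : ℕ} [Fact p.Prime] (hS : IsPGroup p S) {G : Type*} [Group G] [Finite G]
    (ι : S →* G) (hι : Function.Injective ι) (hsyl : ¬ p ∣ ι.range.index) {a b u : S} (hu : u * u = a)
    (hb : ∀ v : S, v * v ≠ b) {g : G} (hg : g * ι a * g⁻¹ = ι b) :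
    ¬ ∀ F : FusionSystem S, F.IsSaturated p → F.IsNormal S := by
  intro h
  obtain ⟨F, hF⟩ := exists_realized ι hι
  have hP : IsPGroup p ι.range := IsPGroup.of_equiv hS (MonoidHom.ofInjective hι)
  have hsat := isSaturated_of_realized hS hF ⟨hP.toSylow hsyl, rfl⟩
  obtain ⟨v, hv⟩ := square_of_conj hF (h F hsat) hu hg
  exact hb v hv

end Fwd

end Cfsg.Agent.Lib.Cl.SuperSol
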