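import Cfsg.Agent.Lib.Cl.MetaFwd
import Cfsg.Agent.Lib.Classical.QuatSL2
import Mathlib

/-! # Dihedral and quaternion groups carry non-normal realized systems -/

set_option autoImplicit false
set_option linter.unusedSectionVars false
set_option linter.unusedVariables false

namespace Cfsg.Agent.Lib.Cl.SuperSol

section SLdata

open Matrix Cfsg.Agent.Lib.Classical.Tori

variable {F : Type*} [Field F]

/-- The element `w` of `SL₂`. -/
def wSL : SpecialLinearGroup (Fin 2) F := ⟨!![0, 1; -1, 0], by simp [Matrix.det_fin_two]⟩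

theorem wSL_split (u : Fˣ) : splitHom u * (wSL * splitHom u) = (wSL : SpecialLinearGroup (Fin 2) F) := by
  apply Subtype.ext
  change !![(u : F), 0; 0, ((u⁻¹ : Fˣ) : F)] * (!![0, 1; -1, 0] * !![(u : F), 0; 0, ((u⁻¹ : Fˣ) : F)]) = !![0, 1; -1, 0]
  ext i j
  fin_cases i <;> fin_cases j <;> simp [Matrix.mul_apply, Fin.sum_univ_two]

theorem wSL_conj (u : Fˣ) : wSL * splitHom u * wSL⁻¹ = (splitHom u)⁻¹ := by
  rw [mul_inv_eq_iff_eq_mul, eq_inv_mul_iff_mul_eq]
  exact wSL_split u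

theorem wSL_sq_coe : ((wSL ^ 2 : SpecialLinearGroup (Fin 2) F) : Matrix (Fin 2) (Fin 2) F) = -1 := by
  rw [pow_two]
  change !![0, 1; -1, 0] * !![0, 1; -1, 0] = (-1 : Matrix (Fin 2) (Fin 2) F)
  ext i j
  fin_cases i <;> fin_cases j <;> simp [Matrix.mul_apply, Fin.sum_univ_two]

theorem split_coe_of_neg (u : Fˣ) (hu : (u : F) = -1) :
    ((splitHom u : SpecialLinearGroup (Fin 2) F) : Matrix (Fin 2) (Fin 2) F) = -1 := by
  have h1 : ((u⁻¹ : Fˣ) : F) = -1 := by
    rw [Units.val_inv_eq_inv_val, hu]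
    simp
  rw [splitHom_coe, hu, h1]
  ext i j
  fin_cases i <;> fin_cases j <;> simp

theorem exists_conj_to_w (h2 : (2 : F) ≠ 0) (i : Fˣ) (hi : (i : F) * i = -1) :
    ∃ g : SpecialLinearGroup (Fin 2) F, g * splitHom i * g⁻¹ = wSL := by
  have hinv : ((i⁻¹ : Fˣ) : F) = -i := by
    rw [Units.val_inv_eq_inv_val]
    field_simp
    first | linear_combination hi | linear_combination -hi
  refine ⟨⟨!![1, (i : F) / 2; (i : F), 1 / 2], ?_⟩, ?_⟩
  · rw [Matrix.det_fin_two_of]
    field_simp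
    first | linear_combination hi | linear_combination -hi
  · apply mul_inv_eq_of_eq_mul
    apply Subtype.ext
    change !![1, (i : F) / 2; (i : F), 1 / 2] * !![(i : F), 0; 0, ((i⁻¹ : Fˣ) : F)] =
      !![0, 1; -1, 0] * !![1, (i : F) / 2; (i : F), 1 / 2]
    rw [hinv]
    ext a b
    fin_cases a <;> fin_cases b <;> simp [Matrix.mul_apply, Fin.sum_univ_two] <;> (try field_simp) <;>
      (try first | ring1 | linear_combination hi | linear_combination -hi)

end SLdata

section Arith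

/-- The prime field data. -/
theorem exists_prime_data (m : ℕ) (hm : 1 ≤ m) : ∃ q : ℕ, q.Prime ∧ q ≠ 2 ∧ 2 * 2 ^ m ∣ q - 1 ∧
    ∃ c : ℕ, Odd c ∧ q * ((q - 1) * (q + 1)) = 4 * 2 ^ m * c := by
  set n := 2 ^ m with hn
  obtain ⟨k, hk⟩ : ∃ k, n = 2 * k := ⟨2 ^ (m - 1), by
    rw [hn, ← pow_succ']
    congr 1
    omega⟩
  have hnpos : 0 < n := by positivity
  haveI : NeZero (4 * n) := ⟨by omega⟩
  have hu : IsUnit (((1 + 2 * n : ℕ)) : ZMod (4 * n)) := by
    rw [ZMod.isUnit_iff_coprime]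
    have h1 : 4 * n = 2 ^ (m + 2) := by rw [hn]; ring
    rw [h1]
    apply Nat.Coprime.pow_right
    exact Nat.coprime_two_right.2 ⟨n, by ring⟩
  obtain ⟨q, hq2, hqp, hq⟩ := Nat.forall_exists_prime_gt_and_eq_mod hu 2
  rw [ZMod.natCast_eq_natCast_iff'] at hq
  have h1 : (1 + 2 * n) % (4 * n) = 1 + 2 * n := Nat.mod_eq_of_lt (by omega)
  rw [h1] at hq
  set c := q / (4 * n) with hc
  have hq' : q = 4 * n * c + (1 + 2 * n) := by
    rw [← hq, hc]
    exact (Nat.div_add_mod q (4 * n)).symm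
  refine ⟨q, hqp, by omega, ⟨2 * c + 1, by
    rw [hq']
    have : 4 * n * c + (1 + 2 * n) - 1 = 4 * n * c + 2 * n := by omega
    rw [this]
    ring⟩, q * ((2 * c + 1) * (2 * n * c + n + 1)), ?_, ?_⟩
  · have hqo : Odd q := hqp.odd_of_ne_two (by omega)
    apply Odd.mul hqo
    apply Odd.mul ⟨c, rfl⟩
    exact ⟨2 * k * c + k, by rw [hk]; ring⟩
  · have h2 : q - 1 = 2 * n * (2 * c + 1) := by
      rw [hq']
      have : 4 * n * c + (1 + 2 * n) - 1 = 4 * n * c + 2 * n := by omega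
      rw [this]
      ring
    have h3 : q + 1 = 2 * (2 * n * c + n + 1) := by
      rw [hq']
      ring
    rw [h2, h3]
    ring

end Arith

section QuatCase

open Matrix Cfsg.Agent.Lib.Classical.Tori Cfsg.Agent.Lib.Classical.Quat Cfsg Cfsg.FusionSystem

/-- Field and torus data. -/
theorem exists_units_data (m : ℕ) (hm : 2 ≤ m) : ∃ (q : ℕ) (_ : Fact q.Prime) (u : (ZMod q)ˣ), (2 : ZMod q) ≠ 0 ∧
    orderOf u = 2 * 2 ^ m ∧ ((u ^ (2 ^ m) : (ZMod q)ˣ) : ZMod q) = -1 ∧
    ((u ^ (2 ^ (m - 1)) : (ZMod q)ˣ) : ZMod q) * ((u ^ (2 ^ (m - 1)) : (ZMod q)ˣ) : ZMod q) = -1 ∧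
    ∃ c : ℕ, Odd c ∧ Nat.card (SpecialLinearGroup (Fin 2) (ZMod q)) = 4 * 2 ^ m * c := by
  obtain ⟨q, hqp, hq2, hdvd, c, hc, hcard⟩ := exists_prime_data m (by omega)
  haveI : Fact q.Prime := ⟨hqp⟩
  have hcu : Nat.card (ZMod q)ˣ = q - 1 := by
    rw [Nat.card_eq_fintype_card, ZMod.card_units]
  obtain ⟨u, hu⟩ := exists_orderOf_eq (T := (ZMod q)ˣ) (d := 2 * 2 ^ m) (by rw [hcu]; exact hdvd)
  have h2 : (2 : ZMod q) ≠ 0 := by
    intro h
    have h3 : ((2 : ℕ) : ZMod q) = 0 := by exact_mod_cast h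
    rw [ZMod.natCast_eq_zero_iff] at h3
    have := (Nat.prime_dvd_prime_iff_eq hqp Nat.prime_two).1 h3
    exact hq2 this
  have hne : u ^ 2 ^ m ≠ 1 := by
    intro h
    have h3 := orderOf_dvd_of_pow_eq_one h
    rw [hu] at h3
    have := Nat.le_of_dvd (by positivity) h3
    have : 0 < 2 ^ m := by positivity
    omega
  have hsq : u ^ 2 ^ m * u ^ 2 ^ m = 1 := by
    rw [← pow_add, ← two_mul, ← hu]
    exact pow_orderOf_eq_one u
  have hneg : ((u ^ 2 ^ m : (ZMod q)ˣ) : ZMod q) = -1 := by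
    have h3 := congrArg (Units.val) hsq
    rw [Units.val_mul, Units.val_one] at h3
    rcases mul_self_eq_one_iff.1 h3 with h4 | h4
    · exact absurd (Units.ext h4) hne
    · exact h4
  refine ⟨q, inferInstance, u, h2, hu, hneg, ?_, c, hc, ?_⟩
  · rw [← Units.val_mul, ← pow_add, ← two_mul, ← pow_succ']
    rw [show m - 1 + 1 = m by omega]
    exact hneg
  · rw [Cfsg.Agent.Lib.Classical.card_SL2 (F := ZMod q), ZMod.card]
    exact hcard

/-- Generalized quaternion groups of order at least `16`. -/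
theorem quat_not_normal {Ω : Type*} [Group Ω] {S : Subgroup Ω} [Finite S] (hS : IsPGroup 2 S) {m : ℕ} (hm : 2 ≤ m)
    (e : S ≃* QuaternionGroup (2 ^ m)) : ¬ ∀ F : FusionSystem S, F.IsSaturated 2 → F.IsNormal S := by
  classical
  obtain ⟨q, hq, u, h2, ho, hun, hi, c, hc, hcard⟩ := exists_units_data m hm
  set n := 2 ^ m with hn
  have hn4 : 4 ≤ n := by
    have : 2 ^ 2 ≤ 2 ^ m := Nat.pow_le_pow_right (by norm_num) hm
    simpa [hn] using this
  haveI : NeZero n := ⟨by omega⟩
  let t : SpecialLinearGroup (Fin 2) (ZMod q) := splitHom u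
  let w : SpecialLinearGroup (Fin 2) (ZMod q) := wSL
  have ho' : orderOf t = 2 * n := by
    show orderOf (splitHom u) = 2 * n
    rw [orderOf_injective _ splitHom_injective u, ho]
  have ht : t ^ (2 * n) = 1 := by
    rw [← ho']
    exact pow_orderOf_eq_one t
  have hw : w ^ 2 = t ^ n := by
    apply Subtype.ext
    show ((wSL ^ 2 : SpecialLinearGroup (Fin 2) (ZMod q)) : Matrix (Fin 2) (Fin 2) (ZMod q)) =
      (((splitHom u) ^ n : SpecialLinearGroup (Fin 2) (ZMod q)) : Matrix (Fin 2) (Fin 2) (ZMod q))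
    rw [wSL_sq_coe, ← map_pow, split_coe_of_neg _ hun]
  have hwt : w * t * w⁻¹ = t⁻¹ := wSL_conj u
  have hι' := quatHom_injective t w ht hw hwt ho' (by omega)
  let ι : S →* SpecialLinearGroup (Fin 2) (ZMod q) := (quatHom t w ht hw hwt).comp e.toMonoidHom
  have hι : Function.Injective ι := hι'.comp e.injective
  have hrange : Nat.card ι.range = 4 * n := by
    rw [← Nat.card_congr (MonoidHom.ofInjective hι).toEquiv, Nat.card_congr e.toEquiv, card_quaternion]
  have hsyl : ¬ 2 ∣ ι.range.index := by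
    have h3 := Subgroup.card_mul_index ι.range
    rw [hrange, hcard] at h3
    have h4 : ι.range.index = c := Nat.eq_of_mul_eq_mul_left (by omega) h3
    rw [h4]
    exact hc.not_two_dvd_nat
  obtain ⟨g, hg⟩ := exists_conj_to_w h2 (u ^ (2 ^ (m - 1))) hi
  let a₀ : QuaternionGroup n := QuaternionGroup.a ((2 ^ (m - 1) : ℕ) : ZMod (2 * n))
  let u₀ : QuaternionGroup n := QuaternionGroup.a ((2 ^ (m - 2) : ℕ) : ZMod (2 * n))
  let b₀ : QuaternionGroup n := QuaternionGroup.xa 0
  have hu₀ : u₀ * u₀ = a₀ := by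
    show QuaternionGroup.a _ * QuaternionGroup.a _ = QuaternionGroup.a _
    rw [QuaternionGroup.a_mul_a, ← Nat.cast_add]
    congr 2
    rw [← two_mul, ← pow_succ']
    congr 1
    omega
  refine not_all_normal_of_conj hS ι hι hsyl (a := e.symm a₀) (b := e.symm b₀) (u := e.symm u₀) (by rw [← map_mul, hu₀]) ?_ (g := g) ?_
  · intro v hv
    have h5 : e v * e v = b₀ := by
      rw [← map_mul, hv]
      exact e.apply_symm_apply _
    cases hx : e v with
    | a i =>
      rw [hx, QuaternionGroup.a_mul_a] at h5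
      change _ = QuaternionGroup.xa 0 at h5
      cases h5
    | xa i =>
      rw [hx, QuaternionGroup.xa_mul_xa] at h5
      change _ = QuaternionGroup.xa 0 at h5
      cases h5
  · show g * (quatHom t w ht hw hwt) (e (e.symm a₀)) * g⁻¹ = (quatHom t w ht hw hwt) (e (e.symm b₀))
    rw [e.apply_symm_apply, e.apply_symm_apply]
    show g * (quatHom t w ht hw hwt) (QuaternionGroup.a _) * g⁻¹ = (quatHom t w ht hw hwt) (QuaternionGroup.xa 0)
    rw [quatHom_a, quatHom_xa, ZMod.val_zero, pow_zero, mul_one, ZMod.val_natCast_of_lt]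
    · show g * (splitHom u) ^ 2 ^ (m - 1) * g⁻¹ = wSL
      rw [← map_pow, hg]
    · have : 2 ^ (m - 1) ≤ 2 ^ m := Nat.pow_le_pow_right (by norm_num) (by omega)
      omega

end QuatCase

section DHomSec

variable {G : Type*} [Group G] {n : ℕ} [NeZero n] (t w : G)

/-- The power map on `ZMod n`. -/
def dZ (i : ZMod n) : G := t ^ i.val

lemma dZ_add (ht : t ^ n = 1) (i j : ZMod n) : dZ t (i + j) = dZ t i * dZ t j := by
  unfold dZ
  rw [ZMod.val_add, ← pow_add, ← pow_eq_pow_mod _ ht]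

lemma dZ_zero : dZ t (0 : ZMod n) = 1 := by
  simp [dZ, ZMod.val_zero]

lemma dZ_neg (ht : t ^ n = 1) (i : ZMod n) : dZ t (-i) = (dZ t i)⁻¹ := by
  rw [eq_inv_iff_mul_eq_one, ← dZ_add t ht, neg_add_cancel, dZ_zero]

lemma dZ_sub (ht : t ^ n = 1) (i j : ZMod n) : dZ t (j - i) = (dZ t i)⁻¹ * dZ t j := by
  rw [sub_eq_neg_add, dZ_add t ht, dZ_neg t ht]

lemma dZ_comm (hwt : w * t * w⁻¹ = t⁻¹) (ht : t ^ n = 1) (i : ZMod n) :
    dZ t i * w = w * dZ t (-i) := by
  rw [dZ_neg t ht]
  have h1 : t * w = w * t⁻¹ := by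
    calc t * w = (w * t * w⁻¹)⁻¹ * w := by rw [hwt, inv_inv]
      _ = w * t⁻¹ := by group
  have h2 : ∀ m : ℕ, t ^ m * w = w * (t ^ m)⁻¹ := by
    intro m
    induction m with
    | zero => simp
    | succ m ih =>
      rw [pow_succ, mul_assoc, h1, ← mul_assoc, ih, mul_assoc, ← mul_inv_rev, ← pow_succ', pow_succ]
  exact h2 _

/-- The homomorphism from the dihedral group. -/
def dHom (ht : t ^ n = 1) (hw : w * w = 1) (hwt : w * t * w⁻¹ = t⁻¹) : DihedralGroup n →* G :=
  MonoidHom.mk' (fun x => match x with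
    | DihedralGroup.r i => dZ t i
    | DihedralGroup.sr i => w * dZ t i) (by
    intro x y
    cases x with
    | r i =>
      cases y with
      | r j => exact dZ_add t ht i j
      | sr j =>
        change w * dZ t (j - i) = dZ t i * (w * dZ t j)
        rw [← mul_assoc, dZ_comm t w hwt ht, dZ_neg t ht, dZ_sub t ht, mul_assoc]
    | sr i =>
      cases y with
      | r j =>
        change w * dZ t (i + j) = w * dZ t i * dZ t j
        rw [dZ_add t ht, mul_assoc]
      | sr j =>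
        change dZ t (j - i) = w * dZ t i * (w * dZ t j)
        rw [dZ_sub t ht]
        rw [show w * dZ t i * (w * dZ t j) = w * (dZ t i * w) * dZ t j by group]
        rw [dZ_comm t w hwt ht, dZ_neg t ht, ← mul_assoc w w, hw, one_mul])

lemma dHom_r (ht : t ^ n = 1) (hw : w * w = 1) (hwt : w * t * w⁻¹ = t⁻¹) (i : ZMod n) :
    dHom t w ht hw hwt (DihedralGroup.r i) = t ^ i.val := rfl

lemma dHom_sr (ht : t ^ n = 1) (hw : w * w = 1) (hwt : w * t * w⁻¹ = t⁻¹) (i : ZMod n) :
    dHom t w ht hw hwt (DihedralGroup.sr i) = w * t ^ i.val := rfl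

lemma dHom_injective (ht : t ^ n = 1) (hw : w * w = 1) (hwt : w * t * w⁻¹ = t⁻¹) (ho : orderOf t = n)
    (hne : ∀ k : ℕ, w * t ^ k ≠ 1) : Function.Injective (dHom t w ht hw hwt) := by
  rw [injective_iff_map_eq_one]
  intro x hx
  cases x with
  | r i =>
    rw [dHom_r] at hx
    have h1 : n ∣ i.val := by
      have h0 := orderOf_dvd_of_pow_eq_one hx
      rwa [ho] at h0
    have h3 : i.val = 0 := Nat.eq_zero_of_dvd_of_lt h1 (ZMod.val_lt i)
    rw [(ZMod.val_eq_zero i).mp h3]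
    rfl
  | sr i =>
    rw [dHom_sr] at hx
    exact absurd hx (hne _)

end DHomSec

section SLCenter

open Matrix Cfsg.Agent.Lib.Classical.Tori

variable {F : Type*} [Field F]

theorem split_center_sq (u : Fˣ) (h : splitHom u ∈ Subgroup.center (SpecialLinearGroup (Fin 2) F)) : u * u = 1 := by
  rw [Matrix.SpecialLinearGroup.mem_center_iff] at h
  obtain ⟨r, -, hr⟩ := h
  rw [splitHom_coe] at hr
  have h1 := congrFun (congrFun hr 0) 0
  have h2 := congrFun (congrFun hr 1) 1
  simp at h1 h2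
  apply Units.ext
  rw [Units.val_mul, Units.val_one]
  have h3 : (u : F) = (u : F)⁻¹ := h1.symm.trans h2
  nth_rewrite 1 [h3]
  exact inv_mul_cancel₀ u.ne_zero

theorem split_neg_center (u : Fˣ) (hu : (u : F) = -1) : splitHom u ∈ Subgroup.center (SpecialLinearGroup (Fin 2) F) := by
  rw [Matrix.SpecialLinearGroup.mem_center_iff]
  refine ⟨-1, by simp, ?_⟩
  rw [split_coe_of_neg u hu]
  ext i j
  simp [Matrix.scalar_apply, Matrix.diagonal_apply, Matrix.one_apply]
  split_ifs <;> simp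

theorem wSL_sq_center : (wSL * wSL : SpecialLinearGroup (Fin 2) F) ∈ Subgroup.center (SpecialLinearGroup (Fin 2) F) := by
  rw [Matrix.SpecialLinearGroup.mem_center_iff]
  refine ⟨-1, by simp, ?_⟩
  rw [← pow_two, wSL_sq_coe]
  ext i j
  simp [Matrix.scalar_apply, Matrix.diagonal_apply, Matrix.one_apply]
  split_ifs <;> simp

theorem w_split_not_center (u : Fˣ) : wSL * splitHom u ∉ Subgroup.center (SpecialLinearGroup (Fin 2) F) := by
  rw [Matrix.SpecialLinearGroup.mem_center_iff]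
  rintro ⟨r, -, hr⟩
  have h1 : (wSL * splitHom u : SpecialLinearGroup (Fin 2) F).1 = !![0, 1; -1, 0] * !![(u : F), 0; 0, ((u⁻¹ : Fˣ) : F)] := rfl
  have h2 := congrFun (congrFun hr 0) 1
  rw [Matrix.SpecialLinearGroup.coe_mul] at h2
  have h3 := congrFun (congrFun h1 0) 1
  rw [Matrix.SpecialLinearGroup.coe_mul] at h3
  rw [h3] at h2
  simp [Matrix.mul_apply, Fin.sum_univ_two, Matrix.scalar_apply] at h2
  exact u.ne_zero h2.symm

end SLCenter

section DihCase

open Matrix Cfsg.Agent.Lib.Classical.Tori Cfsg.Agent.Lib.Classical.Quat Cfsg Cfsg.FusionSystem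

/-- Dihedral groups of order at least `8`. -/
theorem dih_not_normal {Ω : Type*} [Group Ω] {S : Subgroup Ω} [Finite S] (hS : IsPGroup 2 S) {m : ℕ} (hm : 2 ≤ m)
    (e : S ≃* DihedralGroup (2 ^ m)) : ¬ ∀ F : FusionSystem S, F.IsSaturated 2 → F.IsNormal S := by
  classical
  obtain ⟨q, hq, u, h2, ho, hun, hi, c, hc, hcard⟩ := exists_units_data m hm
  set n := 2 ^ m with hn
  have hn4 : 4 ≤ n := by
    have : 2 ^ 2 ≤ 2 ^ m := Nat.pow_le_pow_right (by norm_num) hm
    simpa [hn] using this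
  haveI : NeZero n := ⟨by omega⟩
  let Z : Subgroup (SpecialLinearGroup (Fin 2) (ZMod q)) := Subgroup.center _
  let π : SpecialLinearGroup (Fin 2) (ZMod q) →* SpecialLinearGroup (Fin 2) (ZMod q) ⧸ Z := QuotientGroup.mk' Z
  have hπ : ∀ x, π x = 1 ↔ x ∈ Z := fun x => QuotientGroup.eq_one_iff x
  let t := π (splitHom u)
  let w := π wSL
  have hucen : splitHom (u ^ n) ∈ Z := split_neg_center _ hun
  have ht : t ^ n = 1 := by
    show (π (splitHom u)) ^ n = 1
    rw [← map_pow, ← map_pow, hπ]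
    exact hucen
  have hw : w * w = 1 := by
    show π wSL * π wSL = 1
    rw [← map_mul, hπ]
    exact wSL_sq_center
  have hwt : w * t * w⁻¹ = t⁻¹ := by
    show π wSL * π (splitHom u) * (π wSL)⁻¹ = (π (splitHom u))⁻¹
    rw [← map_inv, ← map_inv, ← map_mul, ← map_mul, wSL_conj]
  have ho' : orderOf t = n := by
    apply Nat.dvd_antisymm (orderOf_dvd_of_pow_eq_one ht)
    have h3 : t ^ orderOf t = 1 := pow_orderOf_eq_one t
    change (π (splitHom u)) ^ orderOf t = 1 at h3
    rw [← map_pow, ← map_pow, hπ] at h3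
    have h4 := split_center_sq _ h3
    rw [← pow_add, ← two_mul] at h4
    have h5 := orderOf_dvd_of_pow_eq_one h4
    rw [ho] at h5
    exact Nat.dvd_of_mul_dvd_mul_left (by norm_num) h5
  have hne : ∀ k : ℕ, w * t ^ k ≠ 1 := by
    intro k h3
    change π wSL * (π (splitHom u)) ^ k = 1 at h3
    rw [← map_pow, ← map_pow, ← map_mul, hπ] at h3
    exact w_split_not_center _ h3
  have hι' := dHom_injective t w ht hw hwt ho' hne
  let ι : S →* SpecialLinearGroup (Fin 2) (ZMod q) ⧸ Z := (dHom t w ht hw hwt).comp e.toMonoidHom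
  have hι : Function.Injective ι := hι'.comp e.injective
  have hrange : Nat.card ι.range = 2 * n := by
    rw [← Nat.card_congr (MonoidHom.ofInjective hι).toEquiv, Nat.card_congr e.toEquiv, DihedralGroup.nat_card]
  have hZ : 2 ∣ Nat.card Z := by
    have h3 : orderOf (⟨splitHom (u ^ n), hucen⟩ : Z) = 2 := by
      apply orderOf_eq_prime
      · apply Subtype.ext
        show (splitHom (u ^ n)) ^ 2 = 1
        rw [← map_pow, ← pow_mul, mul_comm, ← ho, pow_orderOf_eq_one, map_one]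
      · intro h4
        have h5 : splitHom (u ^ n) = 1 := congrArg Subtype.val h4
        have h6 : u ^ n = 1 := splitHom_injective (by rw [h5, map_one])
        have h7 := orderOf_dvd_of_pow_eq_one h6
        rw [ho] at h7
        have := Nat.le_of_dvd (by omega) h7
        omega
    exact (dvd_of_eq h3.symm).trans (orderOf_dvd_natCard _)
  have hsyl : ¬ 2 ∣ ι.range.index := by
    obtain ⟨k, hk⟩ := hZ
    have h3 := Subgroup.card_mul_index ι.range
    rw [hrange] at h3
    have h4 := Subgroup.card_eq_card_quotient_mul_card_subgroup Z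
    rw [hcard, ← h3, hk] at h4
    have h5 : ι.range.index * k = c := by
      have h6 : 4 * n * (ι.range.index * k) = 4 * n * c := by
        rw [h4]
        ring
      exact Nat.eq_of_mul_eq_mul_left (by omega) h6
    intro h6
    apply hc.not_two_dvd_nat
    rw [← h5]
    exact Dvd.dvd.mul_right h6 k
  obtain ⟨g, hg⟩ := exists_conj_to_w h2 (u ^ (2 ^ (m - 1))) hi
  let a₀ : DihedralGroup n := DihedralGroup.r ((2 ^ (m - 1) : ℕ) : ZMod n)
  let u₀ : DihedralGroup n := DihedralGroup.r ((2 ^ (m - 2) : ℕ) : ZMod n)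
  let b₀ : DihedralGroup n := DihedralGroup.sr 0
  have hu₀ : u₀ * u₀ = a₀ := by
    show DihedralGroup.r _ * DihedralGroup.r _ = DihedralGroup.r _
    rw [DihedralGroup.r_mul_r, ← Nat.cast_add]
    congr 2
    rw [← two_mul, ← pow_succ']
    congr 1
    omega
  refine not_all_normal_of_conj hS ι hι hsyl (a := e.symm a₀) (b := e.symm b₀) (u := e.symm u₀) (by rw [← map_mul, hu₀]) ?_ (g := π g) ?_
  · intro v hv
    have h5 : e v * e v = b₀ := by
      rw [← map_mul, hv]
      exact e.apply_symm_apply _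
    cases hx : e v with
    | r i =>
      rw [hx, DihedralGroup.r_mul_r] at h5
      change _ = DihedralGroup.sr 0 at h5
      cases h5
    | sr i =>
      rw [hx, DihedralGroup.sr_mul_sr] at h5
      change _ = DihedralGroup.sr 0 at h5
      cases h5
  · show π g * (dHom t w ht hw hwt) (e (e.symm a₀)) * (π g)⁻¹ = (dHom t w ht hw hwt) (e (e.symm b₀))
    rw [e.apply_symm_apply, e.apply_symm_apply]
    show π g * (dHom t w ht hw hwt) (DihedralGroup.r _) * (π g)⁻¹ = (dHom t w ht hw hwt) (DihedralGroup.sr 0)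
    rw [dHom_r, dHom_sr, ZMod.val_zero, pow_zero, mul_one, ZMod.val_natCast_of_lt]
    · show π g * (π (splitHom u)) ^ 2 ^ (m - 1) * (π g)⁻¹ = π wSL
      rw [← map_pow, ← map_pow, ← map_inv, ← map_mul, ← map_mul, hg]
    · have : 2 ^ (m - 1) < 2 ^ m := Nat.pow_lt_pow_right (by norm_num) (by omega)
      omega

end DihCase

end Cfsg.Agent.Lib.Cl.SuperSol
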