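import Cfsg.Agent.Lib.Cl.MetaQD
import Cfsg.Agent.Lib.Invol.QD
import Cfsg.Agent.Lib.Classical.GL2Sylow
import Mathlib

/-! # Quasi-dihedral groups carry non-normal realized systems -/

set_option autoImplicit false
set_option linter.unusedSectionVars false
set_option linter.unusedVariables false

namespace Cfsg.Agent.Lib.Cl.SuperSol

section RingConj

theorem ring_inv_aux {R : Type*} [Ring R] (A : Rˣ) (hA : (A : R) * A = -1) : ((A⁻¹ : Rˣ) : R) = -(A : R) := by
  apply Units.inv_eq_of_mul_eq_one_right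
  rw [mul_neg, hA, neg_neg]

theorem ring_neg_aux {R : Type*} [Ring R] (x z y : R) : x * ((-z) * y) = -(x * (z * y)) := by
  noncomm_ring

/-- Two anticommuting square roots of `-1` are conjugate when `2` is invertible. -/
theorem exists_conj_ring {R : Type*} [Ring R] (t : R) (ht : t * (1 + 1) = 1) (htc : ∀ x : R, t * x = x * t) (I B : Rˣ)
    (hI : (I : R) * I = -1) (hB : (B : R) * B = -1) (hBI : (B : R) * I = -((I : R) * B)) :
    ∃ g : Rˣ, g * I * g⁻¹ = B := by
  set c : R := (B : R) * I with hc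
  have hIB : (I : R) * B = -c := by
    rw [hBI, neg_neg]
  have hcc : c * c = -1 := by
    calc c * c = B * ((I : R) * B) * I := by rw [hc]; simp only [mul_assoc]
      _ = -(((B : R) * B) * ((I : R) * I)) := by rw [hIB, hc]; noncomm_ring
      _ = -1 := by rw [hB, hI]; simp
  have h1 : (1 - c) * (1 + c) = 1 + 1 := by
    calc (1 - c) * (1 + c) = 1 - c * c := by noncomm_ring
      _ = 1 + 1 := by rw [hcc]; abel
  have h2 : (1 + c) * (1 - c) = 1 + 1 := by
    calc (1 + c) * (1 - c) = 1 - c * c := by noncomm_ring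
      _ = 1 + 1 := by rw [hcc]; abel
  let g : Rˣ := ⟨1 - c, t * (1 + c), by
    rw [← mul_assoc, ← htc, mul_assoc, h1, ht], by
    rw [mul_assoc, h2, ht]⟩
  refine ⟨g, ?_⟩
  apply mul_inv_eq_of_eq_mul
  apply Units.ext
  show (1 - c) * (I : R) = (B : R) * (1 - c)
  have e1 : c * (I : R) = -(B : R) := by
    rw [hc, mul_assoc, hI]
    simp
  have e2 : (B : R) * c = -(I : R) := by
    rw [hc, ← mul_assoc, hB]
    simp
  rw [sub_mul, mul_sub, e1, e2, one_mul, mul_one]
  abel

end RingConj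

section QDHom

open Cfsg.Agent.Lib.Invol

variable {S : Type*} [Group S] [Finite S] {a : ℕ} {x y : S}

/-- Homomorphisms out of a quasi-dihedral group. -/
theorem exists_QD_hom (h : QD a x y) {A : Type*} [Group A] (X Y : A) (hX : orderOf X = 8 * a) (hY : Y * Y = 1)
    (hYX : Y * X * Y⁻¹ = X ^ ((4 * a : ℤ) - 1)) :
    ∃ f : S →* A, Function.Injective f ∧ (∀ i : ℤ, f (x ^ i) = X ^ i) ∧ ∀ i : ℤ, f (x ^ i * y) = X ^ i * Y := by
  classical
  have hapos : (0 : ℤ) < a := by exact_mod_cast h.pos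
  have hYi : Y⁻¹ = Y := inv_eq_of_mul_eq_one_left hY
  have hconj : ∀ j : ℤ, Y * X ^ j = X ^ ((4 * a - 1 : ℤ) * j) * Y := by
    intro j
    have h1 := map_zpow (MulAut.conj Y).toMonoidHom X j
    simp only [MulEquiv.toMonoidHom_eq_coe, MonoidHom.coe_coe, MulAut.conj_apply] at h1
    rw [hYX, ← zpow_mul] at h1
    rw [← h1]
    group
  have hXz : ∀ u v : ℤ, (8 * a : ℤ) ∣ u - v → X ^ u = X ^ v := by
    intro u v hd
    have h1 : X ^ (u - v) = 1 := orderOf_dvd_iff_zpow_eq_one.1 (by rw [hX]; push_cast; exact hd)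
    rw [sub_eq_add_neg, zpow_add, zpow_neg, mul_inv_eq_one] at h1
    exact h1
  have hXo : ∀ u : ℤ, X ^ u = 1 → (8 * a : ℤ) ∣ u := by
    intro u hu
    have h1 := orderOf_dvd_iff_zpow_eq_one.2 hu
    rw [hX] at h1
    exact_mod_cast h1
  have hne : ∀ i : ℤ, X ^ i * Y ≠ 1 := by
    intro i h1
    have h2 : Y = X ^ (-i) := by
      rw [zpow_neg]
      exact eq_inv_of_mul_eq_one_right h1
    have h3 : Y * X * Y⁻¹ = X := by
      have h8 : Y * X = X * Y := by
        rw [h2]
        exact ((Commute.refl X).zpow_left (-i)).eq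
      rw [h8, mul_inv_cancel_right]
    rw [hYX] at h3
    have h4 : X ^ ((4 * a : ℤ) - 1) = X ^ (1 : ℤ) := by rw [h3, zpow_one]
    have h5 : X ^ ((4 * a : ℤ) - 1 - 1) = 1 := by
      rw [zpow_sub, h4]
      simp
    have h6 := hXo _ h5
    have h7 := Int.le_of_dvd (by nlinarith) h6
    nlinarith
  let f₀ : S → A := fun s => if h1 : ∃ i : ℤ, s = x ^ i then X ^ h1.choose
    else X ^ ((h.form s).resolve_left h1).choose * Y
  have hf1 : ∀ i : ℤ, f₀ (x ^ i) = X ^ i := by
    intro i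
    have h1 : ∃ j : ℤ, x ^ i = x ^ j := ⟨i, rfl⟩
    show (if h1 : ∃ j : ℤ, x ^ i = x ^ j then X ^ h1.choose else _) = _
    rw [dif_pos h1]
    apply hXz
    have h2 := h1.choose_spec
    exact h.zpow_eq_iff.1 h2.symm
  have hf2 : ∀ i : ℤ, f₀ (x ^ i * y) = X ^ i * Y := by
    intro i
    have h1 : ¬ ∃ j : ℤ, x ^ i * y = x ^ j := fun ⟨j, hj⟩ => h.zpow_mul_y_ne i j hj
    show (if h1 : ∃ j : ℤ, x ^ i * y = x ^ j then _ else X ^ ((h.form (x ^ i * y)).resolve_left h1).choose * Y) = _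
    rw [dif_neg h1]
    have h2 := ((h.form (x ^ i * y)).resolve_left h1).choose_spec
    have h3 := mul_right_cancel h2
    rw [hXz _ _ (h.zpow_eq_iff.1 h3.symm)]
  let f : S →* A := MonoidHom.mk' f₀ (by
    intro s s'
    rcases h.form s with ⟨i, rfl⟩ | ⟨i, rfl⟩ <;> rcases h.form s' with ⟨j, rfl⟩ | ⟨j, rfl⟩
    · rw [← zpow_add, hf1, hf1, hf1, zpow_add]
    · rw [h.zpow_mul_zpow_mul_y, hf1, hf2, hf2, zpow_add, mul_assoc]
    · rw [h.zpow_mul_y_mul_zpow, hf2, hf1, hf2, zpow_add, mul_assoc, mul_assoc (X ^ i) Y, hconj]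
    · rw [h.zpow_mul_y_mul_zpow_mul_y, hf1, hf2, hf2, zpow_add, mul_assoc (X ^ i) Y, ← mul_assoc Y, hconj, mul_assoc _ Y Y, hY, mul_one])
  refine ⟨f, ?_, hf1, hf2⟩
  rw [injective_iff_map_eq_one]
  intro s hs
  rcases h.form s with ⟨i, rfl⟩ | ⟨i, rfl⟩
  · change f₀ (x ^ i) = 1 at hs
    rw [hf1] at hs
    exact h.zpow_eq_one_iff.2 (hXo i hs)
  · change f₀ (x ^ i * y) = 1 at hs
    rw [hf2] at hs
    exact absurd hs (hne i)

end QDHom

section Rep

variable (K L : Type*) [Field K] [Fintype K] [Field L] [Algebra K L]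

/-- Multiplication as a unit of the endomorphism ring. -/
noncomputable def mulU : Lˣ →* (Module.End K L)ˣ :=
  Units.map ((Algebra.lmul K L : L →ₐ[K] Module.End K L) : L →* Module.End K L)

theorem mulU_apply (z : Lˣ) (v : L) : ((mulU K L z : (Module.End K L)ˣ) : Module.End K L) v = (z : L) * v := rfl

theorem mulU_injective : Function.Injective (mulU K L) := by
  intro z w h
  have h1 := congrArg (fun g : (Module.End K L)ˣ => (g : Module.End K L) 1) h
  simp only [mulU_apply, mul_one] at h1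
  exact Units.ext h1

variable {K L}

/-- The Frobenius as a unit of the endomorphism ring. -/
noncomputable def frU (hL : ∀ v : L, (v ^ Fintype.card K) ^ Fintype.card K = v) : (Module.End K L)ˣ where
  val := (FiniteField.frobeniusAlgHom K L).toLinearMap
  inv := (FiniteField.frobeniusAlgHom K L).toLinearMap
  val_inv := by
    ext v
    exact hL v
  inv_val := by
    ext v
    exact hL v

theorem frU_apply (hL : ∀ v : L, (v ^ Fintype.card K) ^ Fintype.card K = v) (v : L) :
    ((frU hL : (Module.End K L)ˣ) : Module.End K L) v = v ^ Fintype.card K := rfl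

theorem frU_mul_mulU (hL : ∀ v : L, (v ^ Fintype.card K) ^ Fintype.card K = v) (z : Lˣ) :
    frU hL * mulU K L z = mulU K L (z ^ Fintype.card K) * frU hL := by
  apply Units.ext
  ext v
  show ((z : L) * v) ^ Fintype.card K = ((z ^ Fintype.card K : Lˣ) : L) * v ^ Fintype.card K
  rw [mul_pow, Units.val_pow_eq_pow_val]

/-- The model inside the endomorphism ring. -/
theorem exists_model_abstract (hL : ∀ v : L, (v ^ Fintype.card K) ^ Fintype.card K = v) {a c : ℕ} (ha : 0 < a)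
    (ζ : Lˣ) (hζ : orderOf ζ = 8 * a) (hq : Fintype.card K = 8 * a * c + (4 * a - 1)) (h2 : (2 : K) ≠ 0) :
    ∃ X Y g : (Module.End K L)ˣ, orderOf X = 8 * a ∧ Y * Y = 1 ∧ Y * X * Y⁻¹ = X ^ ((4 * a : ℤ) - 1) ∧
      g * X ^ (2 * a) * g⁻¹ = X * Y := by
  let X := mulU K L ζ
  let Y := frU hL
  have hXo : orderOf X = 8 * a := by
    rw [orderOf_injective _ (mulU_injective K L) ζ, hζ]
  have hX8 : X ^ (8 * a) = 1 := orderOf_dvd_iff_pow_eq_one.1 (dvd_of_eq hXo)
  have hY : Y * Y = 1 := Units.ext (by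
    ext v
    exact hL v)
  have hXq : X ^ Fintype.card K = X ^ (4 * a - 1) := by
    rw [hq, pow_add, pow_mul, hX8, one_pow, one_mul]
  have hYXn : Y * X = X ^ (4 * a - 1) * Y := by
    rw [← hXq]
    show frU hL * mulU K L ζ = (mulU K L ζ) ^ Fintype.card K * frU hL
    rw [frU_mul_mulU, map_pow]
  have hYX : Y * X * Y⁻¹ = X ^ ((4 * a : ℤ) - 1) := by
    rw [hYXn, mul_inv_cancel_right, ← zpow_natCast]
    congr 1
    have : 1 ≤ 4 * a := by omega
    push_cast [Nat.cast_sub this]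
    ring
  have hi2 : ((ζ ^ (4 * a) : Lˣ) : L) = -1 := by
    have hne : ζ ^ (4 * a) ≠ 1 := by
      intro h
      have h3 := orderOf_dvd_of_pow_eq_one h
      rw [hζ] at h3
      have := Nat.le_of_dvd (by omega) h3
      omega
    have hsq : ζ ^ (4 * a) * ζ ^ (4 * a) = 1 := by
      rw [← pow_add, show 4 * a + 4 * a = 8 * a by ring]
      exact orderOf_dvd_iff_pow_eq_one.1 (dvd_of_eq hζ)
    have h3 := congrArg (Units.val) hsq
    rw [Units.val_mul, Units.val_one] at h3
    rcases mul_self_eq_one_iff.1 h3 with h4 | h4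
    · exact absurd (Units.ext h4) hne
    · exact h4
  have hneg : ((X ^ (4 * a) : (Module.End K L)ˣ) : Module.End K L) = -1 := by
    ext v
    show (((mulU K L ζ) ^ (4 * a) : (Module.End K L)ˣ) : Module.End K L) v = -v
    rw [← map_pow, mulU_apply, hi2]
    simp
  have hI : (((X ^ (2 * a) : (Module.End K L)ˣ)) : Module.End K L) * ((X ^ (2 * a) : (Module.End K L)ˣ) : Module.End K L) = -1 := by
    rw [← Units.val_mul, ← pow_add, show 2 * a + 2 * a = 4 * a by ring]
    exact hneg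
  have hB : (((X * Y : (Module.End K L)ˣ)) : Module.End K L) * ((X * Y : (Module.End K L)ˣ) : Module.End K L) = -1 := by
    rw [← Units.val_mul]
    have h3 : X * Y * (X * Y) = X ^ (4 * a) := by
      calc X * Y * (X * Y) = X * (Y * X) * Y := by group
        _ = X * X ^ (4 * a - 1) * (Y * Y) := by rw [hYXn]; group
        _ = X ^ (4 * a) := by
          rw [hY, mul_one, ← pow_succ']
          congr 1
          omega
    rw [h3]
    exact hneg
  have hIi : ((X ^ (2 * a))⁻¹ : (Module.End K L)ˣ).val = -((X ^ (2 * a) : (Module.End K L)ˣ) : Module.End K L) := by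
    exact ring_inv_aux _ hI
  have hYI : Y * X ^ (2 * a) = (X ^ (2 * a))⁻¹ * Y := by
    have h3 : SemiconjBy Y X (X ^ (4 * a - 1)) := hYXn
    have h4 := h3.pow_right (2 * a)
    have h5 : (X ^ (4 * a - 1)) ^ (2 * a) = (X ^ (2 * a))⁻¹ := by
      rw [eq_inv_iff_mul_eq_one, ← pow_mul, ← pow_add]
      have h6 : (4 * a - 1) * (2 * a) + 2 * a = 8 * a * a := by
        obtain ⟨b, rfl⟩ : ∃ b, a = b + 1 := ⟨a - 1, by omega⟩
        have : 4 * (b + 1) - 1 = 4 * b + 3 := by omega
        rw [this]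
        ring
      rw [h6, pow_mul, hX8, one_pow]
    rw [← h5]
    exact h4
  have hBI : (((X * Y : (Module.End K L)ˣ)) : Module.End K L) * ((X ^ (2 * a) : (Module.End K L)ˣ) : Module.End K L) =
      -(((X ^ (2 * a) : (Module.End K L)ˣ) : Module.End K L) * ((X * Y : (Module.End K L)ˣ) : Module.End K L)) := by
    have h3 : X * Y * X ^ (2 * a) = X * ((X ^ (2 * a))⁻¹ * Y) := by
      rw [mul_assoc, hYI]
    have h4 : X ^ (2 * a) * (X * Y) = X * (X ^ (2 * a) * Y) := by
      rw [← mul_assoc, ((Commute.refl X).pow_left (2 * a)).eq, mul_assoc]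
    rw [← Units.val_mul, ← Units.val_mul, h3, h4, Units.val_mul, Units.val_mul, Units.val_mul, Units.val_mul, hIi]
    exact ring_neg_aux _ _ _
  let t : Module.End K L := algebraMap K (Module.End K L) (2 : K)⁻¹
  have ht : t * (1 + 1) = 1 := by
    have h3 : (1 + 1 : Module.End K L) = algebraMap K (Module.End K L) (2 : K) := by
      rw [← one_add_one_eq_two, map_add, map_one]
    rw [h3]
    show algebraMap K (Module.End K L) (2 : K)⁻¹ * _ = 1
    rw [← map_mul, inv_mul_cancel₀ h2, map_one]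
  have htc : ∀ x : Module.End K L, t * x = x * t := fun x => Algebra.commutes _ x
  obtain ⟨g, hg⟩ := exists_conj_ring t ht htc (X ^ (2 * a)) (X * Y) hI hB hBI
  exact ⟨X, Y, g, hXo, hY, hYX, hg⟩

/-- The order of the unit group of the endomorphism ring of a plane. -/
theorem card_units_end (hfin : Module.finrank K L = 2) : Nat.card (Module.End K L)ˣ =
    Fintype.card K * ((Fintype.card K - 1) * ((Fintype.card K - 1) * (Fintype.card K + 1))) := by
  haveI : Module.Finite K L := Module.finite_of_finrank_pos (by omega)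
  let b := Module.finBasisOfFinrankEq K L hfin
  let e := LinearMap.toMatrixAlgEquiv b
  rw [Nat.card_congr (Units.mapEquiv e.toMulEquiv).toEquiv]
  exact Cfsg.Agent.Lib.Classical.card_GL2

end Rep

section SDCase

open Cfsg Cfsg.FusionSystem Cfsg.Agent.Lib.Invol

theorem exists_prime_data_sd (m : ℕ) : ∃ q c : ℕ, q.Prime ∧ q ≠ 2 ∧ q = 8 * 2 ^ m * c + (4 * 2 ^ m - 1) := by
  set a := 2 ^ m with ha
  have hapos : 0 < a := by positivity
  haveI : NeZero (8 * a) := ⟨by omega⟩
  have hu : IsUnit (((4 * a - 1 : ℕ)) : ZMod (8 * a)) := by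
    rw [ZMod.isUnit_iff_coprime]
    have h1 : 8 * a = 2 ^ (m + 3) := by rw [ha]; ring
    rw [h1]
    apply Nat.Coprime.pow_right
    refine Nat.coprime_two_right.2 ⟨2 * a - 1, by omega⟩
  obtain ⟨q, hq2, hqp, hq⟩ := Nat.forall_exists_prime_gt_and_eq_mod hu 2
  rw [ZMod.natCast_eq_natCast_iff'] at hq
  have h1 : (4 * a - 1) % (8 * a) = 4 * a - 1 := Nat.mod_eq_of_lt (by omega)
  rw [h1] at hq
  refine ⟨q, q / (8 * a), hqp, by omega, ?_⟩
  rw [← hq]
  exact (Nat.div_add_mod q (8 * a)).symm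

theorem sd_arith {a c q : ℕ} (ha : 0 < a) (hq : q = 8 * a * c + (4 * a - 1)) :
    8 * a ∣ q ^ 2 - 1 ∧ ∃ o : ℕ, Odd o ∧ q * ((q - 1) * ((q - 1) * (q + 1))) = 16 * a * o := by
  obtain ⟨e, rfl⟩ : ∃ e, a = e + 1 := ⟨a - 1, by omega⟩
  have h0 : 4 * (e + 1) - 1 = 4 * e + 3 := by omega
  rw [h0] at hq
  set w := 4 * (e + 1) * c + 2 * e + 1 with hw
  have h1 : q - 1 = 2 * w := by
    rw [hq, hw]
    have : 8 * (e + 1) * c + (4 * e + 3) = 2 * (4 * (e + 1) * c + 2 * e + 1) + 1 := by ring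
    omega
  have h2 : q + 1 = 4 * (e + 1) * (2 * c + 1) := by
    rw [hq]
    ring
  have h3 : q ^ 2 - 1 = (q + 1) * (q - 1) := by
    have := Nat.sq_sub_sq q 1
    rw [one_pow] at this
    exact this
  refine ⟨⟨(2 * c + 1) * w, by rw [h3, h1, h2]; ring⟩, q * (w * w * (2 * c + 1)), ?_, ?_⟩
  · have hqo : Odd q := ⟨4 * (e + 1) * c + 2 * e + 1, by rw [hq]; ring⟩
    have hwo : Odd w := ⟨2 * (e + 1) * c + e, by rw [hw]; ring⟩
    exact hqo.mul ((hwo.mul hwo).mul ⟨c, rfl⟩)
  · rw [h1, h2]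
    ring

/-- Quasi-dihedral groups. -/
theorem sd_not_normal {Ω : Type*} [Group Ω] {S : Subgroup Ω} [Finite S] (hS : IsPGroup 2 S) (hsd : IsQuasiDihedral S) :
    ¬ ∀ F : FusionSystem S, F.IsSaturated 2 → F.IsNormal S := by
  classical
  obtain ⟨m, x, y, h⟩ := exists_QD hsd
  obtain ⟨q, c, hqp, hq2, hq⟩ := exists_prime_data_sd m
  set a := 2 ^ m with ha
  have hapos : 0 < a := by positivity
  haveI : Fact q.Prime := ⟨hqp⟩
  obtain ⟨hdvd, o, ho, hcardq⟩ := sd_arith hapos hq
  have hcardK : Fintype.card (ZMod q) = q := ZMod.card q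
  have hfin : Module.finrank (ZMod q) (GaloisField q 2) = 2 := GaloisField.finrank q (by norm_num)
  have hcardL : Nat.card (GaloisField q 2) = q ^ 2 := GaloisField.card q 2 (by norm_num)
  haveI : Finite (GaloisField q 2) := Nat.finite_of_card_ne_zero (by rw [hcardL]; exact pow_ne_zero _ hqp.ne_zero)
  have hL : ∀ v : GaloisField q 2, (v ^ Fintype.card (ZMod q)) ^ Fintype.card (ZMod q) = v := by
    intro v
    rw [hcardK, ← pow_mul, ← pow_two, ← hcardL]
    haveI := Fintype.ofFinite (GaloisField q 2)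
    rw [Nat.card_eq_fintype_card]
    exact FiniteField.pow_card v
  obtain ⟨ζ, hζ⟩ := Cfsg.Agent.Lib.Classical.Quat.exists_orderOf_eq (T := (GaloisField q 2)ˣ) (d := 8 * a) (by
    rw [Nat.card_units, hcardL]
    exact hdvd)
  have h2 : (2 : ZMod q) ≠ 0 := by
    intro h3
    have h4 : ((2 : ℕ) : ZMod q) = 0 := by exact_mod_cast h3
    rw [ZMod.natCast_eq_zero_iff] at h4
    exact hq2 ((Nat.prime_dvd_prime_iff_eq hqp Nat.prime_two).1 h4)
  obtain ⟨X, Y, g, hXo, hY, hYX, hg⟩ := exists_model_abstract hL (a := a) (c := c) hapos ζ hζ (by rw [hcardK]; exact hq) h2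
  obtain ⟨f, hf, hf1, hf2⟩ := exists_QD_hom h X Y hXo hY hYX
  haveI hfinE : Finite (Module.End (ZMod q) (GaloisField q 2)) :=
    Finite.of_injective (fun φ : Module.End (ZMod q) (GaloisField q 2) => (φ : GaloisField q 2 → GaloisField q 2)) DFunLike.coe_injective
  have hcardG : Nat.card (Module.End (ZMod q) (GaloisField q 2))ˣ = 16 * a * o := by
    rw [card_units_end hfin, hcardK]
    exact hcardq
  have hrange : Nat.card f.range = 16 * a := by
    rw [← Nat.card_congr (MonoidHom.ofInjective hf).toEquiv]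
    exact h.hc
  have hsyl : ¬ 2 ∣ f.range.index := by
    have h3 := Subgroup.card_mul_index f.range
    rw [hrange, hcardG] at h3
    have h4 : f.range.index = o := Nat.eq_of_mul_eq_mul_left (by omega) h3
    rw [h4]
    exact ho.not_two_dvd_nat
  refine not_all_normal_of_conj hS f hf hsyl (a := x ^ (2 * a : ℤ)) (b := x ^ (1 : ℤ) * y) (u := x ^ (a : ℤ)) ?_ ?_ (g := g) ?_
  · rw [← zpow_add]
    congr 1
    ring
  · intro v hv
    rcases h.form v with ⟨i, rfl⟩ | ⟨i, rfl⟩
    · rw [← zpow_add] at hv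
      exact h.zpow_mul_y_ne 1 (i + i) hv.symm
    · rw [h.sq_zpow_mul_y] at hv
      exact h.zpow_mul_y_ne 1 _ hv.symm
  · rw [hf1, hf2, zpow_one]
    have h5 : X ^ (2 * a : ℤ) = X ^ (2 * a) := by
      rw [← zpow_natCast]
      push_cast
      rfl
    rw [h5]
    exact hg

end SDCase

section SmallAut

open Cfsg Cfsg.FusionSystem

/-- An automorphism of order three contradicts the coprime condition at `2`. -/
theorem order_three_contra {T : Type*} [Group T] (σ : MulAut T) (h3 : σ ^ 3 = 1) (hne : σ ≠ 1)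
    (h : ∀ H : Subgroup (MulAut T), (Nat.card H).Coprime 2 → IsMulCommutative H ∧ ∀ h ∈ H, h ^ (2 - 1) = 1) : False := by
  have ho : orderOf σ = 3 := orderOf_eq_prime h3 hne
  obtain ⟨-, h2⟩ := h (Subgroup.zpowers σ) (by rw [Nat.card_zpowers, ho]; norm_num)
  have h4 := h2 σ (Subgroup.mem_zpowers σ)
  exact hne (by simpa using h4)

/-- The order three map on `Q₈`. -/
def q8f : QuaternionGroup 2 → QuaternionGroup 2
  | .a i => if i = 0 then .a 0 else if i = 1 then .xa 0 else if i = 2 then .a 2 else .xa 2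
  | .xa i => if i = 0 then .xa 3 else if i = 3 then .a 1 else if i = 2 then .xa 1 else .a 3

theorem q8f_cube : ∀ x : QuaternionGroup 2, q8f (q8f (q8f x)) = x := by decide

theorem q8f_mul : ∀ x y : QuaternionGroup 2, q8f (x * y) = q8f x * q8f y := by decide

theorem q8f_ne : q8f (.a 1) ≠ .a 1 := by decide

/-- The order three automorphism of `Q₈`. -/
def q8σ : MulAut (QuaternionGroup 2) where
  toFun := q8f
  invFun := fun x => q8f (q8f x)
  left_inv := q8f_cube
  right_inv := q8f_cube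
  map_mul' := q8f_mul

theorem q8_contra (h : ∀ H : Subgroup (MulAut (QuaternionGroup 2)), (Nat.card H).Coprime 2 → IsMulCommutative H ∧ ∀ h ∈ H, h ^ (2 - 1) = 1) :
    False := by
  refine order_three_contra q8σ ?_ ?_ h
  · ext x
    exact q8f_cube x
  · intro h1
    have h2 := congrArg (fun σ : MulAut (QuaternionGroup 2) => σ (.a 1)) h1
    exact q8f_ne h2

/-- The order three map on the Klein group. -/
def v4f : DihedralGroup 2 → DihedralGroup 2
  | .r i => if i = 0 then .r 0 else .sr 0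
  | .sr i => if i = 0 then .sr 1 else .r 1

theorem v4f_cube : ∀ x : DihedralGroup 2, v4f (v4f (v4f x)) = x := by decide

theorem v4f_mul : ∀ x y : DihedralGroup 2, v4f (x * y) = v4f x * v4f y := by decide

theorem v4f_ne : v4f (.r 1) ≠ .r 1 := by decide

/-- The order three automorphism of the Klein group. -/
def v4σ : MulAut (DihedralGroup 2) where
  toFun := v4f
  invFun := fun x => v4f (v4f x)
  left_inv := v4f_cube
  right_inv := v4f_cube
  map_mul' := v4f_mul

theorem v4_contra (h : ∀ H : Subgroup (MulAut (DihedralGroup 2)), (Nat.card H).Coprime 2 → IsMulCommutative H ∧ ∀ h ∈ H, h ^ (2 - 1) = 1) :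
    False := by
  refine order_three_contra v4σ ?_ ?_ h
  · ext x
    exact v4f_cube x
  · intro h1
    have h2 := congrArg (fun σ : MulAut (DihedralGroup 2) => σ (.r 1)) h1
    exact v4f_ne h2

end SmallAut

section Forward

open Cfsg Cfsg.FusionSystem

variable {Ω : Type*} [Group Ω] {S : Subgroup Ω} [Finite S]

/-- Quaternion groups of 2-power order fail. -/
theorem fwd_quat [Fact (Nat.Prime 2)] (hS : IsPGroup 2 S) {n : ℕ} (hn : 2 ≤ n) (e : S ≃* QuaternionGroup n)
    (h1 : ∀ F : FusionSystem S, F.IsSaturated 2 → F.IsNormal S)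
    (h2 : ∀ H : Subgroup (MulAut S), (Nat.card H).Coprime 2 → IsMulCommutative H ∧ ∀ h ∈ H, h ^ (2 - 1) = 1) : False := by
  haveI : NeZero n := ⟨by omega⟩
  obtain ⟨k, hk⟩ := IsPGroup.iff_card.1 hS
  have h3 : Nat.card S = 4 * n := by
    rw [Nat.card_congr e.toEquiv, Cfsg.Agent.Lib.Classical.Quat.card_quaternion]
  have h4 : n ∣ 2 ^ k := by
    rw [← hk, h3]
    exact Dvd.intro_left 4 rfl
  obtain ⟨j, -, rfl⟩ := (Nat.dvd_prime_pow Nat.prime_two).1 h4
  match j, hn, e with
  | 0, hn, e => simp at hn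
  | 1, hn, e =>
    exact q8_contra (cond_transport e.symm h2)
  | j + 2, hn, e =>
    exact quat_not_normal hS (by omega) e h1

/-- Dihedral groups of 2-power order fail. -/
theorem fwd_dih [Fact (Nat.Prime 2)] (hS : IsPGroup 2 S) {n : ℕ} (hn : 2 ≤ n) (e : S ≃* DihedralGroup n)
    (h1 : ∀ F : FusionSystem S, F.IsSaturated 2 → F.IsNormal S)
    (h2 : ∀ H : Subgroup (MulAut S), (Nat.card H).Coprime 2 → IsMulCommutative H ∧ ∀ h ∈ H, h ^ (2 - 1) = 1) : False := by
  obtain ⟨k, hk⟩ := IsPGroup.iff_card.1 hS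
  have h3 : Nat.card S = 2 * n := by
    rw [Nat.card_congr e.toEquiv, DihedralGroup.nat_card]
  have h4 : n ∣ 2 ^ k := by
    rw [← hk, h3]
    exact Dvd.intro_left 2 rfl
  obtain ⟨j, -, rfl⟩ := (Nat.dvd_prime_pow Nat.prime_two).1 h4
  match j, hn, e with
  | 0, hn, e => simp at hn
  | 1, hn, e =>
    exact v4_contra (cond_transport e.symm h2)
  | j + 2, hn, e =>
    exact dih_not_normal hS (by omega) e h1

/-- `(⟹)` in general. -/
theorem fwd_all (p : ℕ) [Fact p.Prime] (hS : IsPGroup p S)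
    (h1 : ∀ F : FusionSystem S, F.IsSaturated p → F.IsNormal S)
    (h2 : ∀ H : Subgroup (MulAut S), (Nat.card H).Coprime p → IsMulCommutative H ∧ ∀ h ∈ H, h ^ (p - 1) = 1) :
    ¬ ((∃ n : ℕ, 0 < n ∧ Nonempty (S ≃* Multiplicative (ZMod (p ^ n)) × Multiplicative (ZMod (p ^ n)))) ∨
      (p = 2 ∧ ((∃ n : ℕ, 2 ≤ n ∧ Nonempty (S ≃* DihedralGroup n)) ∨ IsQuasiDihedral S ∨
        (∃ n : ℕ, 2 ≤ n ∧ Nonempty (S ≃* QuaternionGroup n))))) := by
  rintro (⟨n, hn, ⟨e⟩⟩ | ⟨rfl, (⟨n, hn, ⟨e⟩⟩ | hsd | ⟨n, hn, ⟨e⟩⟩)⟩)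
  · exact noSplit_of_cond h2 ⟨n, PUnit.{1}, inferInstance, hn, ⟨e.trans MulEquiv.prodUnique.symm⟩⟩
  · exact fwd_dih hS hn e h1 h2
  · exact sd_not_normal hS hsd h1
  · exact fwd_quat hS hn e h1 h2

end Forward

end Cfsg.Agent.Lib.Cl.SuperSol
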