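import Mathlib
import Cfsg.Agent.S0199
import Cfsg.Agent.Lib.Hall.CoprimeLemmas

/-! Groups with no element of odd prime order inverted: the Sylow `2`-subgroup is normal. -/

set_option autoImplicit false

namespace Cfsg.Agent.Lib.Cl

open Subgroup

universe u

/-- No element of odd prime order is conjugate to its inverse. -/
def NoInv (G : Type*) [Group G] : Prop :=
  ∀ (v w : G) (q : ℕ), q.Prime → q ≠ 2 → orderOf v = q → w * v * w⁻¹ ≠ v⁻¹

section
variable {X : Type*} [Group X] [Finite X]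

theorem conj_of_card {q k : ℕ} (hq : q.Prime) (hq2 : q ≠ 2)
    (hX : Nat.card X = q * 2 ^ k) {a b : X} (ha : orderOf a = q) (hb : orderOf b = q) :
    ∃ (u : X) (c : ℤ), u⁻¹ * b * u = a ^ c := by
  haveI : Fact q.Prime := ⟨hq⟩
  have hnd : ∀ x : X, orderOf x = q → ¬ q ∣ (zpowers x).index := by
    intro x hx h
    have h1 := Subgroup.card_mul_index (zpowers x)
    rw [Nat.card_zpowers, hx, hX] at h1
    have h2 : (zpowers x).index = 2 ^ k := Nat.eq_of_mul_eq_mul_left hq.pos h1
    rw [h2] at h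
    have := hq.dvd_of_dvd_pow h
    exact hq2 ((Nat.prime_dvd_prime_iff_eq hq Nat.prime_two).mp this)
  have hpg : ∀ x : X, orderOf x = q → IsPGroup q (zpowers x) := fun x hx =>
    IsPGroup.of_card (n := 1) (by rw [Nat.card_zpowers, hx, pow_one])
  let Sa : Sylow q X := (hpg a ha).toSylow (hnd a ha)
  let Sb : Sylow q X := (hpg b hb).toSylow (hnd b hb)
  obtain ⟨u, hu⟩ := MulAction.exists_smul_eq X Sa Sb
  have h1 : b ∈ (Sb : Subgroup X) := by
    show b ∈ zpowers b
    exact mem_zpowers b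
  rw [← hu, Sylow.coe_subgroup_smul, Subgroup.mem_smul_pointwise_iff_exists] at h1
  obtain ⟨s, hs, hsb⟩ := h1
  have hs' : s ∈ zpowers a := hs
  obtain ⟨c, rfl⟩ := mem_zpowers_iff.mp hs'
  refine ⟨u, c, ?_⟩
  rw [← hsb, MulAut.smul_def, MulAut.conj_apply]
  group

end

section
variable {G : Type*} [Group G] [Finite G]

/-- An element of odd prime order in a quotient by a normal `2`-subgroup lifts to one of the same order. -/
theorem lift_order {N : Subgroup G} [N.Normal] (hN : IsPGroup 2 N) {q : ℕ} (hq : q.Prime) (hq2 : q ≠ 2)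
    {b : G ⧸ N} (hb : orderOf b = q) : ∃ v : G, (v : G ⧸ N) = b ∧ orderOf v = q := by
  haveI : Fact q.Prime := ⟨hq⟩
  obtain ⟨x, rfl⟩ := QuotientGroup.mk_surjective b
  have hbq : (x : G ⧸ N) ^ q = 1 := by rw [← hb]; exact pow_orderOf_eq_one _
  have hxN : x ^ q ∈ N := by
    rw [← QuotientGroup.eq_one_iff, QuotientGroup.mk_pow]; exact hbq
  obtain ⟨a, ha⟩ := hN ⟨x ^ q, hxN⟩
  have ha' : (x ^ q) ^ 2 ^ a = 1 := by simpa using congrArg Subtype.val ha
  have hcop : Nat.Coprime (2 ^ a) q :=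
    Nat.Coprime.pow_left a ((Nat.coprime_primes Nat.prime_two hq).mpr (Ne.symm hq2))
  obtain ⟨c, hc⟩ := Nat.exists_mul_mod_eq_one_of_coprime hcop hq.one_lt
  have hv : ((x ^ (2 ^ a * c) : G) : G ⧸ N) = (x : G ⧸ N) := by
    rw [QuotientGroup.mk_pow, pow_eq_pow_mod _ hbq, hc.2, pow_one]
  refine ⟨x ^ (2 ^ a * c), hv, ?_⟩
  apply orderOf_eq_prime
  · rw [← pow_mul, show 2 ^ a * c * q = q * 2 ^ a * c by ring, pow_mul, pow_mul, ha', one_pow]
  · intro h
    rw [h] at hv
    have : (x : G ⧸ N) = 1 := hv.symm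
    rw [this, orderOf_one] at hb
    exact hq.ne_one hb.symm

theorem noInv_quot {N : Subgroup G} [N.Normal] (hN : IsPGroup 2 N) (h : NoInv G) : NoInv (G ⧸ N) := by
  intro vb wb q hq hq2 hvb hw
  haveI : Fact q.Prime := ⟨hq⟩
  obtain ⟨v, rfl, hv⟩ := lift_order hN hq hq2 hvb
  obtain ⟨y, rfl⟩ := QuotientGroup.mk_surjective wb
  -- elements of order dividing `q` in `N` are trivial
  have hNq : ∀ z ∈ N, z ^ q = 1 → z = 1 := by
    intro z hz hzq
    obtain ⟨a, ha⟩ := hN ⟨z, hz⟩
    have ha' : z ^ 2 ^ a = 1 := by simpa using congrArg Subtype.val ha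
    have hcop : Nat.Coprime q (2 ^ a) :=
      Nat.Coprime.pow_right a ((Nat.coprime_primes hq Nat.prime_two).mpr hq2)
    exact (pow_eq_one_iff_of_coprime hcop).mp ⟨hzq, ha'⟩
  have hvq : v ^ q = 1 := by rw [← hv]; exact pow_orderOf_eq_one v
  set U : Subgroup G := zpowers v ⊔ N with hU
  have hvU : v ∈ U := (le_sup_left : zpowers v ≤ U) (mem_zpowers v)
  set v' : G := y * v * y⁻¹ with hv'
  have hv'q : orderOf v' = q := by
    rw [hv', ← MulAut.conj_apply, ← hv]
    exact MulEquiv.orderOf_eq _ _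
  have hmk : ((v' : G) : G ⧸ N) = ((v⁻¹ : G) : G ⧸ N) := by
    rw [hv']
    exact hw
  have hv'U : v' ∈ U := by
    have h1 : v * v' ∈ N := by
      have := QuotientGroup.eq.mp hmk.symm
      simpa using this
    have h2 : v' = v⁻¹ * (v * v') := by group
    rw [h2]
    exact mul_mem (inv_mem hvU) ((le_sup_right : N ≤ U) h1)
  -- the order of `U`
  obtain ⟨k, hk⟩ := IsPGroup.iff_card.mp hN
  have hcardU : Nat.card U = q * 2 ^ k := by
    have h1 : N.relIndex U = N.relIndex (zpowers v) := Subgroup.relIndex_sup_right (zpowers v) N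
    have h2 : N.relIndex (zpowers v) = q := by
      have h3 := Subgroup.card_mul_index (N.subgroupOf (zpowers v))
      have h4 : N.subgroupOf (zpowers v) = ⊥ := by
        rw [eq_bot_iff]
        intro z hz
        have hz1 : (z : G) ∈ N := Subgroup.mem_subgroupOf.mp hz
        obtain ⟨i, hi⟩ := mem_zpowers_iff.mp z.2
        have hz2 : (z : G) ^ q = 1 := by
          rw [← hi, ← zpow_natCast, ← zpow_mul, mul_comm, zpow_mul, zpow_natCast, hvq, one_zpow]
        rw [Subgroup.mem_bot]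
        exact Subtype.ext (hNq _ hz1 hz2)
      have h5 : Nat.card (N.subgroupOf (zpowers v)) = 1 := by
        rw [h4]; exact Subgroup.card_bot
      rw [h5, one_mul, Nat.card_zpowers, hv] at h3
      exact h3
    have h5 := Subgroup.card_mul_index (N.subgroupOf U)
    have h6 : Nat.card (N.subgroupOf U) = Nat.card N :=
      Nat.card_congr (Subgroup.subgroupOfEquivOfLe (le_sup_right : N ≤ U)).toEquiv
    rw [h6, hk] at h5
    have h7 : (N.subgroupOf U).index = q := by
      show N.relIndex U = q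
      rw [h1, h2]
    rw [h7] at h5
    rw [← h5, mul_comm]
  obtain ⟨u, c, huc⟩ := conj_of_card (X := U) (a := ⟨v, hvU⟩) (b := ⟨v', hv'U⟩) hq hq2 hcardU
    (by rw [Subgroup.orderOf_mk, hv]) (by rw [Subgroup.orderOf_mk, hv'q])
  have huc' : (u : G)⁻¹ * v' * u = v ^ c := by
    have := congrArg Subtype.val huc
    simpa using this
  -- `u` maps into the subgroup generated by the image of `v`
  obtain ⟨s, hs, n, hn, husn⟩ := Subgroup.mem_sup_of_normal_right.mp u.2
  obtain ⟨i, hi⟩ := mem_zpowers_iff.mp hs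
  have hucomm : ((u : G) : G ⧸ N) = ((v ^ i : G) : G ⧸ N) := by
    rw [← husn, hi, QuotientGroup.mk_mul, (QuotientGroup.eq_one_iff n).mpr hn, mul_one]
  have hcmk : ((v ^ c : G) : G ⧸ N) = ((v⁻¹ : G) : G ⧸ N) := by
    have hcc : Commute ((v ^ i : G) : G ⧸ N) ((v⁻¹ : G) : G ⧸ N) := by
      have : Commute (v ^ i) v⁻¹ := ((Commute.refl v).inv_right).zpow_left i
      exact this.map (QuotientGroup.mk' N)
    rw [← huc', QuotientGroup.mk_mul, QuotientGroup.mk_mul, hmk, QuotientGroup.mk_inv, hucomm,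
      hcc.inv_left.eq, inv_mul_cancel_right]
  have hfinal : v ^ c = v⁻¹ := by
    have h1 := QuotientGroup.eq.mp hcmk
    have h2 : ((v ^ c)⁻¹ * v⁻¹) ^ q = 1 := by
      have hcomm : Commute (v ^ c)⁻¹ v⁻¹ := ((Commute.refl v).zpow_left c).inv_left.inv_right
      rw [hcomm.mul_pow, inv_pow, inv_pow, ← zpow_natCast (v ^ c) q, ← zpow_mul, mul_comm, zpow_mul,
        zpow_natCast, hvq, one_zpow]
      simp [hvq]
    have h3 := hNq _ h1 h2
    have h4 : (v ^ c)⁻¹ = v := by
      have := mul_eq_one_iff_eq_inv.mp h3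
      simpa using this
    exact inv_eq_iff_eq_inv.mp h4
  apply h v ((u : G)⁻¹ * y) q hq hq2 hv
  rw [← hfinal, ← huc', hv']
  group

theorem noInv_exists_normal (h : NoInv G) {t : G} (ht : orderOf t = 2) :
    ∃ N : Subgroup G, N.Normal ∧ IsPGroup 2 N ∧ t ∈ N := by
  haveI : Fact (Nat.Prime 2) := ⟨Nat.prime_two⟩
  have ht2 : t ^ 2 = 1 := by rw [← ht]; exact pow_orderOf_eq_one t
  have htinv : t⁻¹ = t := inv_eq_of_mul_eq_one_left (by rw [← pow_two]; exact ht2)
  have hX : IsPGroup 2 (zpowers t) :=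
    IsPGroup.of_card (n := 1) (by rw [Nat.card_zpowers, ht, pow_one])
  have hbs : ∀ g : G, IsPGroup 2 ↥(zpowers t ⊔ (zpowers t).map (MulAut.conj g).toMonoidHom) := by
    intro g
    set s : G := g * t * g⁻¹ with hs
    have hs2 : s ^ 2 = 1 := by
      rw [hs, conj_pow, ht2]; simp
    have hsinv : s⁻¹ = s := inv_eq_of_mul_eq_one_left (by rw [← pow_two]; exact hs2)
    have hmap : (zpowers t).map (MulAut.conj g).toMonoidHom = zpowers s := by
      rw [MonoidHom.map_zpowers]
      rfl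
    rw [hmap]
    set u : G := t * s with hu
    have hinv : t * u * t⁻¹ = u⁻¹ := by
      rw [hu, mul_inv_rev, hsinv, htinv]
      have : t * t = 1 := by rw [← pow_two]; exact ht2
      calc t * (t * s) * t = (t * t) * (s * t) := by group
        _ = s * t := by rw [this, one_mul]
    -- `u` has `2`-power order
    have hupow : ∃ k, orderOf u = 2 ^ k := by
      have hO : orderOf u ≠ 0 := (orderOf_pos u).ne'
      refine ⟨_, Nat.eq_prime_pow_of_unique_prime_dvd hO ?_⟩
      intro q hq hqd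
      by_contra hq2
      have h1 := orderOf_pow_orderOf_div (x := u) (n := q) hO hqd
      apply h (u ^ (orderOf u / q)) t q hq hq2 h1
      rw [← conj_pow, hinv, inv_pow]
    obtain ⟨k, hk⟩ := hupow
    have hupg : IsPGroup 2 (zpowers u) :=
      IsPGroup.of_card (n := k) (by rw [Nat.card_zpowers, hk])
    have htn : zpowers t ≤ normalizer (zpowers u : Set G) := by
      rw [zpowers_le, Subgroup.mem_normalizer_iff]
      have hconj : ∀ x ∈ zpowers u, t * x * t⁻¹ ∈ zpowers u := by
        intro x hx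
        obtain ⟨j, rfl⟩ := mem_zpowers_iff.mp hx
        rw [← conj_zpow, hinv]
        exact zpow_mem (inv_mem (mem_zpowers u)) j
      intro x
      refine ⟨hconj x, fun hx => ?_⟩
      have h3 := hconj _ hx
      have h4 : t * (t * x * t⁻¹) * t⁻¹ = x := by
        rw [htinv]
        have : t * t = 1 := by rw [← pow_two]; exact ht2
        calc t * (t * x * t) * t = (t * t) * x * (t * t) := by group
          _ = x := by rw [this]; group
      rwa [h4] at h3
    have hD := IsPGroup.to_sup_of_normal_right' hX hupg htn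
    refine hD.to_le ?_
    refine sup_le le_sup_left ?_
    rw [zpowers_le]
    have hst : s = t⁻¹ * u := by rw [hu]; group
    rw [hst]
    exact mul_mem ((le_sup_left : zpowers t ≤ zpowers t ⊔ zpowers u) (inv_mem (mem_zpowers t)))
      ((le_sup_right : zpowers u ≤ zpowers t ⊔ zpowers u) (mem_zpowers u))
  obtain ⟨N, hN, hNp, hXN⟩ := Cfsg.Agent.S0199.result (zpowers t) hX hbs
  exact ⟨N, hN, hNp, hXN (mem_zpowers t)⟩

end

theorem noInv_exists_sylow : ∀ (n : ℕ) (G : Type u) [Group G] [Finite G], Nat.card G = n → NoInv G →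
    ∃ K : Subgroup G, K.Normal ∧ IsPGroup 2 K ∧ ¬ 2 ∣ K.index := by
  intro n
  induction n using Nat.strong_induction_on with
  | _ n ih =>
  intro G _ _ hn h
  haveI : Fact (Nat.Prime 2) := ⟨Nat.prime_two⟩
  by_cases h2 : 2 ∣ Nat.card G
  · obtain ⟨t, ht⟩ := exists_prime_orderOf_dvd_card' (G := G) 2 h2
    obtain ⟨N, hN, hNp, htN⟩ := noInv_exists_normal h ht
    have hcardN : 2 ≤ Nat.card N := by
      have h1 : orderOf t ∣ Nat.card N := by
        rw [← Subgroup.orderOf_mk t htN]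
        exact orderOf_dvd_natCard _
      rw [ht] at h1
      exact Nat.le_of_dvd Nat.card_pos h1
    have hlt : Nat.card (G ⧸ N) < n := by
      rw [← hn, Subgroup.card_eq_card_quotient_mul_card_subgroup N]
      have : 0 < Nat.card (G ⧸ N) := Nat.card_pos
      nlinarith
    obtain ⟨Kb, hKb, hKp, hKi⟩ := ih _ hlt (G ⧸ N) rfl (noInv_quot hNp h)
    refine ⟨Kb.comap (QuotientGroup.mk' N), inferInstance, ?_, ?_⟩
    · intro x
      obtain ⟨x, hx⟩ := x
      obtain ⟨a, ha⟩ := hKp ⟨(x : G ⧸ N), hx⟩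
      have ha' : ((x : G ⧸ N)) ^ 2 ^ a = 1 := by simpa using congrArg Subtype.val ha
      have hxN : x ^ 2 ^ a ∈ N := by
        rw [← QuotientGroup.eq_one_iff, QuotientGroup.mk_pow]; exact ha'
      obtain ⟨b, hb⟩ := hNp ⟨_, hxN⟩
      have hb' : (x ^ 2 ^ a) ^ 2 ^ b = 1 := by simpa using congrArg Subtype.val hb
      refine ⟨a + b, Subtype.ext ?_⟩
      show x ^ 2 ^ (a + b) = 1
      rw [pow_add, pow_mul]
      exact hb'
    · rwa [Subgroup.index_comap_of_surjective _ (QuotientGroup.mk'_surjective N)]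
  · exact ⟨⊥, inferInstance, IsPGroup.of_bot, by rwa [Subgroup.index_bot]⟩

/-- If no element of odd prime order is inverted, the Sylow `2`-subgroups are normal. -/
theorem normal_of_noInv {G : Type u} [Group G] [Finite G] (h : NoInv G) (P : Sylow 2 G) :
    (P : Subgroup G).Normal := by
  haveI : Fact (Nat.Prime 2) := ⟨Nat.prime_two⟩
  obtain ⟨K, hK, hKp, hKi⟩ := noInv_exists_sylow _ G rfl h
  have h1 := P.is_maximal' (Q := (P : Subgroup G) ⊔ K) (P.isPGroup'.to_sup_of_normal_right hKp) le_sup_left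
  have hKP : K ≤ (P : Subgroup G) := by
    have h2 : K ≤ (P : Subgroup G) ⊔ K := le_sup_right
    rwa [h1] at h2
  have hPK : (P : Subgroup G) ≤ K := by
    intro x hx
    obtain ⟨a, ha⟩ := P.isPGroup' ⟨x, hx⟩
    have ha' : x ^ 2 ^ a = 1 := by simpa using congrArg Subtype.val ha
    rw [← QuotientGroup.eq_one_iff]
    have h3 : ((x : G) : G ⧸ K) ^ 2 ^ a = 1 := by
      rw [← QuotientGroup.mk_pow, ha']; rfl
    have h4 : ((x : G) : G ⧸ K) ^ K.index = 1 := by
      rw [Subgroup.index_eq_card]; exact pow_card_eq_one'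
    have hc : Nat.Coprime (2 ^ a) K.index :=
      Nat.Coprime.pow_left a ((Nat.Prime.coprime_iff_not_dvd Nat.prime_two).mpr hKi)
    exact (pow_eq_one_iff_of_coprime hc).mp ⟨h3, h4⟩
  have : (P : Subgroup G) = K := le_antisymm hPK hKP
  rw [this]
  exact hK

end Cfsg.Agent.Lib.Cl
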