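import Cfsg.Agent.Lib.Cl.MetaQD
import Cfsg.Agent.Lib.Fusion.Simple
import Cfsg.Agent.Lib.Fusion.Invariant
import Cfsg.Agent.S1896
import Cfsg.Agent.Lib.KS2.PSL2
import Cfsg.Agent.Lib.Classical.QuatSL2
import Cfsg.Agent.Lib.Classical.SL2Sylow
import Mathlib

/-! # The 2-fusion system of `PSL₂(q)`, `q` odd -/

set_option autoImplicit false
set_option linter.unusedSectionVars false
set_option linter.unusedVariables false

namespace Cfsg.Agent.Lib.Cl.PSL2Simple

section Mat

open Matrix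

variable {F : Type*} [Field F]

/-- Square roots of `-1` have trace zero. -/
theorem trace_zero_of_sq (M : SpecialLinearGroup (Fin 2) F) (hM : (M : Matrix (Fin 2) (Fin 2) F) * M = -1) :
    M.1 1 1 = - M.1 0 0 := by
  have hdet : M.1 0 0 * M.1 1 1 - M.1 0 1 * M.1 1 0 = 1 := by
    have := M.2
    rwa [Matrix.det_fin_two] at this
  have h00 := congrFun (congrFun hM 0) 0
  have h01 := congrFun (congrFun hM 0) 1
  have h10 := congrFun (congrFun hM 1) 0
  have h11 := congrFun (congrFun hM 1) 1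
  simp [Matrix.mul_apply, Fin.sum_univ_two] at h00 h01 h10 h11
  by_contra hne
  have hs : M.1 0 0 + M.1 1 1 ≠ 0 := fun h => hne (by linear_combination h)
  have hq : M.1 0 1 = 0 := by
    have : M.1 0 1 * (M.1 0 0 + M.1 1 1) = 0 := by linear_combination h01
    exact (mul_eq_zero.1 this).resolve_right hs
  have hr : M.1 1 0 = 0 := by
    have : M.1 1 0 * (M.1 0 0 + M.1 1 1) = 0 := by linear_combination h10
    exact (mul_eq_zero.1 this).resolve_right hs
  rw [hq] at hdet h00 h11
  simp only [mul_zero, zero_mul, sub_zero, add_zero, zero_add] at hdet h00 h11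
  apply hs
  have h1 : (M.1 0 0 + M.1 1 1) * M.1 1 1 = 0 := by linear_combination hdet + h11
  have hs0 : M.1 1 1 ≠ 0 := by
    intro h
    rw [h, mul_zero] at hdet
    exact zero_ne_one hdet
  exact (mul_eq_zero.1 h1).resolve_right hs0

/-- Conjugacy of square roots of `-1` up to sign, inside matrices. -/
theorem exists_conj_sq [Fintype F] (h2 : (2 : F) ≠ 0) (hodd : Fintype.card F % 2 = 1) (M M' : SpecialLinearGroup (Fin 2) F)
    (hM : (M : Matrix (Fin 2) (Fin 2) F) * M = -1) (hM' : (M' : Matrix (Fin 2) (Fin 2) F) * M' = -1) :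
    ∃ (g : SpecialLinearGroup (Fin 2) F) (σ : F), σ * σ = 1 ∧
      (g : Matrix (Fin 2) (Fin 2) F) * M = σ • ((M' : Matrix (Fin 2) (Fin 2) F) * g) := by
  classical
  set C : Matrix (Fin 2) (Fin 2) F := (M' : Matrix (Fin 2) (Fin 2) F) * M with hC
  have hdetC : C.det = 1 := by
    rw [hC, Matrix.det_mul, M.2, M'.2, mul_one]
  obtain ⟨σ, hσ, hne⟩ : ∃ σ : F, σ * σ = 1 ∧ (1 - σ • C).det ≠ 0 := by
    have hdet : ∀ σ : F, σ * σ = 1 → (1 - σ • C).det = 2 - σ * (C 0 0 + C 1 1) := by
      intro σ hσ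
      have h3 : C 0 0 * C 1 1 - C 0 1 * C 1 0 = 1 := by
        rw [← Matrix.det_fin_two]
        exact hdetC
      rw [Matrix.det_fin_two]
      simp [Matrix.smul_apply, Matrix.one_apply]
      linear_combination (σ * σ) * h3 + (C 0 0 * C 1 1 - C 0 1 * C 1 0) * 0 + hσ
    by_cases h4 : C 0 0 + C 1 1 = 2
    · refine ⟨-1, by ring, ?_⟩
      rw [hdet _ (by ring), h4]
      intro h5
      apply h2
      have : (2 : F) + 2 = 0 := by linear_combination h5
      have h6 : (2 : F) * 2 = 0 := by linear_combination this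
      exact (mul_self_eq_zero.1 h6)
    · refine ⟨1, by ring, ?_⟩
      rw [hdet _ (by ring)]
      intro h5
      exact h4 (by linear_combination -h5)
  set N : Matrix (Fin 2) (Fin 2) F := 1 - σ • C with hN
  obtain ⟨a, b, hab⟩ : ∃ a b : F, a * a + b * b = N.det⁻¹ := by
    have := FiniteField.exists_root_sum_quadratic (R := F) (f := Polynomial.X ^ 2)
      (g := Polynomial.X ^ 2 - Polynomial.C N.det⁻¹)
      (by simp) (by compute_degree!) hodd
    obtain ⟨a, b, h⟩ := this
    refine ⟨a, b, ?_⟩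
    simp at h
    linear_combination h
  set z : Matrix (Fin 2) (Fin 2) F := a • 1 + b • (M : Matrix (Fin 2) (Fin 2) F) with hz
  have hdetz : z.det = a * a + b * b := by
    have h3 := trace_zero_of_sq M hM
    have hdet : M.1 0 0 * M.1 1 1 - M.1 0 1 * M.1 1 0 = 1 := by
      have := M.2
      rwa [Matrix.det_fin_two] at this
    rw [hz, Matrix.det_fin_two]
    simp [Matrix.smul_apply, Matrix.one_apply]
    rw [h3] at hdet ⊢
    linear_combination (b * b) * hdet
  have hdetg : (N * z).det = 1 := by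
    rw [Matrix.det_mul, hdetz, hab]
    exact mul_inv_cancel₀ hne
  refine ⟨⟨N * z, hdetg⟩, σ, hσ, ?_⟩
  show N * z * (M : Matrix (Fin 2) (Fin 2) F) = σ • ((M' : Matrix (Fin 2) (Fin 2) F) * (N * z))
  have hzM : z * (M : Matrix (Fin 2) (Fin 2) F) = (M : Matrix (Fin 2) (Fin 2) F) * z := by
    rw [hz, add_mul, mul_add, Matrix.smul_mul, Matrix.smul_mul, Matrix.mul_smul, Matrix.mul_smul, mul_one, one_mul]
  have hNM : N * (M : Matrix (Fin 2) (Fin 2) F) = σ • ((M' : Matrix (Fin 2) (Fin 2) F) * N) := by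
    rw [hN, hC, sub_mul, mul_sub, Matrix.smul_mul, mul_assoc, hM, smul_sub, Matrix.mul_smul, one_mul, mul_one, smul_smul, hσ, one_smul,
      ← mul_assoc, hM']
    simp
    abel
  rw [mul_assoc, hzM, ← mul_assoc, hNM, Matrix.smul_mul, mul_assoc]

end Mat

section Abstract

open Cfsg Cfsg.FusionSystem Cfsg.Agent.Lib.Fusion

variable {Ω : Type*} [Group Ω] {S : Subgroup Ω} {F : FusionSystem S}

/-- When the automorphism group of `S` is a `p`-group, all automorphisms of `S` in a saturated system are inner. -/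
theorem autGroup_eq_inn [Finite S] {p : ℕ} [Fact p.Prime] (hS : IsPGroup p S) (hF : F.IsSaturated p)
    (hA : IsPGroup p (MulAut S)) : F.autGroup S = Inn ↥S := by
  classical
  haveI : Finite (MulAut S) := finite_mulAut S
  refine le_antisymm ?_ (inn_le_autGroup F le_rfl)
  obtain ⟨-, R, hR⟩ := IsSat.fullyAutomized_of_fullyNormalized hS hF (isFullyNormalized_top (F := F))
  have hp : IsPGroup p (⊤ : Subgroup (F.autGroup S)) :=
    IsPGroup.to_subgroup (IsPGroup.to_subgroup hA _) _
  have hRtop : (R : Subgroup (F.autGroup S)) = ⊤ := (R.is_maximal' hp le_top).symm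
  intro α hα
  have h1 : (⟨α, hα⟩ : F.autGroup S) ∈ (R : Subgroup (F.autGroup S)) := by
    rw [hRtop]
    trivial
  rw [hR, Subgroup.mem_subgroupOf] at h1
  obtain ⟨g, hg, hv⟩ := mem_autInducedBy_iff.1 h1
  refine ⟨⟨g, hg⟩, MulEquiv.ext fun x => Subtype.ext ?_⟩
  rw [hv x]
  simp [MulAut.conj_apply]

/-- A group `⟨t⟩ ∪ w⟨t⟩` with `w` inverting `t` is metacyclic. -/
theorem isMetacyclic_of_dih {X : Type*} [Group X] [Finite X] (t w : X) (hwt : w * t * w⁻¹ = t⁻¹)
    (hform : ∀ y : X, ∃ m : ℕ, y = t ^ m ∨ y = w * t ^ m) : Cfsg.IsMetacyclic X := by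
  have hmem : ∀ y : X, y ∈ Subgroup.zpowers t → ∀ g : X, g * y * g⁻¹ ∈ Subgroup.zpowers t := by
    rintro y ⟨k, rfl⟩ g
    obtain ⟨m, rfl | rfl⟩ := hform g
    · refine ⟨k, ?_⟩
      have : Commute (t ^ m) (t ^ k : X) := by
        have := (Commute.refl t).zpow_zpow (m : ℤ) k
        simpa using this
      show t ^ k = t ^ m * t ^ k * (t ^ m)⁻¹
      rw [this.eq]
      group
    · refine ⟨-k, ?_⟩
      have e : w * t ^ k * w⁻¹ = (t ^ k)⁻¹ := by
        rw [← conj_zpow, hwt]
        group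
      have hc : Commute (t ^ m) (t ^ k : X) := by
        have := (Commute.refl t).zpow_zpow (m : ℤ) k
        simpa using this
      show t ^ (-k) = w * t ^ m * t ^ k * (w * t ^ m)⁻¹
      rw [mul_assoc w, hc.eq, mul_inv_rev]
      calc t ^ (-k) = (w * t ^ k * w⁻¹) := by rw [e]; group
        _ = _ := by group
  haveI hN : (Subgroup.zpowers t).Normal := ⟨hmem⟩
  refine ⟨Subgroup.zpowers t, hN, inferInstance, ?_⟩
  refine ⟨⟨(w : X), ?_⟩⟩
  intro y
  obtain ⟨y, rfl⟩ := QuotientGroup.mk_surjective y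
  obtain ⟨m, rfl | rfl⟩ := hform y
  · refine ⟨0, ?_⟩
    symm
    simp only [zpow_zero]
    exact (QuotientGroup.eq_one_iff _).2 (Subgroup.npow_mem_zpowers _ _)
  · refine ⟨1, ?_⟩
    simp only [zpow_one]
    symm
    rw [QuotientGroup.mk_mul]
    have : ((t ^ m : X) : X ⧸ Subgroup.zpowers t) = 1 :=
      (QuotientGroup.eq_one_iff _).2 (Subgroup.npow_mem_zpowers _ _)
    rw [this, mul_one]

/-- The simplicity criterion for a dihedral Sylow `2`-subgroup with a single class of involutions. -/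
theorem isSimple_of_dih {G : Type*} [Group G] [Finite G] (S : Sylow 2 G) (t w : G) (htS : t ∈ (S : Subgroup G))
    (hwS : w ∈ (S : Subgroup G)) (hw : w * w = 1) (hwt : w * t * w⁻¹ = t⁻¹) (ht2 : t * t ≠ 1)
    (hne : ∀ m : ℕ, w * t ^ m ≠ 1) (hform : ∀ y ∈ (S : Subgroup G), ∃ m : ℕ, y = t ^ m ∨ y = w * t ^ m)
    (hconj : ∀ i j : G, orderOf i = 2 → orderOf j = 2 → ∃ g : G, g * i * g⁻¹ = j) :
    (groupFusionSystem (S : Subgroup G)).IsSimple 2 := by
  classical
  haveI : Fact (Nat.Prime 2) := ⟨Nat.prime_two⟩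
  have hwinv : w⁻¹ = w := inv_eq_of_mul_eq_one_left hw
  have hS : IsPGroup 2 (S : Subgroup G) := S.isPGroup'
  have hF : (groupFusionSystem (S : Subgroup G)).IsSaturated 2 := by
    rw [groupFusionSystem_eq]
    exact isSaturated_fH le_top (isSylowIn_of_sylow S)
  have hw1 : w ≠ 1 := by simpa using hne 0
  have hwt1 : w * t ≠ 1 := by simpa using hne 1
  have hwt2 : (w * t) * (w * t) = 1 := by
    have h1 : w * t * w = t⁻¹ := by simpa [hwinv] using hwt
    rw [← mul_assoc, h1, inv_mul_cancel]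
  have ord_w : orderOf w = 2 := orderOf_eq_prime (by rw [pow_two, hw]) hw1
  have ord_wt : orderOf (w * t) = 2 := orderOf_eq_prime (by rw [pow_two, hwt2]) hwt1
  have hS1 : (S : Subgroup G) ≠ ⊥ := by
    intro h
    rw [h] at hwS
    exact hw1 (Subgroup.mem_bot.1 hwS)
  have hgen : Subgroup.closure {x : G | x ∈ (S : Subgroup G) ∧ orderOf x = 2} = (S : Subgroup G) := by
    refine le_antisymm ?_ ?_
    · rw [Subgroup.closure_le]
      rintro x ⟨hx, -⟩
      exact hx
    · have hw' : w ∈ Subgroup.closure {x : G | x ∈ (S : Subgroup G) ∧ orderOf x = 2} :=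
        Subgroup.subset_closure ⟨hwS, ord_w⟩
      have hwt' : w * t ∈ Subgroup.closure {x : G | x ∈ (S : Subgroup G) ∧ orderOf x = 2} :=
        Subgroup.subset_closure ⟨mul_mem hwS htS, ord_wt⟩
      have ht' : t ∈ Subgroup.closure {x : G | x ∈ (S : Subgroup G) ∧ orderOf x = 2} := by
        have : t = w⁻¹ * (w * t) := by group
        rw [this]
        exact mul_mem (inv_mem hw') hwt'
      intro y hy
      obtain ⟨m, rfl | rfl⟩ := hform y hy
      · exact pow_mem ht' m
      · exact mul_mem hw' (pow_mem ht' m)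
  have hgenZ : ∀ A : Subgroup G, Nat.card A = 2 → ∃ i : G, orderOf i = 2 ∧ A = Subgroup.zpowers i := by
    intro A hA
    haveI : Finite A := Nat.finite_of_card_ne_zero (by omega)
    obtain ⟨x, hx⟩ := exists_prime_orderOf_dvd_card' (G := A) 2 (by rw [hA])
    have hxO : orderOf (x : G) = 2 := by
      rw [Subgroup.orderOf_coe]
      exact hx
    refine ⟨x, hxO, ?_⟩
    symm
    apply Subgroup.eq_of_le_of_card_ge
    · rw [Subgroup.zpowers_le]
      exact x.2
    · rw [hA, Nat.card_zpowers, hxO]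
  have htr : ∀ A B : Subgroup G, A ≤ (S : Subgroup G) → B ≤ (S : Subgroup G) → Nat.card A = 2 → Nat.card B = 2 →
      (groupFusionSystem (S : Subgroup G)).IsConj A B := by
    intro A B hA hB hcA hcB
    obtain ⟨i, hi, rfl⟩ := hgenZ A hcA
    obtain ⟨j, hj, rfl⟩ := hgenZ B hcB
    obtain ⟨g, hg⟩ := hconj i j hi hj
    rw [groupFusionSystem_eq, isConj_fH_iff]
    refine ⟨hA, hB, g, trivial, ?_⟩
    rw [← hg]
    show (Subgroup.zpowers i).map (MulAut.conj g).toMonoidHom = _
    rw [MonoidHom.map_zpowers]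
    rfl
  have hA : IsPGroup 2 (MulAut (S : Subgroup G)) := by
    by_contra hA
    set t' : (S : Subgroup G) := ⟨t, htS⟩ with ht'
    set w' : (S : Subgroup G) := ⟨w, hwS⟩ with hw'
    have hm : Cfsg.IsMetacyclic (S : Subgroup G) := by
      refine isMetacyclic_of_dih t' w' (Subtype.ext hwt) ?_
      rintro ⟨y, hy⟩
      obtain ⟨m, rfl | rfl⟩ := hform y hy
      · exact ⟨m, Or.inl (Subtype.ext (by simp [ht']))⟩
      · exact ⟨m, Or.inr (Subtype.ext (by simp [ht', hw']))⟩
    rcases Cfsg.Agent.S1896.result hS hm hA with ⟨⟨e⟩⟩ | ⟨n, ⟨e⟩⟩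
    · have key : ∀ y : QuaternionGroup 2, y * y = 1 → y = 1 ∨ y = QuaternionGroup.a 2 := by decide
      have h1 : w' * w' = 1 := Subtype.ext hw
      have h2 : (w' * t') * (w' * t') = 1 := Subtype.ext hwt2
      have h3 : e w' = QuaternionGroup.a 2 := by
        refine (key (e w') (by rw [← map_mul, h1, map_one])).resolve_left ?_
        intro h
        have : w' = 1 := e.injective (by rw [h, map_one])
        exact hw1 (congrArg Subtype.val this)
      have h4 : e (w' * t') = QuaternionGroup.a 2 := by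
        refine (key (e (w' * t')) (by rw [← map_mul, h2, map_one])).resolve_left ?_
        intro h
        have : w' * t' = 1 := e.injective (by rw [h, map_one])
        exact hwt1 (congrArg Subtype.val this)
      have h5 : w' * t' = w' := e.injective (by rw [h3, h4])
      have h6 : t' = 1 := by simpa using h5
      apply ht2
      have : t = 1 := congrArg Subtype.val h6
      rw [this, one_mul]
    · have hc : w' * t' = t' * w' := e.injective (by rw [map_mul, map_mul, mul_comm])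
      have hc' : w * t = t * w := congrArg Subtype.val hc
      apply ht2
      have h1 : t = t⁻¹ := by
        rw [← hwt, hc']
        group
      calc t * t = t * t⁻¹ := by rw [← h1]
        _ = 1 := by group
  exact isSimple_of_transitive hS hF hS1 hgen htr (autGroup_eq_inn hS hF hA)

end Abstract

section PSL

open Matrix Cfsg.Agent.Lib.KS2.SL2
open scoped MatrixGroups

variable {F : Type*} [Field F] [Fintype F]

/-- Central elements of `SL₂` square to one. -/
theorem center_sq (z : SL(2, F)) (hz : z ∈ Subgroup.center SL(2, F)) : z * z = 1 := by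
  classical
  rw [Matrix.SpecialLinearGroup.mem_center_iff] at hz
  obtain ⟨r, hr, hrz⟩ := hz
  have hr2 : r * r = 1 := by
    simpa [pow_two] using hr
  apply Subtype.ext
  show (z : Matrix (Fin 2) (Fin 2) F) * z = 1
  rw [← hrz]
  ext i j
  simp [Matrix.scalar_apply, Matrix.diagonal_apply, Matrix.one_apply, Matrix.mul_apply, Fin.sum_univ_two]
  fin_cases i <;> fin_cases j <;> simp [hr2]

/-- Lift an involution of `PSL₂` to a square root of `-1` in `SL₂`. -/
theorem exists_lift_invol (h2 : (2 : F) ≠ 0) (x : Matrix.ProjectiveSpecialLinearGroup (Fin 2) F) (hx : orderOf x = 2) :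
    ∃ M : SL(2, F), pi M = x ∧ (M : Matrix (Fin 2) (Fin 2) F) * M = -1 := by
  classical
  obtain ⟨M, rfl⟩ := pi_surj x
  refine ⟨M, rfl, ?_⟩
  have h1 : pi M ^ 2 = 1 := orderOf_dvd_iff_pow_eq_one.1 (dvd_of_eq hx)
  have hne : pi M ≠ 1 := by
    intro h
    rw [h, orderOf_one] at hx
    omega
  have h3 : pi (M ^ 2) = 1 := by rwa [map_pow]
  have hc : M ^ 2 ∈ Subgroup.center SL(2, F) := (QuotientGroup.eq_one_iff _).1 h3
  rw [Matrix.SpecialLinearGroup.mem_center_iff] at hc
  obtain ⟨r, hr, hrM⟩ := hc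
  have hr2 : r * r = 1 := by
    simpa [pow_two] using hr
  have hM2 : (M : Matrix (Fin 2) (Fin 2) F) * M = ((M ^ 2 : SL(2, F)) : Matrix (Fin 2) (Fin 2) F) := by
    rw [pow_two]
    rfl
  rcases mul_self_eq_one_iff.1 hr2 with rfl | rfl
  · exfalso
    apply hne
    have hM1 : M ^ 2 = 1 := by
      apply Subtype.ext
      show ((M ^ 2 : SL(2, F)) : Matrix (Fin 2) (Fin 2) F) = 1
      rw [← hrM]
      ext i j
      simp [Matrix.scalar_apply, Matrix.diagonal_apply, Matrix.one_apply]
    exact (QuotientGroup.eq_one_iff _).2 (Cfsg.Agent.Lib.Classical.Quat.sq_eq_one_center h2 M hM1)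
  · rw [hM2, ← hrM]
    ext i j
    fin_cases i <;> fin_cases j <;> simp [Matrix.scalar_apply, Matrix.diagonal_apply, Matrix.one_apply]

/-- All involutions of `PSL₂` are conjugate. -/
theorem invol_conj (h2 : (2 : F) ≠ 0) (hodd : Fintype.card F % 2 = 1) (i j : Matrix.ProjectiveSpecialLinearGroup (Fin 2) F)
    (hi : orderOf i = 2) (hj : orderOf j = 2) : ∃ g, g * i * g⁻¹ = j := by
  obtain ⟨M, rfl, hM⟩ := exists_lift_invol h2 i hi
  obtain ⟨M', rfl, hM'⟩ := exists_lift_invol h2 j hj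
  obtain ⟨g, σ, hσ, hg⟩ := exists_conj_sq h2 hodd M M' hM hM'
  refine ⟨pi g, ?_⟩
  have h1 : g * M = sc σ hσ * (M' * g) := by
    apply Subtype.ext
    rw [sc_mul]
    exact hg
  have h3 : pi g * pi M = pi M' * pi g := by
    rw [← map_mul, h1, map_mul, sc_pi, one_mul, map_mul]
  rw [h3]
  group

theorem a_n_ne_one {n : ℕ} (hn : n ≠ 0) : (QuaternionGroup.a (n : ZMod (2 * n)) : QuaternionGroup n) ≠ 1 := by
  intro h
  rw [QuaternionGroup.one_def] at h
  have h1 : (n : ZMod (2 * n)) = 0 := QuaternionGroup.a.inj h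
  rw [ZMod.natCast_eq_zero_iff] at h1
  have := Nat.le_of_dvd (Nat.pos_of_ne_zero hn) h1
  omega

theorem xa_conj_a {n : ℕ} : (QuaternionGroup.xa 0 : QuaternionGroup n) * QuaternionGroup.a 1 * (QuaternionGroup.xa 0)⁻¹ =
    (QuaternionGroup.a 1)⁻¹ := by
  rw [mul_inv_eq_iff_eq_mul]
  have : (QuaternionGroup.a 1 : QuaternionGroup n)⁻¹ = QuaternionGroup.a (-1) := rfl
  rw [this, QuaternionGroup.a_mul_xa, QuaternionGroup.xa_mul_a]
  simp

/-- The dihedral data of a Sylow `2`-subgroup of `PSL₂(q)`. -/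
theorem exists_dih_data (hodd : Fintype.card F % 2 = 1) (h16 : 16 ∣ Fintype.card F ^ 2 - 1)
    (S : Sylow 2 (Matrix.ProjectiveSpecialLinearGroup (Fin 2) F)) :
    ∃ t w : Matrix.ProjectiveSpecialLinearGroup (Fin 2) F,
      t ∈ (S : Subgroup (Matrix.ProjectiveSpecialLinearGroup (Fin 2) F)) ∧
      w ∈ (S : Subgroup (Matrix.ProjectiveSpecialLinearGroup (Fin 2) F)) ∧
      w * w = 1 ∧ w * t * w⁻¹ = t⁻¹ ∧ t * t ≠ 1 ∧ (∀ m : ℕ, w * t ^ m ≠ 1) ∧
      ∀ y ∈ (S : Subgroup (Matrix.ProjectiveSpecialLinearGroup (Fin 2) F)), ∃ m : ℕ, y = t ^ m ∨ y = w * t ^ m := by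
  classical
  haveI : Fact (Nat.Prime 2) := ⟨Nat.prime_two⟩
  have h2 : (2 : F) ≠ 0 := by
    apply Ring.two_ne_zero
    intro h
    have := FiniteField.even_card_iff_char_two.1 h
    omega
  have hker : IsPGroup 2 (pi : SL(2, F) →* _).ker := by
    rintro ⟨z, hz⟩
    refine ⟨1, Subtype.ext ?_⟩
    have hz' : z ∈ Subgroup.center SL(2, F) := (QuotientGroup.eq_one_iff _).1 hz
    simpa [pow_two] using center_sq z hz'
  have hP := IsPGroup.comap_of_ker_isPGroup S.isPGroup' (pi : SL(2, F) →* _) hker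
  have hidx : ¬ 2 ∣ ((S : Subgroup _).comap (pi : SL(2, F) →* _)).index := by
    rw [Subgroup.index_comap_of_surjective _ pi_surj]
    exact S.not_dvd_index
  set P : Sylow 2 SL(2, F) := hP.toSylow hidx with hPd
  have hPc : (P : Subgroup SL(2, F)) = (S : Subgroup _).comap pi := rfl
  obtain ⟨k, hk1, ⟨e⟩⟩ : ∃ k : ℕ, 1 ≤ k ∧ Nonempty ((P : Subgroup SL(2, F)) ≃* QuaternionGroup (2 ^ k)) := by
    have h4 : Fintype.card F % 4 = 1 ∨ Fintype.card F % 4 = 3 := by omega
    rcases h4 with h4 | h4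
    · exact Cfsg.Agent.Lib.Classical.Quat.sylow_case_one h4 P
    · exact Cfsg.Agent.Lib.Classical.Quat.sylow_case_three h4 P
  have hk2 : 2 ≤ k := by
    have hq2 : 2 ^ 4 ∣ Nat.card SL(2, F) := by
      rw [Cfsg.Agent.Lib.Classical.card_SL2 (F := F)]
      have h1 : (Fintype.card F - 1) * (Fintype.card F + 1) = Fintype.card F ^ 2 - 1 := by
        have := Nat.sq_sub_sq (Fintype.card F) 1
        rw [one_pow] at this
        rw [this, mul_comm]
      rw [h1]
      exact Dvd.dvd.mul_left h16 _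
    have h3 := Sylow.pow_dvd_card_of_pow_dvd_card P hq2
    rw [Nat.card_congr e.toEquiv, Cfsg.Agent.Lib.Classical.Quat.card_quaternion] at h3
    by_contra hlt
    have hk : k = 1 := by omega
    subst hk
    norm_num at h3
  have hn4 : 4 ≤ 2 ^ k := by
    calc 4 = 2 ^ 2 := by norm_num
      _ ≤ 2 ^ k := Nat.pow_le_pow_right (by norm_num) hk2
  set n : ℕ := 2 ^ k with hn
  have hn0 : n ≠ 0 := by omega
  haveI : NeZero n := ⟨hn0⟩
  haveI : NeZero (2 * n) := ⟨by omega⟩
  set ι : QuaternionGroup n →* SL(2, F) := (P : Subgroup SL(2, F)).subtype.comp e.symm.toMonoidHom with hι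
  have hιinj : Function.Injective ι := by
    intro a b hab
    exact e.symm.injective (Subtype.ext hab)
  have hιP : ∀ q, ι q ∈ (P : Subgroup SL(2, F)) := fun q => (e.symm q).2
  have hιS : ∀ q, pi (ι q) ∈ (S : Subgroup _) := fun q => hιP q
  have hZ : pi (ι (QuaternionGroup.a (n : ZMod (2 * n)))) = 1 := by
    refine (QuotientGroup.eq_one_iff _).2 (Cfsg.Agent.Lib.Classical.Quat.sq_eq_one_center h2 _ ?_)
    rw [← map_pow, pow_two, QuaternionGroup.a_mul_a]
    have : (n : ZMod (2 * n)) + n = 0 := by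
      have h0 : ((2 * n : ℕ) : ZMod (2 * n)) = 0 := ZMod.natCast_self _
      push_cast at h0
      linear_combination h0
    rw [this, QuaternionGroup.a_zero, map_one]
  have hZ' : ∀ q : QuaternionGroup n, pi (ι q) = 1 → q * q = 1 := by
    intro q hq
    have h3 : ι q ∈ Subgroup.center SL(2, F) := (QuotientGroup.eq_one_iff _).1 hq
    have h4 := center_sq _ h3
    apply hιinj
    rw [map_mul, h4, map_one]
  refine ⟨pi (ι (QuaternionGroup.a 1)), pi (ι (QuaternionGroup.xa 0)), hιS _, hιS _, ?_, ?_, ?_, ?_, ?_⟩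
  · rw [← map_mul, ← map_mul, QuaternionGroup.xa_mul_xa]
    simpa using hZ
  · simp only [← map_mul, ← map_inv]
    rw [xa_conj_a]
  · rw [← map_mul, ← map_mul]
    intro h
    have h1 := hZ' _ h
    have h3 : (QuaternionGroup.a 1 : QuaternionGroup n) ^ 4 = 1 := by
      rw [← h1, pow_succ, pow_succ, pow_succ, pow_one]
      simp only [mul_assoc]
    have h4 := orderOf_dvd_of_pow_eq_one h3
    rw [QuaternionGroup.orderOf_a_one] at h4
    have := Nat.le_of_dvd (by norm_num) h4
    omega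
  · intro m h
    rw [← map_pow, ← map_pow, ← map_mul, ← map_mul] at h
    have h1 := hZ' _ h
    rw [QuaternionGroup.a_one_pow, QuaternionGroup.xa_mul_a, QuaternionGroup.xa_mul_xa] at h1
    simp only [sub_self, zero_add, add_sub_cancel_right] at h1
    exact a_n_ne_one hn0 (by simpa using h1)
  · intro y hy
    obtain ⟨Y, rfl⟩ := pi_surj y
    have hYP : Y ∈ (P : Subgroup SL(2, F)) := hy
    have hYι : Y = ι (e ⟨Y, hYP⟩) := by
      simp [hι]
    rcases hq : e ⟨Y, hYP⟩ with i | i
    · refine ⟨i.val, Or.inl ?_⟩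
      rw [hYι, hq, ← map_pow, ← map_pow, QuaternionGroup.a_one_pow]
      simp
    · refine ⟨i.val, Or.inr ?_⟩
      rw [hYι, hq, ← map_pow, ← map_pow, QuaternionGroup.a_one_pow, ← map_mul, ← map_mul, QuaternionGroup.xa_mul_a]
      simp

/-- `S5317`. -/
theorem psl2_isSimple (hodd : Fintype.card F % 2 = 1) (h16 : 16 ∣ Fintype.card F ^ 2 - 1)
    (S : Sylow 2 (Matrix.ProjectiveSpecialLinearGroup (Fin 2) F)) :
    (Cfsg.groupFusionSystem (S : Subgroup (Matrix.ProjectiveSpecialLinearGroup (Fin 2) F))).IsSimple 2 := by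
  have h2 : (2 : F) ≠ 0 := by
    apply Ring.two_ne_zero
    intro h
    have := FiniteField.even_card_iff_char_two.1 h
    omega
  obtain ⟨t, w, ht, hw, hww, hwt, htt, hne, hform⟩ := exists_dih_data hodd h16 S
  exact isSimple_of_dih S t w ht hw hww hwt htt hne hform (invol_conj h2 hodd)

end PSL

end Cfsg.Agent.Lib.Cl.PSL2Simple
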