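import Cfsg.Agent.Lib.Cl.PSL2Simple
import Mathlib

/-! # Fusion systems on the semidihedral group of order 16 with one class of involutions and of elements of order 4 -/

set_option autoImplicit false
set_option linter.unusedSectionVars false
set_option linter.unusedVariables false

namespace Cfsg.Agent.Lib.Cl.SD16

open Cfsg Cfsg.FusionSystem Cfsg.Agent.Lib.Fusion

/-- Strongly closed subgroups are closed under conjugation by the whole group. -/
theorem sc_conj {G : Type*} [Group G] {S T : Subgroup G} (hT : (groupFusionSystem S).StronglyClosed T) {x g : G}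
    (hx : x ∈ T) (h : g * x * g⁻¹ ∈ S) : g * x * g⁻¹ ∈ T := by
  rw [groupFusionSystem_eq] at hT
  have hR : Subgroup.zpowers x ≤ T := by simpa using hx
  have hv : ∀ y ∈ Subgroup.zpowers x, g * y * g⁻¹ ∈ S := by
    rintro y ⟨k, rfl⟩
    have : g * x ^ k * g⁻¹ = (g * x * g⁻¹) ^ k := by rw [conj_zpow]
    show g * x ^ k * g⁻¹ ∈ S
    rw [this]
    exact zpow_mem h k
  exact hT.2 _ hR (conjHom _ g) (conjHom_mem_fH le_top (hR.trans hT.1) trivial hv) ⟨x, Subgroup.mem_zpowers x⟩

/-- A group `⟨t⟩ ∪ w⟨t⟩` with `w` normalising `t` is metacyclic. -/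
theorem isMetacyclic_of_form {X : Type*} [Group X] [Finite X] (t w : X) (hwt : w * t * w⁻¹ ∈ Subgroup.zpowers t)
    (hform : ∀ y : X, ∃ m : ℕ, y = t ^ m ∨ y = w * t ^ m) : Cfsg.IsMetacyclic X := by
  have hmem : ∀ y : X, y ∈ Subgroup.zpowers t → ∀ g : X, g * y * g⁻¹ ∈ Subgroup.zpowers t := by
    rintro y ⟨k, rfl⟩ g
    obtain ⟨m, rfl | rfl⟩ := hform g
    · refine ⟨k, ?_⟩
      have : Commute (t ^ m) (t ^ k : X) := by
        have := (Commute.refl t).zpow_zpow (m : ℤ) k
        simpa using this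
      show t ^ k = t ^ m * t ^ k * (t ^ m)⁻¹
      rw [this.eq]
      group
    · have e : w * t ^ k * w⁻¹ = (w * t * w⁻¹) ^ k := by rw [conj_zpow]
      have hc : Commute (t ^ m) (t ^ k : X) := by
        have := (Commute.refl t).zpow_zpow (m : ℤ) k
        simpa using this
      show w * t ^ m * t ^ k * (w * t ^ m)⁻¹ ∈ _
      rw [mul_assoc w, hc.eq, mul_inv_rev]
      have e2 : w * (t ^ k * t ^ m) * ((t ^ m)⁻¹ * w⁻¹) = w * t ^ k * w⁻¹ := by group
      rw [e2, e]
      exact zpow_mem hwt k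
  haveI hN : (Subgroup.zpowers t).Normal := ⟨hmem⟩
  refine ⟨Subgroup.zpowers t, hN, inferInstance, ?_⟩
  refine ⟨⟨(w : X), ?_⟩⟩
  intro y
  obtain ⟨y, rfl⟩ := QuotientGroup.mk_surjective y
  obtain ⟨m, rfl | rfl⟩ := hform y
  · refine ⟨0, ?_⟩
    symm
    simp only [zpow_zero]
    exact (QuotientGroup.eq_one_iff _).2 (Subgroup.npow_mem_zpowers _ _)
  · refine ⟨1, ?_⟩
    simp only [zpow_one]
    symm
    rw [QuotientGroup.mk_mul]
    have : ((t ^ m : X) : X ⧸ Subgroup.zpowers t) = 1 :=
      (QuotientGroup.eq_one_iff _).2 (Subgroup.npow_mem_zpowers _ _)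
    rw [this, mul_one]

/-- The criterion for the semidihedral group of order `16`. -/
theorem isSimple_of_sd16 {G : Type*} [Group G] [Finite G] (S : Sylow 2 G) (t w : G) (htS : t ∈ (S : Subgroup G))
    (hwS : w ∈ (S : Subgroup G)) (ht8 : t ^ 8 = 1) (ht4 : t ^ 4 ≠ 1) (hw : w * w = 1) (hwt : w * t * w⁻¹ = t ^ 3)
    (hform : ∀ y ∈ (S : Subgroup G), ∃ m : ℕ, y = t ^ m ∨ y = w * t ^ m)
    (hc1 : ∃ g : G, g * t ^ 4 * g⁻¹ = w) (hc2 : ∃ g : G, g * t ^ 2 * g⁻¹ = w * t) :
    (groupFusionSystem (S : Subgroup G)).IsSimple 2 := by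
  classical
  haveI : Fact (Nat.Prime 2) := ⟨Nat.prime_two⟩
  have hwinv : w⁻¹ = w := inv_eq_of_mul_eq_one_left hw
  have hS : IsPGroup 2 (S : Subgroup G) := S.isPGroup'
  have hF : (groupFusionSystem (S : Subgroup G)).IsSaturated 2 := by
    rw [groupFusionSystem_eq]
    exact isSaturated_fH le_top (isSylowIn_of_sylow S)
  have ho : orderOf t = 2 ^ (2 + 1) := orderOf_eq_prime_pow (by simpa using ht4) (by simpa using ht8)
  have ho8 : orderOf t = 8 := by simpa using ho
  have ht1 : t ≠ 1 := by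
    rintro rfl
    exact ht4 (one_pow _)
  have hS1 : (S : Subgroup G) ≠ ⊥ := by
    intro h
    rw [h] at htS
    exact ht1 (Subgroup.mem_bot.1 htS)
  have hconj : ∀ a : ℕ, w * t ^ a * w⁻¹ = t ^ (3 * a) := by
    intro a
    rw [← conj_pow, hwt, pow_mul]
  have hcomm : ∀ a : ℕ, t ^ a * w = w * t ^ (3 * a) := by
    intro a
    rw [← hconj a, hwinv]
    calc t ^ a * w = (w * w) * t ^ a * w := by rw [hw, one_mul]
      _ = _ := by group
  have hA : IsPGroup 2 (MulAut (S : Subgroup G)) := by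
    by_contra hA
    set t' : (S : Subgroup G) := ⟨t, htS⟩ with ht'
    set w' : (S : Subgroup G) := ⟨w, hwS⟩ with hw'
    have hm : Cfsg.IsMetacyclic (S : Subgroup G) := by
      refine isMetacyclic_of_form t' w' ?_ ?_
      · have : w' * t' * w'⁻¹ = t' ^ 3 := Subtype.ext hwt
        rw [this]
        exact Subgroup.npow_mem_zpowers _ _
      · rintro ⟨y, hy⟩
        obtain ⟨m, rfl | rfl⟩ := hform y hy
        · exact ⟨m, Or.inl (Subtype.ext (by simp [ht']))⟩
        · exact ⟨m, Or.inr (Subtype.ext (by simp [ht', hw']))⟩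
    rcases Cfsg.Agent.S1896.result hS hm hA with ⟨⟨e⟩⟩ | ⟨n, ⟨e⟩⟩
    · have key : ∀ y : QuaternionGroup 2, y ^ 4 = 1 := by decide
      apply ht4
      have h1 : t' ^ 4 = 1 := e.injective (by rw [map_pow, key, map_one])
      exact congrArg Subtype.val h1
    · have hc : w' * t' = t' * w' := e.injective (by rw [map_mul, map_mul, mul_comm])
      have hc' : w * t = t * w := congrArg Subtype.val hc
      apply ht4
      have h1 : t = t ^ 3 := by
        rw [← hwt, hc']
        group
      have h2 : t ^ 2 = 1 := by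
        have h3 : t * t ^ 2 = t * 1 := by
          rw [mul_one]
          nth_rw 3 [h1]
          rw [pow_succ' t 2]
        exact mul_left_cancel h3
      rw [show (4 : ℕ) = 2 + 2 from rfl, pow_add, h2, one_mul]
  have hsc : ∀ T : Subgroup G, (groupFusionSystem (S : Subgroup G)).StronglyClosed T → T = ⊥ ∨ T = (S : Subgroup G) := by
    intro T hT
    by_cases hT0 : T = ⊥
    · exact Or.inl hT0
    refine Or.inr (le_antisymm hT.1 ?_)
    have := finite_of_le hT.1
    have hnt : Nontrivial T := (Subgroup.nontrivial_iff_ne_bot T).2 hT0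
    have hTp : IsPGroup 2 T := hS.to_le hT.1
    obtain ⟨k, hk⟩ := IsPGroup.iff_card.1 hTp
    have hk0 : k ≠ 0 := by
      rintro rfl
      have h1 : Nat.card T = 1 := by simpa using hk
      have := (Nat.card_eq_one_iff_unique.1 h1).1
      exact not_subsingleton T this
    have hdvd : 2 ∣ Nat.card T := by
      rw [hk]
      exact dvd_pow_self 2 hk0
    obtain ⟨x₀, hx₀⟩ := exists_prime_orderOf_dvd_card' (G := T) 2 hdvd
    have hxO : orderOf (x₀ : G) = 2 := by
      rw [Subgroup.orderOf_coe]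
      exact hx₀
    have hxT : (x₀ : G) ∈ T := x₀.2
    generalize (x₀ : G) = x at hxO hxT
    have hxS : x ∈ (S : Subgroup G) := hT.1 hxT
    have hx2 : x * x = 1 := by
      rw [← pow_two]
      exact orderOf_dvd_iff_pow_eq_one.1 (dvd_of_eq hxO)
    have hx1 : x ≠ 1 := by
      rintro rfl
      rw [orderOf_one] at hxO
      omega
    obtain ⟨g₁, hg₁⟩ := hc1
    obtain ⟨g₂, hg₂⟩ := hc2
    have hwT_of : t ^ 4 ∈ T → w ∈ T := by
      intro h
      rw [← hg₁]
      refine sc_conj hT h ?_
      rw [hg₁]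
      exact hwS
    have hwT : w ∈ T := by
      obtain ⟨m, rfl | rfl⟩ := hform x hxS
      · apply hwT_of
        have h1 : t ^ (2 * m) = 1 := by
          rw [pow_mul', pow_two]
          exact hx2
        have h2 := orderOf_dvd_of_pow_eq_one h1
        rw [ho8] at h2
        have h3 : t ^ m = t ^ (m % 8) := by
          rw [← ho8, pow_mod_orderOf]
        have h4 : m % 8 = 0 ∨ m % 8 = 4 := by omega
        rcases h4 with h4 | h4
        · exfalso
          apply hx1
          rw [h3, h4, pow_zero]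
        · rw [h3, h4] at hxT
          exact hxT
      · have h1 : t ^ (4 * m) = 1 := by
          have h2 := hconj m
          have h3 : w * t ^ m * w = t ^ (3 * m) := by rwa [hwinv] at h2
          calc t ^ (4 * m) = t ^ (3 * m) * t ^ m := by rw [← pow_add]; congr 1; ring
            _ = w * t ^ m * (w * t ^ m) := by rw [← h3]; group
            _ = 1 := hx2
        have h2 := orderOf_dvd_of_pow_eq_one h1
        rw [ho8] at h2
        obtain ⟨c, rfl⟩ : 2 ∣ m := by omega
        have h3 : t ^ (3 * c) * (w * t ^ (2 * c)) * (t ^ (3 * c))⁻¹ = w := by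
          rw [← mul_assoc, hcomm]
          have h4 : t ^ (3 * (3 * c)) * t ^ (2 * c) * (t ^ (3 * c))⁻¹ = 1 := by
            have e : t ^ (3 * (3 * c)) * t ^ (2 * c) = t ^ (8 * c) * t ^ (3 * c) := by
              rw [← pow_add, ← pow_add]
              congr 1
              ring
            rw [e, mul_inv_cancel_right, pow_mul, ht8, one_pow]
          calc w * t ^ (3 * (3 * c)) * t ^ (2 * c) * (t ^ (3 * c))⁻¹
              = w * (t ^ (3 * (3 * c)) * t ^ (2 * c) * (t ^ (3 * c))⁻¹) := by simp only [mul_assoc]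
            _ = w := by rw [h4, mul_one]
        rw [← h3]
        refine sc_conj hT hxT ?_
        rw [h3]
        exact hwS
    have ht2T : t ^ 2 ∈ T := by
      have h1 : t * w * t⁻¹ = w * t ^ 2 := by
        have h2 := hcomm 1
        rw [pow_one] at h2
        rw [h2, mul_assoc]
        congr 1
        rw [show 3 * 1 = 2 + 1 from rfl, pow_succ]
        group
      have h3 : w * t ^ 2 ∈ T := by
        rw [← h1]
        refine sc_conj hT hwT ?_
        rw [h1]
        exact mul_mem hwS (pow_mem htS 2)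
      have h4 : t ^ 2 = w⁻¹ * (w * t ^ 2) := by group
      rw [h4]
      exact mul_mem (inv_mem hwT) h3
    have htT : t ∈ T := by
      have h1 : w * t ∈ T := by
        rw [← hg₂]
        refine sc_conj hT ht2T ?_
        rw [hg₂]
        exact mul_mem hwS htS
      have h4 : t = w⁻¹ * (w * t) := by group
      rw [h4]
      exact mul_mem (inv_mem hwT) h1
    intro y hy
    obtain ⟨m, rfl | rfl⟩ := hform y hy
    · exact pow_mem htT m
    · exact mul_mem hwT (pow_mem htT m)
  exact isSimple_of_stronglyClosed hF hS1 (Cfsg.Agent.Lib.Cl.PSL2Simple.autGroup_eq_inn hS hF hA) hsc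

/-- A Sylow `2`-subgroup containing `t`, `w`. -/
theorem exists_sylow_sd16 {G : Type*} [Group G] [Finite G] (t w : G) (ht8 : t ^ 8 = 1) (ht4 : t ^ 4 ≠ 1) (hw : w * w = 1)
    (hwt : w * t * w⁻¹ = t ^ 3) (h32 : ¬ 32 ∣ Nat.card G) :
    ∃ S : Sylow 2 G, t ∈ (S : Subgroup G) ∧ w ∈ (S : Subgroup G) ∧
      ∀ y ∈ (S : Subgroup G), ∃ m : ℕ, y = t ^ m ∨ y = w * t ^ m := by
  classical
  haveI : Fact (Nat.Prime 2) := ⟨Nat.prime_two⟩
  have hwinv : w⁻¹ = w := inv_eq_of_mul_eq_one_left hw
  have ho : orderOf t = 2 ^ (2 + 1) := orderOf_eq_prime_pow (by simpa using ht4) (by simpa using ht8)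
  have ho8 : orderOf t = 8 := by simpa using ho
  have hconj : ∀ a : ℕ, w * t ^ a * w⁻¹ = t ^ (3 * a) := by
    intro a
    rw [← conj_pow, hwt, pow_mul]
  have hcomm : ∀ a : ℕ, t ^ a * w = w * t ^ (3 * a) := by
    intro a
    rw [← hconj a, hwinv]
    calc t ^ a * w = (w * w) * t ^ a * w := by rw [hw, one_mul]
      _ = _ := by group
  set H : Subgroup G := Subgroup.closure {t, w} with hH
  have htH : t ∈ H := Subgroup.subset_closure (by simp)
  have hwH : w ∈ H := Subgroup.subset_closure (by simp)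
  have hform : ∀ y ∈ H, ∃ m : ℕ, y = t ^ m ∨ y = w * t ^ m := by
    intro y hy
    induction hy using Subgroup.closure_induction with
    | mem x hx =>
      rcases hx with rfl | rfl
      · exact ⟨1, Or.inl (by simp)⟩
      · exact ⟨0, Or.inr (by simp)⟩
    | one => exact ⟨0, Or.inl (by simp)⟩
    | mul x y _ _ hx hy =>
      obtain ⟨a, rfl | rfl⟩ := hx <;> obtain ⟨b, rfl | rfl⟩ := hy
      · exact ⟨a + b, Or.inl (pow_add _ _ _).symm⟩
      · refine ⟨3 * a + b, Or.inr ?_⟩
        rw [← mul_assoc, hcomm, mul_assoc, pow_add]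
      · refine ⟨a + b, Or.inr ?_⟩
        rw [mul_assoc, pow_add]
      · refine ⟨3 * a + b, Or.inl ?_⟩
        calc w * t ^ a * (w * t ^ b) = (w * t ^ a * w) * t ^ b := by simp only [mul_assoc]
          _ = t ^ (3 * a + b) := by
            have h2 := hconj a
            rw [hwinv] at h2
            rw [h2, pow_add]
    | inv x _ hx =>
      obtain ⟨a, rfl | rfl⟩ := hx
      · refine ⟨8 * a - a, Or.inl ?_⟩
        have h1 : (t ^ a)⁻¹ = t ^ (8 * a - a) := by
          rw [inv_eq_iff_mul_eq_one, ← pow_add]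
          have : a + (8 * a - a) = 8 * a := by omega
          rw [this, pow_mul, ht8, one_pow]
        exact h1
      · refine ⟨3 * (8 * a - a), Or.inr ?_⟩
        rw [inv_eq_iff_mul_eq_one]
        calc w * t ^ a * (w * t ^ (3 * (8 * a - a))) = (w * t ^ a * w) * t ^ (3 * (8 * a - a)) := by simp only [mul_assoc]
          _ = 1 := by
            have h2 := hconj a
            rw [hwinv] at h2
            rw [h2, ← pow_add]
            have : 3 * a + 3 * (8 * a - a) = 8 * (3 * a) := by omega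
            rw [this, pow_mul, ht8, one_pow]
  have hP : IsPGroup 2 H := by
    rintro ⟨y, hy⟩
    refine ⟨4, Subtype.ext ?_⟩
    show y ^ 2 ^ 4 = 1
    obtain ⟨m, rfl | rfl⟩ := hform y hy
    · rw [← pow_mul, mul_comm, pow_mul, show (2 : ℕ) ^ 4 = 8 * 2 from rfl, pow_mul, ht8, one_pow, one_pow]
    · have h1 : (w * t ^ m) * (w * t ^ m) = t ^ (4 * m) := by
        calc (w * t ^ m) * (w * t ^ m) = (w * t ^ m * w) * t ^ m := by simp only [mul_assoc]
          _ = t ^ (4 * m) := by
            have h2 := hconj m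
            rw [hwinv] at h2
            rw [h2, ← pow_add]
            congr 1
            ring
      rw [show (2 : ℕ) ^ 4 = 2 * 8 from rfl, pow_mul, pow_two, h1, ← pow_mul, mul_comm, pow_mul, ht8, one_pow]
  have hcard : 16 ∣ Nat.card H := by
    obtain ⟨a, ha⟩ := IsPGroup.iff_card.1 hP
    have h1 : Nat.card (Subgroup.zpowers t) ∣ Nat.card H :=
      Subgroup.card_dvd_of_le (by simpa using htH)
    rw [Nat.card_zpowers, ho8, ha, show (8 : ℕ) = 2 ^ 3 from rfl, Nat.pow_dvd_pow_iff_le_right (by norm_num)] at h1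
    by_cases h3 : a = 3
    · exfalso
      have hcard8 : Nat.card H = Nat.card (Subgroup.zpowers t) := by
        rw [ha, h3, Nat.card_zpowers, ho8]
        rfl
      have hle : Subgroup.zpowers t ≤ H := by simpa using htH
      have heq : Subgroup.zpowers t = H := Subgroup.eq_of_le_of_card_ge hle (le_of_eq hcard8)
      have hwz : w ∈ Subgroup.zpowers t := by
        rw [heq]
        exact hwH
      obtain ⟨k, rfl⟩ := hwz
      have h5 : (t ^ k) * t * (t ^ k)⁻¹ = t := by
        have : Commute (t ^ k) t := ((Commute.refl t).zpow_left k)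
        rw [this.eq]
        group
      have hm : t = t ^ 3 := by
        rw [← hwt]
        exact h5.symm
      have h2 : t ^ 2 = 1 := by
        have h3 : t * t ^ 2 = t * 1 := by
          rw [mul_one]
          nth_rw 3 [hm]
          rw [pow_succ' t 2]
        exact mul_left_cancel h3
      apply ht4
      rw [show (4 : ℕ) = 2 + 2 from rfl, pow_add, h2, one_mul]
    · rw [ha, show (16 : ℕ) = 2 ^ 4 from rfl]
      exact pow_dvd_pow 2 (by omega)
  have hidx : ¬ 2 ∣ H.index := by
    intro h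
    apply h32
    rw [← Subgroup.card_mul_index H]
    exact mul_dvd_mul hcard h
  exact ⟨hP.toSylow hidx, htH, hwH, hform⟩

/-- The concrete form of the criterion. -/
theorem isSimple_of_sd16_data {G : Type*} [Group G] [Finite G] (t w : G) (ht8 : t ^ 8 = 1) (ht4 : t ^ 4 ≠ 1) (hw : w * w = 1)
    (hwt : w * t * w⁻¹ = t ^ 3) (h32 : ¬ 32 ∣ Nat.card G)
    (hc1 : ∃ g : G, g * t ^ 4 * g⁻¹ = w) (hc2 : ∃ g : G, g * t ^ 2 * g⁻¹ = w * t) (S : Sylow 2 G) :
    (groupFusionSystem (S : Subgroup G)).IsSimple 2 := by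
  obtain ⟨S₀, ht₀, hw₀, hf₀⟩ := exists_sylow_sd16 t w ht8 ht4 hw hwt h32
  obtain ⟨g, rfl⟩ := MulAction.exists_smul_eq G S₀ S
  set φ : G ≃* G := MulAut.conj g with hφ
  have hmem : ∀ x, x ∈ ((g • S₀ : Sylow 2 G) : Subgroup G) ↔ φ⁻¹ x ∈ (S₀ : Subgroup G) := by
    intro x
    rw [Sylow.coe_subgroup_smul, Subgroup.mem_pointwise_smul_iff_inv_smul_mem]
    rfl
  have hmem' : ∀ x, φ x ∈ ((g • S₀ : Sylow 2 G) : Subgroup G) ↔ x ∈ (S₀ : Subgroup G) := by
    intro x
    rw [hmem]
    simp
  refine isSimple_of_sd16 (g • S₀) (φ t) (φ w) ((hmem' _).2 ht₀) ((hmem' _).2 hw₀) ?_ ?_ ?_ ?_ ?_ ?_ ?_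
  · rw [← map_pow, ht8, map_one]
  · rw [← map_pow]
    intro h
    exact ht4 (φ.injective (by rw [h, map_one]))
  · rw [← map_mul, hw, map_one]
  · rw [← map_mul, ← map_inv, ← map_mul, hwt, map_pow]
  · intro y hy
    obtain ⟨m, h | h⟩ := hf₀ _ ((hmem y).1 hy)
    · refine ⟨m, Or.inl ?_⟩
      have := congrArg φ h
      rw [map_pow] at this
      simpa using this
    · refine ⟨m, Or.inr ?_⟩
      have := congrArg φ h
      rw [map_mul, map_pow] at this
      simpa using this
  · obtain ⟨h, hh⟩ := hc1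
    refine ⟨φ h, ?_⟩
    rw [← map_pow, ← map_inv, ← map_mul, ← map_mul, hh]
  · obtain ⟨h, hh⟩ := hc2
    refine ⟨φ h, ?_⟩
    rw [← map_pow, ← map_inv, ← map_mul, ← map_mul, hh, map_mul]

end Cfsg.Agent.Lib.Cl.SD16
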