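import Cfsg.Agent.Lib.Fusion.GroupFree
import Cfsg.Agent.Lib.Fusion.QdFree
import Cfsg.Agent.Lib.Amalgam.Involves
import Cfsg.Agent.Lib.Amalgam.Qd
import Cfsg.Agent.Lib.Amalgam.QdAffine
import Cfsg.Agent.S5076
import Mathlib

/-! # Local `SL₂(p)`-freeness and fusion control by `Z(J(S))` -/

set_option autoImplicit false

namespace Cfsg.Agent.Lib.Cl.SL2Free

open Cfsg Cfsg.FusionSystem Cfsg.Agent.Lib.Fusion

universe u v

/-- The fusion system is `H`-free if the normalizers of the subgroups `Q`, `Z(S) ≤ Q ≤ S`, do not involve `H`. -/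
theorem isSectionFree_local {G : Type u} [Group G] [Finite G] {p : ℕ} [Fact p.Prime] (S : Sylow p G) {H : Type v} [Group H]
    (hinv : ∀ Q : Subgroup G, (S : Subgroup G) ⊓ Subgroup.centralizer ((S : Subgroup G) : Set G) ≤ Q → Q ≤ S →
      ¬ Involves H ↥(Subgroup.normalizer (Q : Set G))) :
    (groupFusionSystem (S : Subgroup G)).IsSectionFree p H := by
  intro Q hQn hQc N hN L _ ι hm hinvL
  have hF := Cfsg.Agent.S5076.result p S
  have hS : IsPGroup p (S : Subgroup G) := S.isPGroup'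
  have hQS := hQn.1
  have hT₁p : IsPGroup p (normalizerIn (S : Subgroup G) Q) := hS.to_le (normalizerIn_le Q)
  have hNsat := isSaturated_normalizerSystem hS hF hQn hN
  have hRn := isNormal_normalizerSystem hQS hN
  have hRc : centralizerIn (normalizerIn (S : Subgroup G) Q) Q ≤ Q := by
    intro y hy
    have hy' := mem_centralizerIn.1 hy
    exact IsCentric.centralizer_le hQc (mem_centralizerIn.2 ⟨normalizerIn_le Q hy'.1, hy'.2⟩)
  have hZQ : (S : Subgroup G) ⊓ Subgroup.centralizer ((S : Subgroup G) : Set G) ≤ Q := by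
    intro z hz
    refine IsCentric.centralizer_le hQc (mem_centralizerIn.2 ⟨hz.1, ?_⟩)
    intro h hh
    exact (Subgroup.mem_centralizer_iff.1 hz.2) h (hQS hh)
  obtain ⟨X, hX⟩ : ∃ X : Subgroup G, X = normalizerIn (⊤ : Subgroup G) Q := ⟨_, rfl⟩
  have hXmem : ∀ {g : G}, g ∈ X ↔ g ∈ Subgroup.normalizer (Q : Set G) := by
    intro g
    rw [hX, mem_normalizerIn]
    exact ⟨fun h => h.2, fun h => ⟨trivial, h⟩⟩
  have hXeq : X = Subgroup.normalizer (Q : Set G) := by
    ext g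
    exact hXmem
  have hT₁X : normalizerIn (S : Subgroup G) Q ≤ X := fun t ht => hXmem.2 (mem_normalizerIn.1 ht).2
  let κ : normalizerIn (S : Subgroup G) Q →* X := Subgroup.inclusion hT₁X
  have hκ : Function.Injective κ := Subgroup.inclusion_injective hT₁X
  have hT : ∃ T : Sylow p X, (T : Subgroup X) = κ.range := by
    have h1 : (fusionSystemOfSubgroup (⊤ : Subgroup G) (S : Subgroup G) le_top).IsFullyNormalized Q := by
      rw [← groupFusionSystem_eq]
      exact hQn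
    have h2 := (isFullyNormalized_fH_iff le_top (isSylowIn_of_sylow S) hQS).1 h1
    rw [← hX] at h2
    obtain ⟨T, hT⟩ := h2
    refine ⟨T, hT.trans ?_⟩
    ext y
    rw [Subgroup.mem_subgroupOf, MonoidHom.mem_range]
    constructor
    · intro hy
      exact ⟨⟨y, hy⟩, rfl⟩
    · rintro ⟨t, rfl⟩
      exact t.2
  have hconj : ∀ {P : Subgroup G} {φ : P →* G} (hφ : φ ∈ N.Hom P),
      ∃ g : X, ∀ x : P, κ ⟨φ x, hom_val N hφ x⟩ = g * κ ⟨x, hom_le N hφ x.2⟩ * g⁻¹ := by
    intro P φ hφ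
    have hφ' := hφ
    rw [hN P] at hφ'
    obtain ⟨-, -, -, ψ, hψ, hψφ, hψQ⟩ := hφ'
    obtain ⟨-, -, g, hg⟩ := hψ
    have hfinQ : Finite Q := finite_of_le hQS
    have hgX : g ∈ X := hXmem.2 (mem_normalizer_of_forall fun y hy => by
      have h1 : ψ ⟨y, (le_sup_right : Q ≤ P ⊔ Q) hy⟩ ∈ (Q.subgroupOf (P ⊔ Q)).map ψ :=
        ⟨⟨y, (le_sup_right : Q ≤ P ⊔ Q) hy⟩, Subgroup.mem_subgroupOf.2 hy, rfl⟩
      rw [hψQ, hg] at h1
      exact h1)
    refine ⟨⟨g, hgX⟩, fun x => Subtype.ext ?_⟩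
    show φ x = g * (x : G) * g⁻¹
    rw [← hψφ x, hg]
    rfl
  have hVn : ((Q.subgroupOf (normalizerIn (S : Subgroup G) Q)).map κ).Normal := by
    refine ⟨?_⟩
    rintro _ ⟨t, ht, rfl⟩ g
    have htQ : (t : G) ∈ Q := Subgroup.mem_subgroupOf.1 ht
    have hg : (g : G) ∈ Subgroup.normalizer (Q : Set G) := hXmem.1 g.2
    have h1 : (g : G) * t * (g : G)⁻¹ ∈ Q := conj_mem_of_mem_normalizer hg htQ
    refine ⟨⟨_, le_normalizerIn hQS h1⟩, Subgroup.mem_subgroupOf.2 h1, ?_⟩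
    exact Subtype.ext rfl
  have h3 := involves_of_conj hT₁p hNsat hRn hRc hκ hT hconj hVn hm hinvL
  refine hinv Q hZQ hQS ?_
  subst hXeq
  exact h3

/-- A subgroup section of the normalizer yields a section of `G` inside the normalizer. -/
theorem section_of_involves {G : Type*} [Group G] {N : Subgroup G} {H : Type*} [Group H] (h : Involves H ↥N) :
    ∃ (A B : Subgroup G) (_ : (B.subgroupOf A).Normal), A ≤ N ∧ Nonempty ((A ⧸ B.subgroupOf A) ≃* H) := by
  obtain ⟨K', φ, hφ⟩ := Cfsg.Agent.Lib.Amalgam.involves_exists_surjective h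
  set A : Subgroup G := K'.map N.subtype with hA
  let e : K' ≃* A := K'.equivMapOfInjective N.subtype N.subtype_injective
  let f : A →* H := φ.comp e.symm.toMonoidHom
  have hf : Function.Surjective f := hφ.comp e.symm.surjective
  have hker : (f.ker.map A.subtype).subgroupOf A = f.ker := by
    rw [Subgroup.subgroupOf]
    exact Subgroup.comap_map_eq_self_of_injective A.subtype_injective _
  have hn : ((f.ker.map A.subtype).subgroupOf A).Normal := by
    rw [hker]; infer_instance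
  refine ⟨A, f.ker.map A.subtype, hn, Subgroup.map_subtype_le _, ?_⟩
  exact ⟨(QuotientGroup.quotientMulEquivOfEq hker).trans
    (QuotientGroup.quotientKerEquivOfSurjective f hf)⟩

/-- `SL₂(p)` is a quotient of `Qd(p)`. -/
theorem involves_sl2_qd (p : ℕ) [Fact p.Prime] :
    Involves (Matrix.SpecialLinearGroup (Fin 2) (ZMod p)) ↥(qd p) := by
  have hs : Function.Surjective (Cfsg.Agent.Lib.Amalgam.rhoQd (ZMod p)) := Cfsg.Agent.Lib.Amalgam.rhoQd_surjective
  refine Cfsg.Agent.Lib.Amalgam.involves_of_surjective (⊤ : Subgroup (qd p))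
    ((Cfsg.Agent.Lib.Amalgam.rhoQd (ZMod p)).comp (Subgroup.topEquiv (G := qd p)).toMonoidHom) ?_
  exact hs.comp (Subgroup.topEquiv (G := qd p)).surjective

/-- **`Z(J(S))` controls fusion in `S`** when the normalizers `N_G(P)`, `Z(S) ≤ P ≤ S`, have no section `SL₂(p)`. -/
theorem main {G : Type*} [Group G] [Finite G] {p : ℕ} [Fact p.Prime]
    (hp : p ≠ 2) (S : Sylow p G)
    (hfree : ∀ P : Subgroup G, (S : Subgroup G) ⊓ Subgroup.centralizer ((S : Subgroup G) : Set G) ≤ P → P ≤ S →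
      ¬ ∃ (H K : Subgroup G) (hK : (K.subgroupOf H).Normal), H ≤ Subgroup.normalizer (P : Set G) ∧
        Nonempty ((H ⧸ K.subgroupOf H) ≃* Matrix.SpecialLinearGroup (Fin 2) (ZMod p))) :
    ∀ x ∈ S, ∀ y ∈ S, (∃ g : G, g * x * g⁻¹ = y) ↔
      ∃ n ∈ Subgroup.normalizer (Cfsg.centerThompsonAOf (S : Subgroup G) : Set G), n * x * n⁻¹ = y := by
  classical
  intro x hx y hy
  refine ⟨?_, fun ⟨n, _, hn⟩ => ⟨n, hn⟩⟩
  rintro ⟨g, hg⟩
  have hfin : Finite (S : Subgroup G) := inferInstance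
  have hS : IsPGroup p (S : Subgroup G) := S.isPGroup'
  have hF := Cfsg.Agent.S5076.result p S
  have hsf : (groupFusionSystem (S : Subgroup G)).IsSectionFree p ↥(qd p) := by
    refine isSectionFree_local S fun Q hZQ hQS hinv => ?_
    have h2 := Cfsg.Agent.Lib.Amalgam.involves_trans (involves_sl2_qd p) hinv
    obtain ⟨A, B, hn, hAN, he⟩ := section_of_involves h2
    exact hfree Q hZQ hQS ⟨A, B, hn, hAN, he⟩
  have hN := (qd_free_main hp hS hF hsf).2
  rw [funW_zjFun] at hN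
  set Z := Cfsg.centerThompsonAOf (S : Subgroup G) with hZ
  set P : Subgroup G := Subgroup.zpowers x with hP
  have hPS : P ≤ S := by
    rw [hP, Subgroup.zpowers_le]
    exact hx
  have hφ : conjHom P g ∈ (groupFusionSystem (S : Subgroup G)).Hom P := by
    refine ⟨hPS, ?_, g, fun _ => rfl⟩
    rintro ⟨z, k, rfl⟩
    show g * x ^ k * g⁻¹ ∈ (S : Subgroup G)
    have e : g * x ^ k * g⁻¹ = (g * x * g⁻¹) ^ k := by
      rw [conj_zpow]
    rw [e, hg]
    exact (S : Subgroup G).zpow_mem hy k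
  obtain ⟨ψ, hψ, h1, h2⟩ := hN.2 P (conjHom P g) hφ
  obtain ⟨-, -, n, hn⟩ := hψ
  refine ⟨n, ?_, ?_⟩
  · refine mem_normalizer_of_forall fun z hz => ?_
    have h3 : ψ ⟨z, (le_sup_right : Z ≤ P ⊔ Z) hz⟩ ∈ (Z.subgroupOf (P ⊔ Z)).map ψ :=
      ⟨⟨z, (le_sup_right : Z ≤ P ⊔ Z) hz⟩, Subgroup.mem_subgroupOf.2 hz, rfl⟩
    rw [h2, hn] at h3
    exact h3
  · have hxP : x ∈ P := Subgroup.mem_zpowers x
    have h4 := h1 ⟨x, hxP⟩
    rw [hn] at h4
    rw [← hg]
    exact h4

end Cfsg.Agent.Lib.Cl.SL2Free
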