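import Cfsg.Agent.Lib.Cl.SD16
import Mathlib

/-! # Simplicity of the fusion system from a self-normalizing Sylow subgroup and a closure condition -/

set_option autoImplicit false
set_option linter.unusedSectionVars false
set_option linter.unusedVariables false

namespace Cfsg.Agent.Lib.Cl.SelfNorm

open Cfsg Cfsg.FusionSystem Cfsg.Agent.Lib.Fusion Cfsg.Agent.Lib.Cl.SD16

/-- The criterion on the Sylow subgroup itself. -/
theorem isSimple_of_selfNorm {G : Type*} [Group G] [Finite G] (S : Sylow 2 G) (hS1 : (S : Subgroup G) ≠ ⊥)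
    (hN : ∀ g : G, (∀ s, s ∈ (S : Subgroup G) ↔ g * s * g⁻¹ ∈ (S : Subgroup G)) → g ∈ (S : Subgroup G))
    (hC : ∀ T : Subgroup G, T ≤ (S : Subgroup G) →
      (∀ x ∈ T, ∀ h : G, h * x * h⁻¹ ∈ (S : Subgroup G) → h * x * h⁻¹ ∈ T) → T = ⊥ ∨ T = (S : Subgroup G)) :
    (groupFusionSystem (S : Subgroup G)).IsSimple 2 := by
  classical
  haveI : Fact (Nat.Prime 2) := ⟨Nat.prime_two⟩
  have hF : (groupFusionSystem (S : Subgroup G)).IsSaturated 2 := by
    rw [groupFusionSystem_eq]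
    exact isSaturated_fH le_top (isSylowIn_of_sylow S)
  have hsc : ∀ T : Subgroup G, (groupFusionSystem (S : Subgroup G)).StronglyClosed T → T = ⊥ ∨ T = (S : Subgroup G) := by
    intro T hT
    exact hC T hT.1 (fun x hx h hh => sc_conj hT hx hh)
  have htop : (groupFusionSystem (S : Subgroup G)).autGroup (S : Subgroup G) = Inn ↥(S : Subgroup G) := by
    refine le_antisymm ?_ (inn_le_autGroup _ le_rfl)
    intro α hα
    rw [groupFusionSystem_eq, autGroup_fH le_top le_rfl] at hα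
    obtain ⟨g, -, hv⟩ := mem_autInducedBy_iff.1 hα
    have hgn : g ∈ Subgroup.normalizer ((S : Subgroup G) : Set G) := mem_normalizer_of_conj hv
    rw [Subgroup.mem_normalizer_iff] at hgn
    have hg := hN g hgn
    refine ⟨⟨g, hg⟩, MulEquiv.ext fun x => Subtype.ext ?_⟩
    rw [hv x]
    simp [MulAut.conj_apply]
  exact isSimple_of_stronglyClosed hF hS1 htop hsc

/-- The criterion transported from one Sylow subgroup to all of them. -/
theorem isSimple_of_selfNorm' {G : Type*} [Group G] [Finite G] (S₀ : Sylow 2 G) (hS1 : (S₀ : Subgroup G) ≠ ⊥)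
    (hN : ∀ g : G, (∀ s, s ∈ (S₀ : Subgroup G) ↔ g * s * g⁻¹ ∈ (S₀ : Subgroup G)) → g ∈ (S₀ : Subgroup G))
    (hC : ∀ T : Subgroup G, T ≤ (S₀ : Subgroup G) →
      (∀ x ∈ T, ∀ h : G, h * x * h⁻¹ ∈ (S₀ : Subgroup G) → h * x * h⁻¹ ∈ T) → T = ⊥ ∨ T = (S₀ : Subgroup G))
    (S : Sylow 2 G) : (groupFusionSystem (S : Subgroup G)).IsSimple 2 := by
  obtain ⟨g, rfl⟩ := MulAction.exists_smul_eq G S₀ S
  set φ : G ≃* G := MulAut.conj g with hφ
  have hmem : ∀ x, x ∈ ((g • S₀ : Sylow 2 G) : Subgroup G) ↔ φ.symm x ∈ (S₀ : Subgroup G) := by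
    intro x
    rw [Sylow.coe_subgroup_smul, Subgroup.mem_pointwise_smul_iff_inv_smul_mem]
    rfl
  have hmem' : ∀ x, φ x ∈ ((g • S₀ : Sylow 2 G) : Subgroup G) ↔ x ∈ (S₀ : Subgroup G) := by
    intro x
    rw [hmem]
    simp
  refine isSimple_of_selfNorm (g • S₀) ?_ ?_ ?_
  · intro h
    apply hS1
    rw [eq_bot_iff]
    intro x hx
    have h1 : φ x ∈ ((g • S₀ : Sylow 2 G) : Subgroup G) := (hmem' x).2 hx
    rw [h, Subgroup.mem_bot] at h1
    rw [Subgroup.mem_bot]
    exact φ.injective (by rw [h1, map_one])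
  · intro k hk
    have h1 : φ.symm k ∈ (S₀ : Subgroup G) := by
      apply hN
      intro s
      rw [← hmem', hk (φ s), hmem]
      simp
    exact (hmem k).2 h1
  · intro T hT hcl
    have hT₀ : T.map φ.symm.toMonoidHom ≤ (S₀ : Subgroup G) := by
      rintro _ ⟨x, hx, rfl⟩
      exact (hmem x).1 (hT hx)
    have hmT : ∀ x, x ∈ T.map φ.symm.toMonoidHom ↔ φ x ∈ T := by
      intro x
      constructor
      · rintro ⟨y, hy, rfl⟩
        simpa using hy
      · intro h
        exact ⟨φ x, h, by simp⟩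
    have := hC (T.map φ.symm.toMonoidHom) hT₀ (fun x hx h hh => by
      rw [hmT] at hx ⊢
      rw [← hmem'] at hh
      simp only [map_mul, map_inv] at hh ⊢
      exact hcl _ hx _ hh)
    rcases this with h | h
    · left
      rw [eq_bot_iff]
      intro x hx
      have h1 : φ.symm x ∈ T.map φ.symm.toMonoidHom := ⟨x, hx, rfl⟩
      rw [h, Subgroup.mem_bot] at h1
      rw [Subgroup.mem_bot]
      exact φ.symm.injective (by rw [h1, map_one])
    · right
      refine le_antisymm hT ?_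
      intro x hx
      have h1 : φ.symm x ∈ (S₀ : Subgroup G) := (hmem x).1 hx
      rw [← h, hmT] at h1
      simpa using h1

/-- The criterion for a subgroup of a permutation group. -/
theorem isSimple_of_perm {P : Type*} [Group P] (M A : Subgroup P) [Finite M] (hAM : A ≤ M) (hA2 : IsPGroup 2 A)
    (hidx : ¬ 2 ∣ (A.subgroupOf M).index) (hA1 : A ≠ ⊥)
    (hN : ∀ g ∈ M, (∀ s, s ∈ A ↔ g * s * g⁻¹ ∈ A) → g ∈ A)
    (hC : ∀ T : Subgroup P, T ≤ A → (∀ x ∈ T, ∀ h ∈ M, h * x * h⁻¹ ∈ A → h * x * h⁻¹ ∈ T) → T = ⊥ ∨ T = A)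
    (S : Sylow 2 M) : (groupFusionSystem (S : Subgroup M)).IsSimple 2 := by
  classical
  haveI : Fact (Nat.Prime 2) := ⟨Nat.prime_two⟩
  have hP : IsPGroup 2 (A.subgroupOf M) := hA2.of_equiv (Subgroup.subgroupOfEquivOfLe hAM).symm
  have hS₀ : ((hP.toSylow hidx : Sylow 2 M) : Subgroup M) = A.subgroupOf M := rfl
  refine isSimple_of_selfNorm' (hP.toSylow hidx) ?_ ?_ ?_ S
  · rw [hS₀]
    intro h
    apply hA1
    rw [eq_bot_iff]
    intro x hx
    have h1 : (⟨x, hAM hx⟩ : M) ∈ A.subgroupOf M := hx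
    rw [h, Subgroup.mem_bot] at h1
    rw [Subgroup.mem_bot]
    exact congrArg Subtype.val h1
  · intro g hg
    rw [hS₀] at hg ⊢
    rw [Subgroup.mem_subgroupOf]
    refine hN g.1 g.2 fun s => ⟨fun hs => ?_, fun hs => ?_⟩
    · have h1 := (hg ⟨s, hAM hs⟩).1 hs
      exact h1
    · have hsM : s ∈ M := by
        have h1 := hAM hs
        have h2 : s = g.1⁻¹ * (g.1 * s * g.1⁻¹) * g.1 := by group
        rw [h2]
        exact M.mul_mem (M.mul_mem (M.inv_mem g.2) h1) g.2
      exact (hg ⟨s, hsM⟩).2 hs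
  · intro T hT hcl
    rw [hS₀] at hT hcl
    have hT' : T.map M.subtype ≤ A := by
      rintro _ ⟨x, hx, rfl⟩
      exact hT hx
    have hm : ∀ x : M, x.1 ∈ T.map M.subtype ↔ x ∈ T := by
      intro x
      constructor
      · rintro ⟨y, hy, e⟩
        have : y = x := Subtype.ext e
        rwa [← this]
      · intro h
        exact ⟨x, h, rfl⟩
    have := hC (T.map M.subtype) hT' (fun x hx h hh hA => by
      obtain ⟨y, hy, rfl⟩ := hx
      have h1 : (⟨h, hh⟩ : M) * y * (⟨h, hh⟩ : M)⁻¹ ∈ T := hcl y hy _ hA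
      exact ⟨_, h1, rfl⟩)
    rw [hS₀]
    rcases this with h | h
    · left
      rw [eq_bot_iff]
      intro x hx
      have h1 : x.1 ∈ T.map M.subtype := (hm x).2 hx
      rw [h, Subgroup.mem_bot] at h1
      rw [Subgroup.mem_bot]
      exact Subtype.ext h1
    · right
      refine le_antisymm hT ?_
      intro x hx
      have h1 : x.1 ∈ A := hx
      rw [← h] at h1
      exact (hm x).1 h1

end Cfsg.Agent.Lib.Cl.SelfNorm
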