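import Mathlib
import Cfsg.Agent.Lib.Cl.SelfNorm
import Cfsg.Agent.Lib.PGroup.ConjAbQ

/-!
# Solvable non-nilpotent groups in which every non-abelian subgroup is self-normalizing
-/

set_option autoImplicit false

namespace Cfsg.Agent.Lib.Cl.SelfNorm2

open Cfsg Subgroup Cfsg.Agent.Lib.Cl.SelfNorm

section

variable {G : Type*} [Group G]

/-- The kernel of a power map on an abelian subgroup. -/
def powKer (N : Subgroup G) (hc : ∀ a ∈ N, ∀ b ∈ N, a * b = b * a) (n : ℕ) : Subgroup G where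
  carrier := {a | a ∈ N ∧ a ^ n = 1}
  mul_mem' := by
    rintro a b ⟨ha, ha'⟩ ⟨hb, hb'⟩
    refine ⟨N.mul_mem ha hb, ?_⟩
    have h : Commute a b := hc a ha b hb
    rw [h.mul_pow, ha', hb', one_mul]
  one_mem' := ⟨N.one_mem, one_pow n⟩
  inv_mem' := by
    rintro a ⟨ha, ha'⟩
    refine ⟨N.inv_mem ha, ?_⟩
    rw [inv_pow, ha', inv_one]

theorem mem_powKer {N : Subgroup G} {hc : ∀ a ∈ N, ∀ b ∈ N, a * b = b * a} {n : ℕ} {a : G} :
    a ∈ powKer N hc n ↔ a ∈ N ∧ a ^ n = 1 := Iff.rfl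

theorem powKer_normal (N : Subgroup G) [hN : N.Normal] (hc : ∀ a ∈ N, ∀ b ∈ N, a * b = b * a) (n : ℕ) :
    (powKer N hc n).Normal := by
  constructor
  rintro a ⟨ha, ha'⟩ g
  refine ⟨hN.conj_mem a ha g, ?_⟩
  rw [conj_pow, ha', mul_one, mul_inv_cancel]

end

section

variable {G : Type*} [Group G] [Finite G]

/-- **Fixed-point-freeness.** -/
theorem fpf_aux (hS : ∀ H : Subgroup G, ¬ IsMulCommutative H → normalizer (H : Set G) = H)
    {A : Subgroup G} (hAn : A.Normal) (hAcomm : ∀ a ∈ A, ∀ b ∈ A, a * b = b * a) {x : G} {k p : ℕ}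
    (hp : p.Prime) (hxk : x ^ (p ^ k) = 1) (hcop : ¬ p ∣ Nat.card A) (hsup : zpowers x ⊔ A = ⊤)
    (hnc : ∃ a ∈ A, a * x ≠ x * a) : ∀ a : G, a ∈ A → a ≠ 1 → x * a * x⁻¹ ≠ a := by
  classical
  -- elements of `A` killed by a `p`-power are trivial
  have hA1 : ∀ c ∈ A, c ^ (p ^ k) = 1 → c = 1 := by
    intro c hc hck
    have h1 : orderOf c ∣ p ^ k := orderOf_dvd_of_pow_eq_one hck
    have h2 : orderOf c ∣ Nat.card A := Subgroup.orderOf_dvd_natCard A hc
    have h3 : Nat.Coprime (p ^ k) (Nat.card A) :=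
      Nat.Coprime.pow_left k ((Nat.Prime.coprime_iff_not_dvd hp).mpr hcop)
    have h4 : orderOf c = 1 := Nat.Coprime.eq_one_of_dvd (Nat.Coprime.coprime_dvd_left h1 h3) h2
    exact orderOf_eq_one_iff.mp h4
  -- the telescoping
  have htel : ∀ b ∈ A, (b⁻¹ * (x * b * x⁻¹)) * x = x * (b⁻¹ * (x * b * x⁻¹)) → b⁻¹ * (x * b * x⁻¹) = 1 := by
    intro b hbA hb
    set c := b⁻¹ * (x * b * x⁻¹) with hc
    have h1 : c * x = b⁻¹ * x * b := by rw [hc]; group
    have h2 : (c * x) ^ (p ^ k) = c ^ (p ^ k) * x ^ (p ^ k) := (show Commute c x from hb).mul_pow _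
    have h3 : (b⁻¹ * x * b) ^ (p ^ k) = 1 := by
      have := conj_pow (a := b⁻¹) (b := x) (i := p ^ k)
      rw [inv_inv] at this
      rw [this, hxk]
      group
    rw [h1, h3, hxk, mul_one] at h2
    have hcA : c ∈ A := by
      rw [hc]
      exact A.mul_mem (A.inv_mem hbA) (hAn.conj_mem b hbA x)
    exact hA1 c hcA h2.symm
  -- the image
  let δ : A →* G := MonoidHom.mk' (fun b => (b : G)⁻¹ * (x * b * x⁻¹)) (by
    intro a b
    have hab : (a : G)⁻¹ * (x * a * x⁻¹) ∈ A := A.mul_mem (A.inv_mem a.2) (hAn.conj_mem a a.2 x)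
    show ((a : G) * b)⁻¹ * (x * ((a : G) * b) * x⁻¹) = _
    calc ((a : G) * b)⁻¹ * (x * ((a : G) * b) * x⁻¹)
        = (b : G)⁻¹ * ((a : G)⁻¹ * (x * a * x⁻¹)) * (x * b * x⁻¹) := by group
      _ = ((a : G)⁻¹ * (x * a * x⁻¹)) * (b : G)⁻¹ * (x * b * x⁻¹) := by
          rw [hAcomm _ (A.inv_mem b.2) _ hab]
      _ = _ := by group)
  have hδ : ∀ b : A, δ b = (b : G)⁻¹ * (x * b * x⁻¹) := fun b => rfl
  let I : Subgroup G := δ.range
  have hIA : I ≤ A := by
    rintro _ ⟨b, rfl⟩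
    rw [hδ]
    exact A.mul_mem (A.inv_mem b.2) (hAn.conj_mem b b.2 x)
  have hIx : x ∈ normalizer (I : Set G) := by
    rw [mem_normalizer_iff]
    intro h
    constructor
    · rintro ⟨b, rfl⟩
      refine ⟨⟨x * b * x⁻¹, hAn.conj_mem b b.2 x⟩, ?_⟩
      rw [hδ, hδ]
      group
    · rintro ⟨b, hb⟩
      refine ⟨⟨x⁻¹ * b * x, by simpa using hAn.conj_mem b b.2 x⁻¹⟩, ?_⟩
      rw [hδ]
      rw [hδ] at hb
      have h1 : h = x⁻¹ * ((b : G)⁻¹ * (x * b * x⁻¹)) * x := by
        rw [hb]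
        group
      rw [h1]
      group
  have hIA' : A ≤ normalizer (I : Set G) := by
    intro a ha
    apply centralizer_le_normalizer
    rw [mem_centralizer_iff]
    intro h hh
    exact hAcomm _ (hIA hh) _ ha
  have hIn : I.Normal := by
    rw [← normalizer_eq_top_iff, eq_top_iff, ← hsup]
    exact sup_le ((zpowers_le).mpr hIx) hIA'
  -- `x` does not centralize `I`
  have hnab : ¬ IsMulCommutative (I ⊔ zpowers x : Subgroup G) := by
    intro hab
    obtain ⟨a, ha, hax⟩ := hnc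
    have h1 := hab.is_comm.comm ⟨δ ⟨a, ha⟩, (le_sup_left : I ≤ I ⊔ zpowers x) ⟨⟨a, ha⟩, rfl⟩⟩
      ⟨x, (le_sup_right : zpowers x ≤ I ⊔ zpowers x) (mem_zpowers x)⟩
    have h2 : δ ⟨a, ha⟩ * x = x * δ ⟨a, ha⟩ := congrArg Subtype.val h1
    rw [hδ] at h2
    have h3 := htel a ha h2
    apply hax
    have h4 : x * a * x⁻¹ = a := by
      have := h3
      rw [inv_mul_eq_one] at this
      exact this.symm
    calc a * x = (x * a * x⁻¹) * x := by rw [h4]
      _ = x * a := by group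
  intro a ha hane hfix
  apply hane
  have hax : a * x = x * a := by
    calc a * x = (x * a * x⁻¹) * x := by rw [hfix]
      _ = x * a := by group
  have hcen : a ∈ centralizer ((I ⊔ zpowers x : Subgroup G) : Set G) := by
    have hle : I ⊔ zpowers x ≤ centralizer ({a} : Set G) :=
      sup_le (fun c hc => mem_centralizer_singleton_iff.mpr (hAcomm c (hIA hc) a ha))
        (zpowers_le.mpr (mem_centralizer_singleton_iff.mpr hax.symm))
    rw [mem_centralizer_iff]
    intro h hh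
    exact mem_centralizer_singleton_iff.mp (hle hh)
  have hmem : a ∈ I ⊔ zpowers x := by
    have h1 := hS _ hnab
    rw [← h1]
    exact centralizer_le_normalizer _ hcen
  obtain ⟨c, hc, t, ht, rfl⟩ := mem_sup_of_normal_left.mp hmem
  have ht1 : t = 1 := by
    have htA : t ∈ A := by
      have h1 : t = c⁻¹ * (c * t) := by group
      rw [h1]
      exact A.mul_mem (A.inv_mem (hIA hc)) ha
    apply hA1 t htA
    obtain ⟨i, rfl⟩ := ht
    rw [← zpow_natCast, ← zpow_mul, mul_comm, zpow_mul, zpow_natCast, hxk, one_zpow]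
  subst ht1
  rw [mul_one] at hfix hax ha ⊢
  obtain ⟨b, rfl⟩ := hc
  rw [hδ] at hax hfix ⊢
  exact htel b b.2 hax

/-- **Structure of solvable non-nilpotent groups with every non-abelian subgroup self-normalizing.** -/
theorem structure_of_selfnorm [Group.IsSolvable G] (hnn : ¬ Group.IsNilpotent G)
    (hS : ∀ H : Subgroup G, ¬ IsMulCommutative H → normalizer (H : Set G) = H) :
    ∃ (x : G) (A : Subgroup G) (p : ℕ), p.Prime ∧ A.Normal ∧ IsMulCommutative A ∧
      (∃ k : ℕ, orderOf x = p ^ k) ∧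
      ¬ p ∣ Nat.card A ∧ (Subgroup.zpowers x).IsComplement' A ∧ x ^ p ∈ Subgroup.center G ∧
      ∀ a : G, a ∈ A → a ≠ 1 → x * a * x⁻¹ ≠ a := by
  classical
  haveI : Nontrivial G := by
    by_contra h
    rw [not_nontrivial_iff_subsingleton] at h
    apply hnn
    exact nilpotent_of_surjective (1 : PUnit.{1} →* G) (fun g => ⟨PUnit.unit, Subsingleton.elim _ _⟩)
  obtain ⟨N, hNn, hNp⟩ := Cfsg.Agent.Lib.PGroup.ConjAb.exists_normal_prime_index (G := G)
  obtain ⟨p, hp_def⟩ : ∃ p, p = N.index := ⟨_, rfl⟩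
  rw [← hp_def] at hNp
  haveI : Fact p.Prime := ⟨hNp⟩
  have hNco : IsCoatom N := Cfsg.Agent.Lib.PGroup.isCoatom_of_index_prime (by rw [← hp_def]; exact hNp)
  have hNtop : N ≠ ⊤ := hNco.1
  have hNab := normal_abelian hS N hNtop
  have hNcomm : ∀ a ∈ N, ∀ b ∈ N, a * b = b * a := by
    intro a ha b hb
    exact congrArg Subtype.val (hNab.is_comm.comm ⟨a, ha⟩ ⟨b, hb⟩)
  -- a `p`-element outside `N`
  obtain ⟨g, hg⟩ : ∃ g, g ∉ N := by
    by_contra h
    push_neg at h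
    exact hNtop (eq_top_iff.mpr (fun g _ => h g))
  obtain ⟨a₀, m, hm, hgo⟩ := Nat.exists_eq_pow_mul_and_not_dvd (orderOf_pos g).ne' p hNp.ne_one
  have hgp : g ^ p ∈ N := by
    rw [hp_def]
    exact N.pow_index_mem g
  obtain ⟨x, hx_def⟩ : ∃ x, x = g ^ m := ⟨_, rfl⟩
  have hxord : orderOf x = p ^ a₀ := by
    rw [hx_def, orderOf_pow_of_dvd (by rintro rfl; simp at hm) ⟨p ^ a₀, by rw [hgo, mul_comm]⟩, hgo]
    exact Nat.mul_div_cancel _ (Nat.pos_of_ne_zero (by rintro rfl; simp at hm))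
  have hxN : x ∉ N := by
    intro hx
    apply hg
    have hcop : IsCoprime (m : ℤ) (p : ℤ) :=
      Nat.isCoprime_iff_coprime.mpr ((Nat.Prime.coprime_iff_not_dvd hNp).mpr hm).symm
    obtain ⟨u, v, huv⟩ := hcop
    have h1 : g = (g ^ m) ^ u * (g ^ p) ^ v := by
      rw [← zpow_natCast g m, ← zpow_natCast g p, ← zpow_mul, ← zpow_mul, ← zpow_add, mul_comm (m : ℤ),
        mul_comm (p : ℤ), huv, zpow_one]
    rw [h1, ← hx_def]
    exact N.mul_mem (N.zpow_mem hx u) (N.zpow_mem hgp v)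
  have hNx : N ⊔ zpowers x = ⊤ := by
    apply hNco.2
    refine lt_of_le_of_ne le_sup_left ?_
    intro h
    apply hxN
    rw [h]
    exact (le_sup_right : zpowers x ≤ N ⊔ zpowers x) (mem_zpowers x)
  -- the decomposition of `N`
  obtain ⟨e, m', hm', hcard⟩ := Nat.exists_eq_pow_mul_and_not_dvd (Nat.card_pos (α := N)).ne' p hNp.ne_one
  have hNpow : ∀ n ∈ N, n ^ (p ^ e * m') = 1 := by
    intro n hn
    have h1 : (⟨n, hn⟩ : N) ^ Nat.card N = 1 := pow_card_eq_one'
    rw [hcard] at h1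
    exact congrArg Subtype.val h1
  let A : Subgroup G := powKer N hNcomm m'
  let Np : Subgroup G := powKer N hNcomm (p ^ e)
  haveI hAn : A.Normal := powKer_normal N hNcomm m'
  haveI hNpn : Np.Normal := powKer_normal N hNcomm (p ^ e)
  have hAN : A ≤ N := fun a ha => ha.1
  have hAcomm : ∀ a ∈ A, ∀ b ∈ A, a * b = b * a := fun a ha b hb => hNcomm a ha.1 b hb.1
  have hAc : IsMulCommutative A :=
    ⟨⟨fun u v => Subtype.ext (hAcomm _ u.2 _ v.2)⟩⟩
  have hAp : ¬ p ∣ Nat.card A := by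
    intro hdvd
    obtain ⟨y, hy⟩ := exists_prime_orderOf_dvd_card' p hdvd
    apply hm'
    rw [← hy, ← Subgroup.orderOf_coe]
    exact orderOf_dvd_of_pow_eq_one y.2.2
  have hNpp : IsPGroup p Np := fun y => ⟨e, Subtype.ext y.2.2⟩
  have hNdec : N ≤ Np ⊔ A := by
    intro n hn
    have hcop : IsCoprime ((p ^ e : ℕ) : ℤ) (m' : ℤ) :=
      Nat.isCoprime_iff_coprime.mpr (Nat.Coprime.pow_left e ((Nat.Prime.coprime_iff_not_dvd hNp).mpr hm'))
    obtain ⟨u, v, huv⟩ := hcop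
    have h1 : n = (n ^ m') ^ v * (n ^ (p ^ e)) ^ u := by
      rw [← zpow_natCast n (p ^ e), ← zpow_natCast n m', ← zpow_mul, ← zpow_mul, ← zpow_add,
        mul_comm (m' : ℤ), mul_comm ((p ^ e : ℕ) : ℤ), add_comm, huv, zpow_one]
    have h2 : n ^ m' ∈ Np := by
      refine ⟨N.pow_mem hn _, ?_⟩
      rw [← pow_mul, mul_comm]
      exact hNpow n hn
    have h3 : n ^ (p ^ e) ∈ A := ⟨N.pow_mem hn _, by rw [← pow_mul]; exact hNpow n hn⟩
    rw [h1]
    exact Subgroup.mul_mem_sup (Np.zpow_mem h2 v) (A.zpow_mem h3 u)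
  -- a Sylow subgroup containing `x`
  have hzp : IsPGroup p (zpowers x) := IsPGroup.of_card (n := a₀) (by rw [Nat.card_zpowers]; exact hxord)
  obtain ⟨R, hR⟩ := hzp.exists_le_sylow
  have hxR : x ∈ R := hR (mem_zpowers x)
  have hNpR : Np ≤ R := hNpp.le_sylow_of_normal R
  have hdisj : Disjoint (R : Subgroup G) A := by
    rw [disjoint_iff]
    apply Subgroup.inf_eq_bot_of_coprime
    obtain ⟨k, hk⟩ := (IsPGroup.iff_card.mp R.isPGroup')
    rw [hk]
    exact Nat.Coprime.pow_left k ((Nat.Prime.coprime_iff_not_dvd hNp).mpr hAp)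
  have htop : A ⊔ (R : Subgroup G) = ⊤ := by
    rw [eq_top_iff, ← hNx]
    refine sup_le (hNdec.trans (sup_le (hNpR.trans le_sup_right) le_sup_left)) ?_
    exact (zpowers_le.mpr hxR).trans le_sup_right
  have hnc : ∃ a ∈ A, a * x ≠ x * a := by
    by_contra hcon
    push_neg at hcon
    apply hnn
    have hAcen : ∀ a ∈ A, ∀ g : G, a * g = g * a := by
      intro a ha g
      have hg : g ∈ N ⊔ zpowers x := by rw [hNx]; trivial
      obtain ⟨n, hn, t, ht, rfl⟩ := mem_sup_of_normal_left.mp hg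
      obtain ⟨i, rfl⟩ := ht
      have h1 : Commute a n := hNcomm a ha.1 n hn
      have h2 : Commute a x := hcon a ha
      exact h1.mul_right (h2.zpow_right i)
    let φ : A × (R : Subgroup G) →* G := MonoidHom.noncommCoprod A.subtype (R : Subgroup G).subtype
      (fun a r => hAcen a a.2 r)
    letI : CommGroup A := { (inferInstance : Group A) with mul_comm := fun u v => Subtype.ext (hAcomm _ u.2 _ v.2) }
    haveI : Group.IsNilpotent (R : Subgroup G) := R.isPGroup'.isNilpotent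
    refine nilpotent_of_surjective φ ?_
    intro g
    have hg : g ∈ A ⊔ (R : Subgroup G) := by rw [htop]; trivial
    obtain ⟨a, ha, r, hr, rfl⟩ := mem_sup_of_normal_left.mp hg
    exact ⟨(⟨a, ha⟩, ⟨r, hr⟩), rfl⟩
  have hReq : (R : Subgroup G) = zpowers x := eq_zpowers_aux' hS A R hdisj R.isPGroup' hxR hnc
  have hsup : zpowers x ⊔ A = ⊤ := by rw [sup_comm, ← hReq]; exact htop
  have hcomp : (zpowers x).IsComplement' A := by
    apply isComplement'_of_disjoint_and_mul_eq_univ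
    · rw [← hReq]; exact hdisj
    · rw [← Subgroup.mul_normal, hsup]
      rfl
  have hcen : x ^ p ∈ center G := by
    have hxpN : x ^ p ∈ N := by
      rw [hp_def]
      exact N.pow_index_mem x
    have hle : N ⊔ zpowers x ≤ centralizer ({x ^ p} : Set G) :=
      sup_le (fun n hn => mem_centralizer_singleton_iff.mpr (hNcomm n hn _ hxpN))
        (zpowers_le.mpr (mem_centralizer_singleton_iff.mpr ((Commute.refl x).pow_right p).eq))
    rw [mem_center_iff]
    intro g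
    have hg : g ∈ N ⊔ zpowers x := by rw [hNx]; trivial
    exact mem_centralizer_singleton_iff.mp (hle hg)
  have hxk : x ^ (p ^ a₀) = 1 := by rw [← hxord]; exact pow_orderOf_eq_one x
  exact ⟨x, A, p, hNp, hAn, hAc, ⟨a₀, hxord⟩, hAp, hcomp, hcen, fpf_aux hS hAn hAcomm hNp hxk hAp hsup hnc⟩

end

end Cfsg.Agent.Lib.Cl.SelfNorm2
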