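import Cfsg.Agent.Lib.Cl.SuperSol2
import Cfsg.Agent.Lib.Fusion.Abelian
import Mathlib

/-! # Chains in abelian `p`-groups with distinct invariants -/

set_option autoImplicit false
set_option linter.unusedSectionVars false
set_option linter.unusedVariables false

namespace Cfsg.Agent.Lib.Cl.SuperSol

section Abelian

variable {G : Type*} [CommGroup G] {p : ℕ}

/-- Elements with `x^(p^c) = 1`. -/
def OmegaA (G : Type*) [CommGroup G] (p c : ℕ) : Subgroup G := (powMonoidHom (p ^ c) : G →* G).ker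

/-- The `p^a`-th powers. -/
def AgemoA (G : Type*) [CommGroup G] (p a : ℕ) : Subgroup G := (powMonoidHom (p ^ a) : G →* G).range

/-- The intermediate subgroups. -/
def WA (G : Type*) [CommGroup G] (p b a : ℕ) : Subgroup G := OmegaA G p b ⊔ (OmegaA G p (b + 1) ⊓ AgemoA G p a)

theorem mem_omegaA {c : ℕ} {x : G} : x ∈ OmegaA G p c ↔ x ^ (p ^ c) = 1 := MonoidHom.mem_ker

theorem mem_agemoA {a : ℕ} {x : G} : x ∈ AgemoA G p a ↔ ∃ w : G, w ^ (p ^ a) = x := MonoidHom.mem_range

/-- Invariance under all automorphisms. -/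
def CharA (U : Subgroup G) : Prop := ∀ α : MulAut G, ∀ u ∈ U, α u ∈ U

theorem charA_omega (c : ℕ) : CharA (OmegaA G p c) := fun α u hu => by
  rw [mem_omegaA] at hu ⊢
  rw [← map_pow, hu, map_one]

theorem charA_agemo (a : ℕ) : CharA (AgemoA G p a) := fun α u hu => by
  rw [mem_agemoA] at hu ⊢
  obtain ⟨w, rfl⟩ := hu
  exact ⟨α w, by rw [map_pow]⟩

theorem charA_W (b a : ℕ) : CharA (WA G p b a) := fun α u hu => by
  obtain ⟨x, hx, y, hy, rfl⟩ := Subgroup.mem_sup.1 hu
  rw [map_mul]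
  exact Subgroup.mem_sup.2 ⟨α x, charA_omega _ α x hx, α y, ⟨charA_omega _ α y hy.1, charA_agemo _ α y hy.2⟩, rfl⟩

/-- A cyclic step. -/
def Cyc (U U' : Subgroup G) : Prop := ∃ x ∈ U', ∀ y ∈ U', ∃ m : ℕ, ∃ u ∈ U, y = x ^ m * u

/-- `U` is reached by a chain of characteristic subgroups with cyclic steps. -/
def Reach (U : Subgroup G) : Prop :=
  ∃ (n : ℕ) (V : ℕ → Subgroup G), V 0 = ⊥ ∧ V n = U ∧ (∀ j, V j ≤ V (j + 1)) ∧ (∀ j, CharA (V j)) ∧ ∀ j, j < n → Cyc (V j) (V (j + 1))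

theorem reach_bot : Reach (⊥ : Subgroup G) :=
  ⟨0, fun _ => ⊥, rfl, rfl, fun _ => le_rfl, fun _ α u hu => by
    rw [Subgroup.mem_bot] at hu ⊢
    rw [hu, map_one], fun j hj => absurd hj (by omega)⟩

theorem Reach.step {U U' : Subgroup G} (h : Reach U) (hle : U ≤ U') (hc : CharA U') (hcyc : Cyc U U') : Reach U' := by
  obtain ⟨n, V, h0, hn, hm, hch, hst⟩ := h
  refine ⟨n + 1, fun j => if j ≤ n then V j else U', ?_, ?_, ?_, ?_, ?_⟩
  · simp [h0]
  · simp
  · intro j
    show (if j ≤ n then V j else U') ≤ (if j + 1 ≤ n then V (j + 1) else U')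
    by_cases h1 : j + 1 ≤ n
    · rw [if_pos h1, if_pos (by omega)]
      exact hm j
    · rw [if_neg h1]
      by_cases h2 : j ≤ n
      · rw [if_pos h2]
        have h3 : j = n := by omega
        rw [h3, hn]
        exact hle
      · rw [if_neg h2]
  · intro j
    show CharA (if j ≤ n then V j else U')
    split_ifs
    · exact hch j
    · exact hc
  · intro j hj
    show Cyc (if j ≤ n then V j else U') (if j + 1 ≤ n then V (j + 1) else U')
    by_cases h1 : j + 1 ≤ n
    · rw [if_pos h1, if_pos (by omega)]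
      exact hst j (by omega)
    · rw [if_neg h1, if_pos (by omega)]
      have h3 : j = n := by omega
      rw [h3, hn]
      exact hcyc

theorem omegaA_zero : OmegaA G p 0 = ⊥ := by
  ext x
  rw [mem_omegaA, Subgroup.mem_bot]
  simp

theorem W_le (b a : ℕ) : WA G p b (a + 1) ≤ WA G p b a := by
  refine sup_le_sup_left (inf_le_inf_left _ ?_) _
  intro x hx
  rw [mem_agemoA] at hx ⊢
  obtain ⟨w, rfl⟩ := hx
  exact ⟨w ^ p, by rw [← pow_mul, pow_succ']⟩

theorem omega_mono (hp : 0 < p) (b : ℕ) : OmegaA G p b ≤ OmegaA G p (b + 1) := by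
  intro x hx
  rw [mem_omegaA] at hx ⊢
  rw [pow_succ, pow_mul, hx, one_pow]

theorem W_zero (hp : 0 < p) (b : ℕ) : WA G p b 0 = OmegaA G p (b + 1) := by
  have h1 : AgemoA G p 0 = ⊤ := by
    ext x
    simp only [mem_agemoA, Subgroup.mem_top, iff_true]
    exact ⟨x, by simp⟩
  rw [WA, h1, inf_top_eq, sup_eq_right]
  exact omega_mono hp b

theorem W_top {E : ℕ} (hE : ∀ x : G, x ^ (p ^ E) = 1) (b : ℕ) : WA G p b E = OmegaA G p b := by
  have h1 : AgemoA G p E = ⊥ := by
    ext x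
    simp only [mem_agemoA, Subgroup.mem_bot]
    constructor
    · rintro ⟨w, rfl⟩
      exact hE w
    · rintro rfl
      exact ⟨1, one_pow _⟩
  rw [WA, h1, inf_bot_eq, sup_bot_eq]

theorem reach_omega (hp : 0 < p) (hstep : ∀ b a, Cyc (WA G p b (a + 1)) (WA G p b a)) {E : ℕ} (hE : ∀ x : G, x ^ (p ^ E) = 1) :
    ∀ b, Reach (OmegaA G p b) := by
  intro b
  induction b with
  | zero =>
    rw [omegaA_zero]
    exact reach_bot
  | succ b ih =>
    have key : ∀ k, k ≤ E → Reach (WA G p b (E - k)) := by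
      intro k
      induction k with
      | zero =>
        intro _
        rw [Nat.sub_zero, W_top hE]
        exact ih
      | succ k ihk =>
        intro hk
        have h1 := ihk (by omega)
        have h2 : E - k = (E - (k + 1)) + 1 := by omega
        rw [h2] at h1
        exact h1.step (W_le _ _) (charA_W _ _) (hstep _ _)
    have h3 := key E le_rfl
    rw [Nat.sub_self, W_zero hp] at h3
    exact h3

/-- From a chain up to the whole group to the conclusion about coprime automorphisms. -/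
theorem coprime_of_reach [Finite G] [Fact p.Prime] (hG : IsPGroup p G) (h : Reach (⊤ : Subgroup G))
    (H : Subgroup (MulAut G)) (hH : (Nat.card H).Coprime p) :
    IsMulCommutative H ∧ ∀ h ∈ H, h ^ (p - 1) = 1 := by
  obtain ⟨n, V, h0, hn, hm, hch, hst⟩ := h
  haveI hN : ∀ j, (V j).Normal := fun j => inferInstance
  obtain ⟨h1, h2⟩ := coprime_aut (p := p) (V := V) (n := n) hG h0 hn hm (fun j hj => by
      obtain ⟨x, hx, hy⟩ := hst j hj
      refine ⟨x, hx, fun y hyy => ?_⟩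
      obtain ⟨m, u, hu, rfl⟩ := hy y hyy
      refine ⟨m, ?_⟩
      rw [← QuotientGroup.mk_pow, QuotientGroup.eq]
      simpa using Subgroup.inv_mem _ hu) H hH (fun h hh j y hy => hch j h y hy)
  exact ⟨⟨⟨fun a b => Subtype.ext (h1 a a.2 b b.2)⟩⟩, h2⟩

end Abelian

section PiCase

variable {ι : Type*} [DecidableEq ι] {A : ι → Type*} [∀ i, CommGroup (A i)] {p : ℕ} [hpp : Fact p.Prime]

theorem cyc_pow_dvd {B : Type*} [CommGroup B] {g : B} {E : ℕ} (hord : ∀ W : ℕ, g ^ W = 1 ↔ p ^ E ∣ W) {a c W : ℕ}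
    (h : ((g ^ W) ^ (p ^ a)) ^ (p ^ c) = 1) (hE : a + c + 1 ≤ E) : p ∣ W := by
  have hp := hpp.out
  have h1 : g ^ (W * p ^ a * p ^ c) = 1 := by
    rw [pow_mul, pow_mul]
    exact h
  have h2 := (hord _).1 h1
  have h3 : p ^ (a + c + 1) ∣ W * (p ^ a * p ^ c) := by
    rw [mul_assoc] at h2
    exact (pow_dvd_pow p hE).trans h2
  have h4 : p ^ a * p ^ c * p ∣ W * (p ^ a * p ^ c) := by
    rw [← pow_add, ← pow_succ]
    rw [← pow_add] at h3
    exact h3
  have h5 : p * (p ^ a * p ^ c) ∣ W * (p ^ a * p ^ c) := by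
    rw [mul_comm p]
    exact h4
  have hpos := hp.pos
  exact Nat.dvd_of_mul_dvd_mul_right (by positivity) h5

/-- Decomposition of an element of the middle group. -/
theorem pi_decomp (g : ∀ i, A i) (e : ι → ℕ) (hgen : ∀ i (y : A i), ∃ W : ℕ, y = g i ^ W)
    (hord : ∀ i (W : ℕ), g i ^ W = 1 ↔ p ^ e i ∣ W) (b a : ℕ) {v w : ∀ i, A i} (hv : v ^ (p ^ (b + 1)) = 1) (hw : w ^ (p ^ a) = v) :
    ∃ u' ∈ OmegaA (∀ i, A i) p b, ∃ v' ∈ OmegaA (∀ i, A i) p (b + 1) ⊓ AgemoA (∀ i, A i) p (a + 1), ∃ s : ∀ i, A i,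
      v = u' * v' * s ∧ (∀ i, e i ≠ a + b + 1 → s i = 1) ∧ ∀ i, e i = a + b + 1 → s i = v i := by
  have hp := hpp.out
  have hvi : ∀ i, (v i) ^ (p ^ (b + 1)) = 1 := fun i => by
    have := congrFun hv i
    simpa using this
  have hwi : ∀ i, (w i) ^ (p ^ a) = v i := fun i => by
    have := congrFun hw i
    simpa using this
  have hroot : ∀ i, ∃ z : A i, a + b + 2 ≤ e i → z ^ (p ^ (a + 1)) = v i := by
    intro i
    by_cases hi : a + b + 2 ≤ e i
    · obtain ⟨W, hW⟩ := hgen i (w i)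
      have h1 : ((g i ^ W) ^ (p ^ a)) ^ (p ^ (b + 1)) = 1 := by
        rw [← hW, hwi, hvi]
      obtain ⟨W', rfl⟩ := cyc_pow_dvd (hord i) h1 (by omega)
      refine ⟨g i ^ W', fun _ => ?_⟩
      rw [← hwi, hW, ← pow_mul, ← pow_mul]
      congr 1
      ring
    · exact ⟨1, fun h => absurd h hi⟩
  choose z hz using hroot
  refine ⟨fun i => if e i ≤ a + b then v i else 1, ?_, fun i => if a + b + 2 ≤ e i then v i else 1, Subgroup.mem_inf.2 ⟨?_, ?_⟩,
    fun i => if e i = a + b + 1 then v i else 1, ?_, fun i hi => if_neg hi, fun i hi => if_pos hi⟩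
  · rw [mem_omegaA]
    funext i
    show (if e i ≤ a + b then v i else 1) ^ (p ^ b) = 1
    split_ifs with h1
    · obtain ⟨W, hW⟩ := hgen i (w i)
      rw [← hwi, hW, ← pow_mul, ← pow_mul]
      refine (hord i _).2 ?_
      have h2 : p ^ e i ∣ p ^ a * p ^ b := by
        rw [← pow_add]
        exact pow_dvd_pow p h1
      exact Dvd.dvd.mul_left h2 _
    · exact one_pow _
  · rw [mem_omegaA]
    funext i
    show (if a + b + 2 ≤ e i then v i else 1) ^ (p ^ (b + 1)) = 1
    split_ifs with h1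
    · exact hvi i
    · exact one_pow _
  · rw [mem_agemoA]
    refine ⟨fun i => if a + b + 2 ≤ e i then z i else 1, ?_⟩
    funext i
    show (if a + b + 2 ≤ e i then z i else 1) ^ (p ^ (a + 1)) = (if a + b + 2 ≤ e i then v i else 1)
    split_ifs with h1
    · exact hz i h1
    · exact one_pow _
  · funext i
    show v i = (if e i ≤ a + b then v i else 1) * (if a + b + 2 ≤ e i then v i else 1) * (if e i = a + b + 1 then v i else 1)
    by_cases h1 : e i ≤ a + b
    · rw [if_pos h1, if_neg (by omega), if_neg (by omega)]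
      simp
    · by_cases h2 : a + b + 2 ≤ e i
      · rw [if_neg h1, if_pos h2, if_neg (by omega)]
        simp
      · rw [if_neg h1, if_neg h2, if_pos (by omega)]
        simp

/-- The steps are cyclic for distinct invariants. -/
theorem pi_step (g : ∀ i, A i) (e : ι → ℕ) (hgen : ∀ i (y : A i), ∃ W : ℕ, y = g i ^ W)
    (hord : ∀ i (W : ℕ), g i ^ W = 1 ↔ p ^ e i ∣ W) (hdist : Function.Injective e) (b a : ℕ) :
    Cyc (WA (∀ i, A i) p b (a + 1)) (WA (∀ i, A i) p b a) := by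
  have hp := hpp.out
  by_cases hi : ∃ i₀, e i₀ = a + b + 1
  · obtain ⟨i₀, hi₀⟩ := hi
    refine ⟨Pi.mulSingle i₀ (g i₀ ^ (p ^ a)), Subgroup.mem_sup_right (Subgroup.mem_inf.2 ⟨?_, ?_⟩), ?_⟩
    · rw [mem_omegaA, ← Pi.mulSingle_pow, ← pow_mul]
      have h1 : g i₀ ^ (p ^ a * p ^ (b + 1)) = 1 := (hord i₀ _).2 (by
        rw [hi₀, ← pow_add]
        exact pow_dvd_pow p (by omega))
      rw [h1, Pi.mulSingle_one]
    · rw [mem_agemoA]
      exact ⟨Pi.mulSingle i₀ (g i₀), by rw [Pi.mulSingle_pow]⟩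
    · intro y hy
      obtain ⟨u, hu, v, hv, rfl⟩ := Subgroup.mem_sup.1 hy
      obtain ⟨hv1, hv2⟩ := Subgroup.mem_inf.1 hv
      obtain ⟨w, hw⟩ := mem_agemoA.1 hv2
      obtain ⟨u', hu', v', hv', s, hvs, hs1, hs2⟩ := pi_decomp g e hgen hord b a (mem_omegaA.1 hv1) hw
      obtain ⟨W, hW⟩ := hgen i₀ (w i₀)
      refine ⟨W, u * u' * v', Subgroup.mem_sup.2 ⟨u * u', Subgroup.mul_mem _ hu hu', v', hv', rfl⟩, ?_⟩
      have hs : s = (Pi.mulSingle i₀ (g i₀ ^ (p ^ a))) ^ W := by
        funext i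
        by_cases hii : i = i₀
        · subst hii
          have h2 := hs2 i hi₀
          have h3 : (w i) ^ (p ^ a) = v i := by
            have := congrFun hw i
            simpa using this
          simp only [Pi.pow_apply, Pi.mulSingle_eq_same]
          rw [h2, ← h3, hW, ← pow_mul, ← pow_mul, mul_comm]
        · simp only [Pi.pow_apply, Pi.mulSingle_eq_of_ne hii, one_pow]
          exact hs1 i (fun h => hii (hdist (h.trans hi₀.symm)))
      rw [hvs, hs]
      ac_rfl
  · refine ⟨1, Subgroup.one_mem _, fun y hy => ?_⟩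
    refine ⟨0, y, ?_, by simp⟩
    obtain ⟨u, hu, v, hv, rfl⟩ := Subgroup.mem_sup.1 hy
    obtain ⟨hv1, hv2⟩ := Subgroup.mem_inf.1 hv
    obtain ⟨w, hw⟩ := mem_agemoA.1 hv2
    obtain ⟨u', hu', v', hv', s, hvs, hs1, hs2⟩ := pi_decomp g e hgen hord b a (mem_omegaA.1 hv1) hw
    have hs : s = 1 := by
      funext i
      exact hs1 i (fun h => hi ⟨i, h⟩)
    rw [hvs, hs, mul_one]
    exact Subgroup.mem_sup.2 ⟨u * u', Subgroup.mul_mem _ hu hu', v', hv', by ac_rfl⟩

/-- The conclusion for products of cyclic groups with distinct orders. -/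
theorem coprime_of_pi [Finite (∀ i, A i)] (hG : IsPGroup p (∀ i, A i)) (g : ∀ i, A i) (e : ι → ℕ)
    (hgen : ∀ i (y : A i), ∃ W : ℕ, y = g i ^ W)
    (hord : ∀ i (W : ℕ), g i ^ W = 1 ↔ p ^ e i ∣ W) (hdist : Function.Injective e)
    (H : Subgroup (MulAut (∀ i, A i))) (hH : (Nat.card H).Coprime p) :
    IsMulCommutative H ∧ ∀ h ∈ H, h ^ (p - 1) = 1 := by
  have hp := hpp.out
  obtain ⟨E, hE⟩ := IsPGroup.iff_card.1 hG
  have hE' : ∀ x : ∀ i, A i, x ^ (p ^ E) = 1 := fun x => by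
    rw [← hE]
    exact pow_card_eq_one'
  have h1 : Reach (OmegaA (∀ i, A i) p E) := reach_omega hp.pos (pi_step g e hgen hord hdist) hE' E
  have h2 : OmegaA (∀ i, A i) p E = ⊤ := by
    ext x
    simp only [mem_omegaA, Subgroup.mem_top, iff_true]
    exact hE' x
  rw [h2] at h1
  exact coprime_of_reach hG h1 H hH

end PiCase

section Transport

variable {S T : Type*} [Group S] [Group T] {p : ℕ}

/-- The condition on coprime subgroups transports across isomorphisms. -/
theorem cond_transport (f : S ≃* T)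
    (h : ∀ H : Subgroup (MulAut T), (Nat.card H).Coprime p → IsMulCommutative H ∧ ∀ h ∈ H, h ^ (p - 1) = 1)
    (H : Subgroup (MulAut S)) (hH : (Nat.card H).Coprime p) : IsMulCommutative H ∧ ∀ h ∈ H, h ^ (p - 1) = 1 := by
  set c : MulAut S ≃* MulAut T := MulAut.congr f with hc
  have hcard : Nat.card (H.map c.toMonoidHom) = Nat.card H :=
    Nat.card_congr (Subgroup.equivMapOfInjective _ _ c.injective).symm.toEquiv
  obtain ⟨h1, h2⟩ := h (H.map c.toMonoidHom) (by rwa [hcard])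
  refine ⟨⟨⟨fun a b => Subtype.ext ?_⟩⟩, fun x hx => ?_⟩
  · have h3 := h1.1.1 ⟨c a, ⟨a, a.2, rfl⟩⟩ ⟨c b, ⟨b, b.2, rfl⟩⟩
    have h4 := congrArg Subtype.val h3
    simp only [Subgroup.coe_mul, ← map_mul] at h4
    exact c.injective h4
  · have h3 := h2 (c x) ⟨x, hx, rfl⟩
    rw [← map_pow] at h3
    exact c.injective (by rw [h3, map_one])

end Transport

section Split

/-- Splitting off two isomorphic factors of a product. -/
noncomputable def splitEquiv {ι : Type} [DecidableEq ι] {A : ι → Type} [∀ k, CommGroup (A k)] {i j : ι} (hij : i ≠ j) {C : Type}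
    [CommGroup C] (ei : A i ≃* C) (ej : A j ≃* C) :
    (∀ k, A k) ≃* (C × C) × (∀ k : {k // k ≠ i ∧ k ≠ j}, A k) where
  toFun x := ((ei (x i), ej (x j)), fun k => x k.1)
  invFun y := fun k => if h : k = i then h ▸ ei.symm y.1.1 else if h' : k = j then h' ▸ ej.symm y.1.2 else y.2 ⟨k, h, h'⟩
  left_inv x := by
    funext k
    by_cases h : k = i
    · subst h
      simp
    · by_cases h' : k = j
      · subst h'
        simp [h]
      · simp [h, h']
  right_inv y := by
    obtain ⟨⟨a, b⟩, f⟩ := y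
    refine Prod.ext (Prod.ext ?_ ?_) ?_
    · simp
    · simp [hij.symm]
    · funext k
      simp [k.2.1, k.2.2]
  map_mul' x y := by
    refine Prod.ext (Prod.ext ?_ ?_) ?_
    · simp
    · simp
    · funext k
      simp

theorem cond_of_noSplit {G : Type*} [CommGroup G] [Finite G] {p : ℕ} [hpp : Fact p.Prime] (hG : IsPGroup p G)
    (hno : ¬ ∃ (n : ℕ) (H : Type) (_ : CommGroup H), 0 < n ∧
      Nonempty (G ≃* (Multiplicative (ZMod (p ^ n)) × Multiplicative (ZMod (p ^ n))) × H))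
    (H : Subgroup (MulAut G)) (hH : (Nat.card H).Coprime p) : IsMulCommutative H ∧ ∀ h ∈ H, h ^ (p - 1) = 1 := by
  classical
  have hp := hpp.out
  obtain ⟨ι, hι, n, hn, ⟨φ⟩⟩ := CommGroup.equiv_prod_multiplicative_zmod_of_finite G
  haveI : ∀ i, NeZero (n i) := fun i => ⟨by have := hn i; omega⟩
  have hGT : IsPGroup p (∀ i, Multiplicative (ZMod (n i))) := IsPGroup.of_surjective hG φ.toMonoidHom φ.surjective
  let g : ∀ i, Multiplicative (ZMod (n i)) := fun i => Multiplicative.ofAdd 1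
  have hpow : ∀ i (W : ℕ), g i ^ W = Multiplicative.ofAdd ((W : ZMod (n i))) := fun i W => by
    show (Multiplicative.ofAdd (1 : ZMod (n i))) ^ W = _
    rw [← ofAdd_nsmul]
    simp
  have hgen : ∀ i (y : Multiplicative (ZMod (n i))), ∃ W : ℕ, y = g i ^ W := fun i y => by
    refine ⟨(Multiplicative.toAdd y).val, ?_⟩
    rw [hpow]
    simp
  have hone : ∀ i (W : ℕ), g i ^ W = 1 ↔ n i ∣ W := fun i W => by
    rw [hpow, ← ZMod.natCast_eq_zero_iff]
    exact ofAdd_eq_one
  have hnp : ∀ i, ∃ e, n i = p ^ e := by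
    intro i
    obtain ⟨k, hk⟩ := hGT (Pi.mulSingle i (g i))
    have h1 : g i ^ (p ^ k) = 1 := by
      have := congrFun hk i
      simpa using this
    obtain ⟨m, -, hm⟩ := (Nat.dvd_prime_pow hp).1 ((hone i _).1 h1)
    exact ⟨m, hm⟩
  choose e he using hnp
  have hord : ∀ i (W : ℕ), g i ^ W = 1 ↔ p ^ e i ∣ W := fun i W => by
    rw [hone, he]
  have hdist : Function.Injective e := by
    intro i j hij
    by_contra hne
    apply hno
    have hpos : 0 < e i := by
      rcases Nat.eq_zero_or_pos (e i) with h | h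
      · have h1 := he i
        rw [h, pow_zero] at h1
        have := hn i
        omega
      · exact h
    have hj' : n j = p ^ e i := by rw [he j, hij]
    refine ⟨e i, ∀ k : {k // k ≠ i ∧ k ≠ j}, Multiplicative (ZMod (n k)), inferInstance, hpos, ⟨φ.trans ?_⟩⟩
    exact splitEquiv (A := fun k => Multiplicative (ZMod (n k))) hne (ZMod.ringEquivCongr (he i)).toAddEquiv.toMultiplicative
      (ZMod.ringEquivCongr hj').toAddEquiv.toMultiplicative
  exact cond_transport φ (coprime_of_pi hGT g e hgen hord hdist) H hH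

end Split

section Fail

variable {C K : Type*} [CommGroup C] [CommGroup K]

/-- The automorphism of order dividing `3`. -/
def rhoA : MulAut ((C × C) × K) where
  toFun t := ((t.1.2, (t.1.1 * t.1.2)⁻¹), t.2)
  invFun t := (((t.1.1 * t.1.2)⁻¹, t.1.1), t.2)
  left_inv t := by
    obtain ⟨⟨x, y⟩, z⟩ := t
    simp
  right_inv t := by
    obtain ⟨⟨x, y⟩, z⟩ := t
    simp
  map_mul' a b := by
    obtain ⟨⟨x, y⟩, z⟩ := a
    obtain ⟨⟨x', y'⟩, z'⟩ := b
    refine Prod.ext (Prod.ext ?_ ?_) ?_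
    · simp
    · show ((x * x') * (y * y'))⁻¹ = (x * y)⁻¹ * (x' * y')⁻¹
      rw [mul_mul_mul_comm, mul_inv]
    · simp

theorem rhoA_cube : (rhoA : MulAut ((C × C) × K)) ^ 3 = 1 := by
  ext t
  · simp [pow_succ, rhoA]
  · simp [pow_succ, rhoA]
  · simp [pow_succ, rhoA]

/-- The exchange of the two factors. -/
def sigmaA : MulAut ((C × C) × K) where
  toFun t := ((t.1.2, t.1.1), t.2)
  invFun t := ((t.1.2, t.1.1), t.2)
  left_inv t := rfl
  right_inv t := rfl
  map_mul' a b := rfl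

/-- Inversion on the second factor. -/
def deltaA : MulAut ((C × C) × K) where
  toFun t := ((t.1.1, t.1.2⁻¹), t.2)
  invFun t := ((t.1.1, t.1.2⁻¹), t.2)
  left_inv t := by simp
  right_inv t := by simp
  map_mul' a b := by
    refine Prod.ext (Prod.ext rfl ?_) rfl
    simp [mul_comm]

/-- Signed permutation automorphisms. -/
def SignedA (α : MulAut ((C × C) × K)) : Prop :=
  ∃ s t : ℤˣ, (∀ x y z, α ((x, y), z) = ((x ^ (s : ℤ), y ^ (t : ℤ)), z)) ∨ (∀ x y z, α ((x, y), z) = ((y ^ (s : ℤ), x ^ (t : ℤ)), z))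

theorem signedA_one : SignedA (1 : MulAut ((C × C) × K)) := ⟨1, 1, Or.inl fun x y z => by simp⟩

theorem signedA_mul (a b : MulAut ((C × C) × K)) (ha : SignedA a) (hb : SignedA b) : SignedA (a * b) := by
  obtain ⟨s, t, h1 | h1⟩ := ha <;> obtain ⟨s', t', h2 | h2⟩ := hb
  · exact ⟨s' * s, t' * t, Or.inl fun x y z => by
      rw [MulAut.mul_apply, h2, h1]
      simp only [Units.val_mul, zpow_mul]⟩
  · exact ⟨s' * s, t' * t, Or.inr fun x y z => by
      rw [MulAut.mul_apply, h2, h1]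
      simp only [Units.val_mul, zpow_mul]⟩
  · exact ⟨t' * s, s' * t, Or.inr fun x y z => by
      rw [MulAut.mul_apply, h2, h1]
      simp only [Units.val_mul, zpow_mul]⟩
  · exact ⟨t' * s, s' * t, Or.inl fun x y z => by
      rw [MulAut.mul_apply, h2, h1]
      simp only [Units.val_mul, zpow_mul]⟩

theorem signedA_pow4 (a : MulAut ((C × C) × K)) (ha : SignedA a) : a ^ (2 ^ 2) = 1 := by
  obtain ⟨s, t, h1 | h1⟩ := ha
  · have h2 : ∀ x y z, (a * a) ((x, y), z) = ((x, y), z) := fun x y z => by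
      rw [MulAut.mul_apply, h1, h1, ← zpow_mul, ← zpow_mul, Int.units_coe_mul_self, Int.units_coe_mul_self]
      simp
    have h3 : a * a = 1 := by
      ext t <;> (obtain ⟨⟨x, y⟩, z⟩ := t; rw [h2]; rfl)
    calc a ^ (2 ^ 2) = (a * a) * (a * a) := by
          rw [show (2 ^ 2 : ℕ) = 2 + 2 from rfl, pow_add, pow_two]
      _ = 1 := by rw [h3, mul_one]
  · have h2 : ∀ x y z, (a * a) ((x, y), z) = ((x ^ ((t * s : ℤˣ) : ℤ), y ^ ((s * t : ℤˣ) : ℤ)), z) := fun x y z => by
      rw [MulAut.mul_apply, h1, h1, ← zpow_mul, ← zpow_mul]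
      simp only [Units.val_mul]
    have h3 : ∀ x y z, ((a * a) * (a * a)) ((x, y), z) = ((x, y), z) := fun x y z => by
      rw [MulAut.mul_apply, h2, h2, ← zpow_mul, ← zpow_mul]
      have e1 : (((t * s : ℤˣ) : ℤ)) * ((t * s : ℤˣ) : ℤ) = 1 := Int.units_coe_mul_self _
      have e2 : (((s * t : ℤˣ) : ℤ)) * ((s * t : ℤˣ) : ℤ) = 1 := Int.units_coe_mul_self _
      rw [e1, e2]
      simp
    have h4 : (a * a) * (a * a) = 1 := by
      ext t <;> (obtain ⟨⟨x, y⟩, z⟩ := t; rw [h3]; rfl)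
    calc a ^ (2 ^ 2) = (a * a) * (a * a) := by
          rw [show (2 ^ 2 : ℕ) = 2 + 2 from rfl, pow_add, pow_two]
      _ = 1 := h4

end Fail

section Final

open Cfsg Cfsg.FusionSystem Cfsg.Agent.Lib.Fusion

theorem noSplit_of_cond {G : Type*} [Group G] [Finite G] {p : ℕ} [hpp : Fact p.Prime]
    (hcond : ∀ H : Subgroup (MulAut G), (Nat.card H).Coprime p → IsMulCommutative H ∧ ∀ h ∈ H, h ^ (p - 1) = 1) :
    ¬ ∃ (n : ℕ) (H : Type) (_ : CommGroup H), 0 < n ∧
      Nonempty (G ≃* (Multiplicative (ZMod (p ^ n)) × Multiplicative (ZMod (p ^ n))) × H) := by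
  rintro ⟨n, K, _, hn, ⟨φ⟩⟩
  have hp := hpp.out
  have hT := cond_transport φ.symm hcond
  haveI hfin0 : Finite ((Multiplicative (ZMod (p ^ n)) × Multiplicative (ZMod (p ^ n))) × K) := Finite.of_equiv G φ.toEquiv
  have hfin : Finite (MulAut ((Multiplicative (ZMod (p ^ n)) × Multiplicative (ZMod (p ^ n))) × K)) := finite_mulAut _
  let g : Multiplicative (ZMod (p ^ n)) := Multiplicative.ofAdd 1
  have hg : ∀ k : ℕ, g ^ k = 1 → p ^ n ∣ k := fun k hk => by
    rw [← ZMod.natCast_eq_zero_iff]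
    have h1 : g ^ k = Multiplicative.ofAdd ((k : ZMod (p ^ n))) := by
      show (Multiplicative.ofAdd (1 : ZMod (p ^ n))) ^ k = _
      rw [← ofAdd_nsmul]
      simp
    rw [h1] at hk
    exact ofAdd_eq_one.1 hk
  have hle : p ≤ p ^ n := Nat.le_self_pow hn.ne' p
  rcases eq_or_ne p 2 with rfl | h2
  · have hc : (Nat.card (Subgroup.zpowers (rhoA : MulAut ((Multiplicative (ZMod (2 ^ n)) × Multiplicative (ZMod (2 ^ n))) × K)))).Coprime 2 := by
      rw [Nat.card_zpowers]
      have h3 : orderOf (rhoA : MulAut ((Multiplicative (ZMod (2 ^ n)) × Multiplicative (ZMod (2 ^ n))) × K)) ∣ 3 :=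
        orderOf_dvd_of_pow_eq_one rhoA_cube
      exact Nat.Coprime.coprime_dvd_left h3 (by norm_num)
    have h3 := (hT _ hc).2 rhoA (Subgroup.mem_zpowers _)
    have h4 : (rhoA : MulAut ((Multiplicative (ZMod (2 ^ n)) × Multiplicative (ZMod (2 ^ n))) × K)) ((g, 1), 1) = ((g, 1), 1) := by
      have h5 : (rhoA : MulAut ((Multiplicative (ZMod (2 ^ n)) × Multiplicative (ZMod (2 ^ n))) × K)) = 1 := by simpa using h3
      rw [h5]
      rfl
    have h6 : (1 : Multiplicative (ZMod (2 ^ n))) = g := congrArg (fun t => t.1.1) h4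
    have h7 := hg 1 (by rw [pow_one]; exact h6.symm)
    have h8 : 2 ^ n ≤ 1 := Nat.le_of_dvd one_pos h7
    omega
  · let Q := finiteSubgroup {a : MulAut ((Multiplicative (ZMod (p ^ n)) × Multiplicative (ZMod (p ^ n))) × K) | SignedA a} signedA_one signedA_mul
    have hQ2 : IsPGroup 2 Q := fun a => ⟨2, Subtype.ext (signedA_pow4 _ a.2)⟩
    obtain ⟨e, he⟩ := IsPGroup.iff_card.1 hQ2
    have hcop : (Nat.card Q).Coprime p := by
      rw [he]
      exact Nat.Coprime.pow_left _ ((Nat.coprime_primes Nat.prime_two hp).2 h2.symm)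
    obtain ⟨h1, -⟩ := hT Q hcop
    have hs : SignedA (sigmaA : MulAut ((Multiplicative (ZMod (p ^ n)) × Multiplicative (ZMod (p ^ n))) × K)) :=
      ⟨1, 1, Or.inr fun x y z => by simp [sigmaA]⟩
    have hd : SignedA (deltaA : MulAut ((Multiplicative (ZMod (p ^ n)) × Multiplicative (ZMod (p ^ n))) × K)) :=
      ⟨1, -1, Or.inl fun x y z => by simp [deltaA]⟩
    have h3 := congrArg Subtype.val (h1.1.1 (⟨sigmaA, hs⟩ : Q) (⟨deltaA, hd⟩ : Q))
    have h4 : ((sigmaA * deltaA : MulAut ((Multiplicative (ZMod (p ^ n)) × Multiplicative (ZMod (p ^ n))) × K))) ((1, g), 1) =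
        (deltaA * sigmaA : MulAut ((Multiplicative (ZMod (p ^ n)) × Multiplicative (ZMod (p ^ n))) × K)) ((1, g), 1) := by
      have h5 : (sigmaA * deltaA : MulAut ((Multiplicative (ZMod (p ^ n)) × Multiplicative (ZMod (p ^ n))) × K)) = deltaA * sigmaA := h3
      rw [h5]
    have h6 : g⁻¹ = g := congrArg (fun t => t.1.1) h4
    have h7 := hg 2 (by
      rw [pow_two]
      nth_rewrite 1 [← h6]
      exact inv_mul_cancel g)
    have h8 : p ^ n ≤ 2 := Nat.le_of_dvd two_pos h7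
    have h9 := hp.two_le
    omega

/-- The abelian case. -/
theorem chain_abelian_iff {Ω : Type*} [Group Ω] {S : Subgroup Ω} [Finite S] (p : ℕ) [Fact p.Prime] (hS : IsPGroup p S)
    (hab : IsMulCommutative S) :
    (∀ F : FusionSystem S, F.IsSaturated p → (∃ (m : ℕ) (c : Fin (m + 1) → Subgroup Ω), c 0 = ⊥ ∧ c (Fin.last m) = S ∧
      (∀ i : Fin (m + 1), F.StronglyClosed (c i)) ∧ ∀ i : Fin m, c i.castSucc ≤ c i.succ ∧ ∃ x ∈ S, c i.succ = c i.castSucc ⊔ Subgroup.zpowers x)) ↔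
    ¬ ∃ (n : ℕ) (H : Type) (_ : CommGroup H), 0 < n ∧
      Nonempty (S ≃* (Multiplicative (ZMod (p ^ n)) × Multiplicative (ZMod (p ^ n))) × H) := by
  rw [chain_iff hS]
  have hab' : ∀ x ∈ S, ∀ y ∈ S, x * y = y * x := fun x hx y hy =>
    congrArg Subtype.val (hab.1.1 ⟨x, hx⟩ ⟨y, hy⟩)
  constructor
  · rintro ⟨-, h⟩
    exact noSplit_of_cond h
  · intro h
    refine ⟨fun F hF => abelian_isNormal hS hF hab', ?_⟩
    letI : CommGroup S := { (inferInstance : Group S) with mul_comm := fun a b => hab.1.1 a b }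
    exact cond_of_noSplit hS h

end Final

end Cfsg.Agent.Lib.Cl.SuperSol
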