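import Cfsg.Agent.Lib.Fusion.NormalSub
import Cfsg.Agent.Lib.Fusion.TopSys
import Cfsg.Agent.Lib.Fusion.PrimeIndex
import Mathlib

/-! # Chains with cyclic factors: scalar actions of automorphisms -/

set_option autoImplicit false
set_option linter.unusedSectionVars false
set_option linter.unusedVariables false

namespace Cfsg.Agent.Lib.Cl.SuperSol

variable {G : Type*} [Group G] {p : ℕ}

section Act

variable (V : ℕ → Subgroup G) [hN : ∀ j, (V j).Normal]

/-- `γ` acts on the `j`th factor as the `r`th power. -/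
def Act (j : ℕ) (γ : MulAut G) (r : ℕ) : Prop :=
  ∀ y ∈ V (j + 1), ((γ y : G) : G ⧸ V j) = ((y : G) : G ⧸ V j) ^ r

/-- `γ` preserves the chain. -/
def Pres (γ : MulAut G) : Prop := ∀ j, ∀ y ∈ V j, γ y ∈ V j

variable {V}

theorem pres_congr {γ : MulAut G} (hγ : Pres V γ) {j : ℕ} {u v : G} (h : (u : G ⧸ V j) = (v : G ⧸ V j)) :
    ((γ u : G) : G ⧸ V j) = ((γ v : G) : G ⧸ V j) := by
  rw [QuotientGroup.eq] at h ⊢
  have := hγ j _ h
  simpa using this

theorem Pres.mul {γ δ : MulAut G} (hγ : Pres V γ) (hδ : Pres V δ) : Pres V (γ * δ) :=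
  fun j y hy => hγ j _ (hδ j y hy)

theorem Pres.pow {γ : MulAut G} (hγ : Pres V γ) (m : ℕ) : Pres V (γ ^ m) := by
  induction m with
  | zero => exact fun j y hy => by simpa using hy
  | succ m ih =>
    rw [pow_succ]
    exact ih.mul hγ

theorem act_comp {j : ℕ} {γ δ : MulAut G} {r s : ℕ} (hγ : Pres V γ) (h₁ : Act V j γ r) (h₂ : Act V j δ s) :
    Act V j (γ * δ) (r * s) := by
  intro y hy
  have e1 : ((δ y : G) : G ⧸ V j) = ((y ^ s : G) : G ⧸ V j) := by
    rw [h₂ y hy, QuotientGroup.mk_pow]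
  have e2 := pres_congr hγ e1
  rw [MulAut.mul_apply, e2, map_pow, QuotientGroup.mk_pow, h₁ y hy, ← pow_mul]

theorem act_one {j : ℕ} : Act V j (1 : MulAut G) 1 := fun y _ => by simp

theorem act_pow {j : ℕ} {γ : MulAut G} {r : ℕ} (hγ : Pres V γ) (h : Act V j γ r) (m : ℕ) :
    Act V j (γ ^ m) (r ^ m) := by
  induction m with
  | zero => simpa using act_one
  | succ m ih =>
    rw [pow_succ, pow_succ]
    exact act_comp (hγ.pow m) ih h

theorem act_comm {j : ℕ} {γ δ : MulAut G} {r s : ℕ} (hγ : Pres V γ) (hδ : Pres V δ) (h₁ : Act V j γ r)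
    (h₂ : Act V j δ s) {y : G} (hy : y ∈ V (j + 1)) :
    (((γ * δ) y : G) : G ⧸ V j) = (((δ * γ) y : G) : G ⧸ V j) := by
  rw [act_comp hγ h₁ h₂ y hy, act_comp hδ h₂ h₁ y hy, mul_comm]

/-- Cyclic factor: every automorphism preserving the chain acts as a power. -/
theorem exists_act {j : ℕ} {γ : MulAut G} (hγ : Pres V γ)
    (hc : ∃ x ∈ V (j + 1), ∀ y ∈ V (j + 1), ∃ m : ℕ, (y : G ⧸ V j) = (x : G ⧸ V j) ^ m) : ∃ r, Act V j γ r := by
  obtain ⟨x, hx, hc⟩ := hc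
  obtain ⟨r, hr⟩ := hc _ (hγ _ _ hx)
  refine ⟨r, fun y hy => ?_⟩
  obtain ⟨m, hm⟩ := hc y hy
  have e1 : (y : G ⧸ V j) = ((x ^ m : G) : G ⧸ V j) := by rw [hm, QuotientGroup.mk_pow]
  rw [pres_congr hγ e1, map_pow, QuotientGroup.mk_pow, hr, hm, ← pow_mul, ← pow_mul, mul_comm]

end Act

section PElt

variable [Fact p.Prime]

/-- In a `p`-group, `x ^ a = x` with `a ≢ 1` modulo `p` forces `x = 1`. -/
theorem eq_one_of_pow_eq {Q : Type*} [Group Q] (hQ : IsPGroup p Q) {x : Q} {a : ℕ} (h : x ^ a = x)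
    (ha : ¬ ∃ t, a = 1 + p * t) : x = 1 := by
  rcases Nat.eq_zero_or_pos a with rfl | hpos
  · simpa using h.symm
  obtain ⟨b, rfl⟩ : ∃ b, a = b + 1 := ⟨a - 1, by omega⟩
  have h1 : x ^ b = 1 := by
    rw [pow_succ] at h
    exact mul_eq_right.1 h
  obtain ⟨k, hk⟩ := hQ x
  have h2 : orderOf x ∣ p ^ k := orderOf_dvd_of_pow_eq_one hk
  have h3 : orderOf x ∣ b := orderOf_dvd_of_pow_eq_one h1
  obtain ⟨i, -, hi⟩ := (Nat.dvd_prime_pow (Fact.out : p.Prime)).1 h2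
  rcases Nat.eq_zero_or_pos i with rfl | hipos
  · rw [pow_zero] at hi
    exact orderOf_eq_one_iff.1 hi
  · exfalso
    apply ha
    have : p ∣ b := (dvd_pow_self p hipos.ne').trans (hi ▸ h3)
    obtain ⟨t, rfl⟩ := this
    exact ⟨t, by ring⟩

variable {V : ℕ → Subgroup G} [hN : ∀ j, (V j).Normal]

variable (V p) in
/-- `γ` acts on the `j`th factor as a power congruent to one modulo `p`. -/
def OnePlus (j : ℕ) (γ : MulAut G) : Prop := ∃ t, Act V j γ (1 + p * t)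

theorem onePlus_of_pElt (hG : IsPGroup p G) {j : ℕ} {γ : MulAut G} {r : ℕ} (hγ : Pres V γ) (h : Act V j γ r) {N : ℕ}
    (hN' : γ ^ (p ^ N) = 1) : OnePlus p V j γ := by
  by_cases hr : ∃ t, r = 1 + p * t
  · obtain ⟨t, rfl⟩ := hr
    exact ⟨t, h⟩
  have hp := (Fact.out : p.Prime)
  have ha : ¬ ∃ t, r ^ (p ^ N) = 1 + p * t := by
    rintro ⟨t, ht⟩
    apply hr
    have h1 : ((r ^ (p ^ N) : ℕ) : ZMod p) = 1 := by
      rw [ht]
      simp
    rw [Nat.cast_pow, ZMod.pow_card_pow] at h1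
    have h2 : r ≡ 1 [MOD p] := by
      rw [← ZMod.natCast_eq_natCast_iff]
      simpa using h1
    have hr0 : 1 ≤ r := by
      rcases Nat.eq_zero_or_pos r with rfl | hpos
      · exfalso
        have : ((0 : ℕ) : ZMod p) = 1 := h1
        simp at this
      · exact hpos
    obtain ⟨t', ht'⟩ := (Nat.modEq_iff_dvd' hr0).1 h2.symm
    exact ⟨t', by omega⟩
  have hQ : IsPGroup p (G ⧸ V j) := hG.to_quotient _
  have h1 : ∀ y ∈ V (j + 1), (y : G ⧸ V j) = 1 := by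
    intro y hy
    have h2 := act_pow hγ h (p ^ N) y hy
    rw [hN'] at h2
    exact eq_one_of_pow_eq hQ h2.symm ha
  refine ⟨0, fun y hy => ?_⟩
  rw [h y hy, h1 y hy]
  simp

theorem onePlus_of_coprime (hG : IsPGroup p G) {j : ℕ} {h : MulAut G} {r : ℕ} (hγ : Pres V h) (ha : Act V j h r) {n : ℕ}
    (hn : 0 < n) (hn1 : h ^ n = 1) : OnePlus p V j (h ^ (p - 1)) := by
  have hp := (Fact.out : p.Prime)
  by_cases hpr : p ∣ r
  · have hno : ¬ ∃ t, r ^ n = 1 + p * t := by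
      rintro ⟨t, ht⟩
      have h1 : p ∣ r ^ n := hpr.trans (dvd_pow_self r hn.ne')
      rw [ht] at h1
      have h2 : p ∣ 1 := (Nat.dvd_add_left (dvd_mul_right p t)).1 h1
      exact hp.one_lt.ne' (Nat.dvd_one.1 h2)
    have hQ : IsPGroup p (G ⧸ V j) := hG.to_quotient _
    have h1 : ∀ y ∈ V (j + 1), (y : G ⧸ V j) = 1 := by
      intro y hy
      have h2 := act_pow hγ ha n y hy
      rw [hn1] at h2
      exact eq_one_of_pow_eq hQ h2.symm hno
    refine ⟨0, fun y hy => ?_⟩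
    rw [act_pow hγ ha (p - 1) y hy, h1 y hy]
    simp
  · have h1 : ((r : ℕ) : ZMod p) ≠ 0 := by
      rwa [Ne, ZMod.natCast_eq_zero_iff]
    have h2 := ZMod.pow_card_sub_one_eq_one h1
    have h3 : r ^ (p - 1) ≡ 1 [MOD p] := by
      rw [← ZMod.natCast_eq_natCast_iff]
      simpa using h2
    have h4 : 1 ≤ r ^ (p - 1) := by
      apply Nat.one_le_pow
      rcases Nat.eq_zero_or_pos r with rfl | hpos
      · exact absurd (dvd_zero p) hpr
      · exact hpos
    obtain ⟨t, ht⟩ := (Nat.modEq_iff_dvd' h4).1 h3.symm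
    refine ⟨t, ?_⟩
    have h5 : 1 + p * t = r ^ (p - 1) := by omega
    rw [h5]
    exact act_pow hγ ha _

/-- A power of `1 + p t` of `p`-power exponent. -/
theorem pow_one_add_pow {Q : Type*} [Group Q] {x : Q} {e t : ℕ} (hx : x ^ (p ^ e) = 1) :
    x ^ ((1 + p * t) ^ (p ^ e)) = x := by
  set A := (1 + p * t) ^ (p ^ e) with hA
  have h1 : 1 ≤ A := Nat.one_le_pow _ _ (by omega)
  have hd : p ^ e ∣ A - 1 := by
    have h2 : ((p : ℤ)) ∣ ((1 + p * t : ℕ) : ℤ) - 1 := by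
      push_cast
      exact ⟨t, by ring⟩
    have h3 := dvd_sub_pow_of_dvd_sub h2 e
    have h4 : ((p ^ e : ℕ) : ℤ) ∣ ((A - 1 : ℕ) : ℤ) := by
      rw [Nat.cast_sub h1, hA]
      push_cast at h3 ⊢
      rw [one_pow] at h3
      exact (pow_dvd_pow _ (Nat.le_succ e)).trans h3
    exact Int.natCast_dvd_natCast.1 h4
  obtain ⟨w, hw⟩ := hd
  have h5 : A = 1 + p ^ e * w := by omega
  rw [h5, pow_add, pow_one, pow_mul, hx, one_pow, mul_one]

theorem act_stable [Finite G] {e : ℕ} (he : Nat.card G = p ^ e) {j : ℕ} {γ : MulAut G} (hγ : Pres V γ)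
    (h : OnePlus p V j γ) : Act V j (γ ^ (p ^ e)) 1 := by
  obtain ⟨t, ht⟩ := h
  intro y hy
  rw [act_pow hγ ht (p ^ e) y hy, pow_one]
  refine pow_one_add_pow ?_
  rw [← QuotientGroup.mk_pow, ← he, pow_card_eq_one']
  rfl

/-- One step of a stability chain. -/
theorem fix_step [Finite G] (hG : IsPGroup p G) (γ : MulAut G) {A B : Subgroup G} (hAB : A ≤ B)
    (hγ : ∀ x ∈ B, x⁻¹ * γ x ∈ A) {N : ℕ} (hN' : ∀ x ∈ A, (γ ^ (p ^ N)) x = x) :
    ∃ N' : ℕ, ∀ x ∈ B, (γ ^ (p ^ N')) x = x := by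
  obtain ⟨e, he⟩ := IsPGroup.iff_card.1 hG
  have hpow : ∀ x : G, x ^ (p ^ e) = 1 := fun x => by
    rw [← he]; exact pow_card_eq_one'
  have hinv : ∀ x ∈ B, γ x ∈ B := by
    intro x hx
    have := B.mul_mem hx (hAB (hγ x hx))
    simpa using this
  have hV1inv : ∀ (m : ℕ), ∀ x ∈ B, (γ ^ m) x ∈ B := by
    intro m
    induction m with
    | zero => intro x hx; simpa using hx
    | succ m ih =>
      intro x hx
      rw [pow_succ', MulAut.mul_apply]
      exact hinv _ (ih x hx)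
  have hmove : ∀ (m : ℕ), ∀ x ∈ B, x⁻¹ * (γ ^ m) x ∈ A := by
    intro m
    induction m with
    | zero => intro x _; simp
    | succ m ih =>
      intro x hx
      rw [pow_succ', MulAut.mul_apply]
      have h1 := ih x hx
      have h2 := hγ _ (hV1inv m x hx)
      have := A.mul_mem h1 h2
      simpa [mul_assoc] using this
  refine ⟨N + e, fun x hx => ?_⟩
  set δ := γ ^ (p ^ N) with hδ
  have hδw : x⁻¹ * δ x ∈ A := hmove _ x hx
  set w := x⁻¹ * δ x with hw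
  have hδfix : δ w = w := hN' w hδw
  have hpowδ : ∀ m : ℕ, (δ ^ m) x = x * w ^ m := by
    intro m
    induction m with
    | zero => simp
    | succ m ih =>
      rw [pow_succ', MulAut.mul_apply, ih, map_mul, map_pow, hδfix, pow_succ']
      have : δ x = x * w := by simp [hw]
      rw [this, mul_assoc]
  have h3 : (γ ^ (p ^ (N + e))) = δ ^ (p ^ e) := by
    rw [hδ, ← pow_mul, pow_add]
  rw [h3, hpowδ, hpow w, mul_one]

theorem pElt_of_act_one [Finite G] (hG : IsPGroup p G) {n : ℕ} (hV0 : V 0 = ⊥) (hVn : V n = ⊤) (hmono : ∀ j, V j ≤ V (j + 1))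
    {γ : MulAut G} (h : ∀ j, j < n → Act V j γ 1) : ∃ N : ℕ, γ ^ (p ^ N) = 1 := by
  have key : ∀ j, j ≤ n → ∃ N : ℕ, ∀ x ∈ V j, (γ ^ (p ^ N)) x = x := by
    intro j
    induction j with
    | zero =>
      intro _
      refine ⟨0, fun x hx => ?_⟩
      rw [hV0, Subgroup.mem_bot] at hx
      simp [hx]
    | succ j ih =>
      intro hj
      obtain ⟨N, hN'⟩ := ih (by omega)
      refine fix_step hG γ (hmono j) (fun x hx => ?_) hN'
      have h1 := h j (by omega) x hx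
      rw [pow_one] at h1
      exact QuotientGroup.eq.1 h1.symm
  obtain ⟨N, hN'⟩ := key n le_rfl
  refine ⟨N, ?_⟩
  ext x
  simp [hN' x (by rw [hVn]; trivial)]

theorem pElt_of_onePlus [Finite G] (hG : IsPGroup p G) {n : ℕ} (hV0 : V 0 = ⊥) (hVn : V n = ⊤) (hmono : ∀ j, V j ≤ V (j + 1))
    {γ : MulAut G} (hγ : Pres V γ) (h : ∀ j, j < n → OnePlus p V j γ) : ∃ N : ℕ, γ ^ (p ^ N) = 1 := by
  obtain ⟨e, he⟩ := IsPGroup.iff_card.1 hG
  obtain ⟨N, hN'⟩ := pElt_of_act_one hG hV0 hVn hmono (γ := γ ^ (p ^ e)) (fun j hj => act_stable he hγ (h j hj))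
  exact ⟨e + N, by rw [pow_add, pow_mul, hN']⟩

end PElt

section Main

open Cfsg.Agent.Lib.Fusion

variable [Fact p.Prime] [Finite G] {V : ℕ → Subgroup G} [hN : ∀ j, (V j).Normal] {n : ℕ}

theorem coprime_aut (hG : IsPGroup p G) (hV0 : V 0 = ⊥) (hVn : V n = ⊤) (hmono : ∀ j, V j ≤ V (j + 1))
    (hc : ∀ j, j < n → ∃ x ∈ V (j + 1), ∀ y ∈ V (j + 1), ∃ m : ℕ, (y : G ⧸ V j) = (x : G ⧸ V j) ^ m)
    (H : Subgroup (MulAut G)) (hH : (Nat.card H).Coprime p) (hP : ∀ h ∈ H, Pres V h) :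
    (∀ h ∈ H, ∀ k ∈ H, h * k = k * h) ∧ ∀ h ∈ H, h ^ (p - 1) = 1 := by
  have hfin : Finite (MulAut G) := finite_mulAut G
  have hp := (Fact.out : p.Prime)
  have htriv : ∀ g ∈ H, ∀ N : ℕ, g ^ (p ^ N) = 1 → g = 1 := by
    intro g hg N hgN
    have h1 : orderOf g ∣ p ^ N := orderOf_dvd_of_pow_eq_one hgN
    have h2 : orderOf g ∣ Nat.card H := Subgroup.orderOf_dvd_natCard H hg
    have h3 : Nat.Coprime (Nat.card H) (p ^ N) := Nat.Coprime.pow_right N hH
    have h4 : orderOf g ∣ Nat.gcd (Nat.card H) (p ^ N) := Nat.dvd_gcd h2 h1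
    rw [h3] at h4
    exact orderOf_eq_one_iff.1 (Nat.dvd_one.1 h4)
  refine ⟨fun h hh k hk => ?_, fun h hh => ?_⟩
  · set δ : MulAut G := h * k * (k * h)⁻¹ with hδ
    have hδH : δ ∈ H := H.mul_mem (H.mul_mem hh hk) (H.inv_mem (H.mul_mem hk hh))
    have hact : ∀ j, j < n → Act V j δ 1 := by
      intro j hj
      obtain ⟨r, hr⟩ := exists_act (hP h hh) (hc j hj)
      obtain ⟨s, hs⟩ := exists_act (hP k hk) (hc j hj)
      intro y hy
      have hz : (k * h)⁻¹ y ∈ V (j + 1) := hP _ (H.inv_mem (H.mul_mem hk hh)) _ _ hy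
      have h1 := act_comm (hP h hh) (hP k hk) hr hs hz
      have h2 : (k * h) ((k * h)⁻¹ y) = y := by simp
      rw [h2] at h1
      rw [pow_one]
      exact h1
    obtain ⟨N, hN'⟩ := pElt_of_act_one hG hV0 hVn hmono hact
    have h1 := htriv δ hδH N hN'
    exact mul_inv_eq_one.1 h1
  · have hγ : Pres V (h ^ (p - 1)) := (hP h hh).pow _
    obtain ⟨N, hN'⟩ := pElt_of_onePlus hG hV0 hVn hmono hγ (fun j hj => by
      obtain ⟨r, hr⟩ := exists_act (hP h hh) (hc j hj)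
      exact onePlus_of_coprime hG (hP h hh) hr (orderOf_pos h) (pow_orderOf_eq_one h))
    exact htriv _ (H.pow_mem hh _) N hN'

theorem exists_D (hG : IsPGroup p G) (hV0 : V 0 = ⊥) (hVn : V n = ⊤) (hmono : ∀ j, V j ≤ V (j + 1))
    (hc : ∀ j, j < n → ∃ x ∈ V (j + 1), ∀ y ∈ V (j + 1), ∃ m : ℕ, (y : G ⧸ V j) = (x : G ⧸ V j) ^ m)
    (A : Subgroup (MulAut G)) (hP : ∀ a ∈ A, Pres V a) :
    ∃ D : Subgroup (MulAut G), D ≤ A ∧ IsPGroup p D ∧ (∀ α ∈ A, ∀ δ ∈ D, α * δ * α⁻¹ ∈ D) ∧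
      ∀ a ∈ A, ∀ N : ℕ, a ^ (p ^ N) = 1 → a ∈ D := by
  have hfin : Finite (MulAut G) := finite_mulAut G
  let D : Subgroup (MulAut G) := finiteSubgroup {γ | γ ∈ A ∧ ∀ j, j < n → OnePlus p V j γ}
    ⟨A.one_mem, fun j _ => ⟨0, by simpa using act_one⟩⟩
    (by
      rintro a b ⟨ha, ha'⟩ ⟨hb, hb'⟩
      refine ⟨A.mul_mem ha hb, fun j hj => ?_⟩
      obtain ⟨t, ht⟩ := ha' j hj
      obtain ⟨t', ht'⟩ := hb' j hj
      refine ⟨t + t' + p * t * t', ?_⟩
      have := act_comp (hP a ha) ht ht'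
      convert this using 1
      ring)
  have hDmem : ∀ γ, γ ∈ D ↔ γ ∈ A ∧ ∀ j, j < n → OnePlus p V j γ := fun γ => Iff.rfl
  refine ⟨D, fun γ hγ => ((hDmem γ).1 hγ).1, ?_, ?_, ?_⟩
  · rintro ⟨γ, hγ⟩
    obtain ⟨hγA, hγ'⟩ := (hDmem γ).1 hγ
    obtain ⟨N, hN'⟩ := pElt_of_onePlus hG hV0 hVn hmono (hP γ hγA) hγ'
    exact ⟨N, Subtype.ext hN'⟩
  · intro α hα δ hδ
    obtain ⟨hδA, hδ'⟩ := (hDmem δ).1 hδ
    refine (hDmem _).2 ⟨A.mul_mem (A.mul_mem hα hδA) (A.inv_mem hα), fun j hj => ?_⟩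
    obtain ⟨t, ht⟩ := hδ' j hj
    refine ⟨t, fun y hy => ?_⟩
    have hz : α⁻¹ y ∈ V (j + 1) := hP _ (A.inv_mem hα) _ _ hy
    have e1 : ((δ (α⁻¹ y) : G) : G ⧸ V j) = (((α⁻¹ y) ^ (1 + p * t) : G) : G ⧸ V j) := by
      rw [ht _ hz, QuotientGroup.mk_pow]
    have e2 := pres_congr (hP α hα) e1
    show ((α (δ (α⁻¹ y)) : G) : G ⧸ V j) = _
    rw [e2, map_pow, QuotientGroup.mk_pow]
    congr 2
    simp
  · intro a ha N hN'
    refine (hDmem a).2 ⟨ha, fun j hj => ?_⟩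
    obtain ⟨r, hr⟩ := exists_act (hP a ha) (hc j hj)
    exact onePlus_of_pElt hG (hP a ha) hr hN'

end Main

section Fusion

open Cfsg Cfsg.FusionSystem Cfsg.Agent.Lib.Fusion

variable {Ω : Type*} [Group Ω] {S : Subgroup Ω} {F : FusionSystem S}

/-- A subgroup of a cyclic subgroup of a finite group has a generator, in the form of natural powers. -/
theorem exists_gen_of_le {Q : Type*} [Group Q] [Finite Q] {x : Q} {U : Subgroup Q} (hU : U ≤ Subgroup.zpowers x) :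
    ∃ u ∈ U, ∀ v ∈ U, ∃ k : ℕ, v = u ^ k := by
  have : IsCyclic U := isCyclic_of_injective (Subgroup.inclusion hU) (Subgroup.inclusion_injective hU)
  obtain ⟨g, hg⟩ := IsCyclic.exists_generator (α := U)
  refine ⟨g, g.2, fun v hv => ?_⟩
  have h1 := hg ⟨v, hv⟩
  rw [← mem_powers_iff_mem_zpowers] at h1
  obtain ⟨k, hk⟩ := h1
  exact ⟨k, (congrArg Subtype.val hk).symm⟩

/-- The natural-number indexed form of a chain. -/
noncomputable def natChain (S : Subgroup Ω) {m : ℕ} (c : Fin (m + 1) → Subgroup Ω) (j : ℕ) : Subgroup Ω :=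
  if h : j < m + 1 then c ⟨j, h⟩ else S

section Chain

variable {m : ℕ} {c : Fin (m + 1) → Subgroup Ω} (h0 : c 0 = ⊥) (hm : c (Fin.last m) = S)
  (hsc : ∀ i : Fin (m + 1), F.StronglyClosed (c i))
  (hst : ∀ i : Fin m, c i.castSucc ≤ c i.succ ∧ ∃ x ∈ S, c i.succ = c i.castSucc ⊔ Subgroup.zpowers x)

include h0 in
theorem natChain_zero : natChain S c 0 = ⊥ := by
  simp only [natChain, Nat.succ_pos, dif_pos]
  exact h0

include hm in
theorem natChain_m : natChain S c m = S := by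
  simp only [natChain, Nat.lt_succ_self, dif_pos]
  exact hm

include hm hsc in
theorem natChain_sc (j : ℕ) : F.StronglyClosed (natChain S c j) := by
  unfold natChain
  split_ifs with h
  · exact hsc _
  · exact ⟨le_rfl, fun R _ φ hφ x => hom_val F hφ x⟩

include hm hst in
theorem natChain_mono (j : ℕ) : natChain S c j ≤ natChain S c (j + 1) := by
  unfold natChain
  by_cases h : j < m
  · rw [dif_pos (by omega), dif_pos (by omega)]
    exact (hst ⟨j, h⟩).1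
  · by_cases h2 : j = m
    · subst h2
      rw [dif_pos (by omega), dif_neg (by omega)]
      exact hm.le
    · rw [dif_neg (by omega), dif_neg (by omega)]

include hst in
theorem natChain_step (j : ℕ) (hj : j < m) : ∃ x ∈ S, natChain S c (j + 1) = natChain S c j ⊔ Subgroup.zpowers x := by
  unfold natChain
  rw [dif_pos (by omega), dif_pos (by omega)]
  exact (hst ⟨j, hj⟩).2

end Chain

/-- The factors of a chain, cut down to a subgroup `R`, are cyclic. -/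
theorem cyc_res [Finite S] {C C' R : Subgroup Ω} (hC : F.StronglyClosed C) (hRS : R ≤ S) {x : Ω} (hx : x ∈ S)
    (hC' : C' = C ⊔ Subgroup.zpowers x) [hnorm : (C.subgroupOf R).Normal] :
    ∃ x' ∈ C'.subgroupOf R, ∀ y ∈ C'.subgroupOf R, ∃ k : ℕ, (y : R ⧸ C.subgroupOf R) = (x' : R ⧸ C.subgroupOf R) ^ k := by
  have hN : S ≤ Subgroup.normalizer (C : Set Ω) := StronglyClosed.le_normalizer hC
  have hCS := hC.1
  haveI hNS : (C.subgroupOf S).Normal := by
    refine ⟨fun n hn g => Subgroup.mem_subgroupOf.2 ?_⟩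
    have h1 := (Subgroup.mem_normalizer_iff.1 (hN g.2) n).1 (Subgroup.mem_subgroupOf.1 hn)
    simpa using h1
  set π : S →* S ⧸ C.subgroupOf S := QuotientGroup.mk' _ with hπ
  set ι : R →* S ⧸ C.subgroupOf S := π.comp (Subgroup.inclusion hRS) with hι
  have hle : (C'.subgroupOf R).map ι ≤ Subgroup.zpowers (π ⟨x, hx⟩) := by
    have hC'le : C' ≤ ((Subgroup.zpowers (π ⟨x, hx⟩)).comap π).map S.subtype := by
      rw [hC']
      refine sup_le ?_ ?_
      · intro a ha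
        refine ⟨⟨a, hCS ha⟩, ?_, rfl⟩
        have h1 : π ⟨a, hCS ha⟩ = 1 := (QuotientGroup.eq_one_iff _).2 (Subgroup.mem_subgroupOf.2 ha)
        show π ⟨a, hCS ha⟩ ∈ Subgroup.zpowers (π ⟨x, hx⟩)
        rw [h1]
        exact Subgroup.one_mem _
      · refine (Subgroup.zpowers_le).2 ⟨⟨x, hx⟩, Subgroup.mem_zpowers _, rfl⟩
    rintro _ ⟨y, hy, rfl⟩
    obtain ⟨s, hs, hsy⟩ := hC'le (Subgroup.mem_subgroupOf.1 hy)
    have h2 : s = Subgroup.inclusion hRS y := Subtype.ext hsy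
    rw [h2] at hs
    exact hs
  obtain ⟨u, hu, hgen⟩ := exists_gen_of_le hle
  obtain ⟨x', hx', rfl⟩ := hu
  refine ⟨x', hx', fun y hy => ?_⟩
  obtain ⟨k, hk⟩ := hgen _ ⟨y, hy, rfl⟩
  refine ⟨k, ?_⟩
  rw [← QuotientGroup.mk_pow, QuotientGroup.eq]
  have h2 : ι (x' ^ k) = ι y := by rw [map_pow]; exact hk.symm
  have h3 : π (Subgroup.inclusion hRS (x' ^ k)) = π (Subgroup.inclusion hRS y) := h2
  have h4 := QuotientGroup.eq.1 h3
  have h5 := Subgroup.mem_subgroupOf.1 h4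
  refine Subgroup.mem_subgroupOf.2 ?_
  have h6 := C.inv_mem h5
  simpa using h6

/-- The chain, cut down to `R`, satisfies the hypotheses of the abstract results. -/
theorem chain_hc [Finite S] {m : ℕ} {c : Fin (m + 1) → Subgroup Ω} (hm : c (Fin.last m) = S)
    (hsc : ∀ i : Fin (m + 1), F.StronglyClosed (c i))
    (hst : ∀ i : Fin m, c i.castSucc ≤ c i.succ ∧ ∃ x ∈ S, c i.succ = c i.castSucc ⊔ Subgroup.zpowers x)
    {R : Subgroup Ω} (hRS : R ≤ S) [hN : ∀ j, ((natChain S c j).subgroupOf R).Normal] (j : ℕ) (hj : j < m) :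
    ∃ x ∈ (natChain S c (j + 1)).subgroupOf R, ∀ y ∈ (natChain S c (j + 1)).subgroupOf R, ∃ k : ℕ,
      (y : R ⧸ (natChain S c j).subgroupOf R) = (x : R ⧸ (natChain S c j).subgroupOf R) ^ k := by
  obtain ⟨x, hx, hxe⟩ := natChain_step hst j hj
  exact cyc_res (natChain_sc hm hsc j) hRS hx hxe

theorem subgroupOf_normal [Finite S] {C R : Subgroup Ω} (hC : F.StronglyClosed C) (hRS : R ≤ S) : (C.subgroupOf R).Normal := by
  have hN : S ≤ Subgroup.normalizer (C : Set Ω) := StronglyClosed.le_normalizer hC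
  refine ⟨fun n hn g => Subgroup.mem_subgroupOf.2 ?_⟩
  have h1 := (Subgroup.mem_normalizer_iff.1 (hN (hRS g.2)) n).1 (Subgroup.mem_subgroupOf.1 hn)
  simpa using h1

theorem chain_pres [Finite S] {m : ℕ} {c : Fin (m + 1) → Subgroup Ω} (hm : c (Fin.last m) = S)
    (hsc : ∀ i : Fin (m + 1), F.StronglyClosed (c i)) {R : Subgroup Ω} (hRS : R ≤ S) {α : MulAut R} (hα : α ∈ F.autGroup R) :
    Pres (fun j => (natChain S c j).subgroupOf R) α := fun j y hy =>
  Subgroup.mem_subgroupOf.2 (StronglyClosed.aut_mem (natChain_sc hm hsc j) hRS hα (Subgroup.mem_subgroupOf.1 hy))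

/-- A chain of strongly closed subgroups with cyclic steps makes `S` normal in `F`. -/
theorem isNormal_of_chain [Finite S] {p : ℕ} [Fact p.Prime] (hS : IsPGroup p S) (hF : F.IsSaturated p) {m : ℕ}
    {c : Fin (m + 1) → Subgroup Ω} (h0 : c 0 = ⊥) (hm : c (Fin.last m) = S)
    (hsc : ∀ i : Fin (m + 1), F.StronglyClosed (c i))
    (hst : ∀ i : Fin m, c i.castSucc ≤ c i.succ ∧ ∃ x ∈ S, c i.succ = c i.castSucc ⊔ Subgroup.zpowers x) : F.IsNormal S := by
  rw [isNormal_iff_stronglyClosed hS hF]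
  refine ⟨⟨le_rfl, fun R _ φ hφ x => hom_val F hφ x⟩, fun R hRc hRr => ?_⟩
  have hRS := hRc.1
  have : Finite R := finite_of_le hRS
  have hRp : IsPGroup p R := hS.to_le hRS
  set V : ℕ → Subgroup R := fun j => (natChain S c j).subgroupOf R with hV
  haveI hN : ∀ j, (V j).Normal := fun j => subgroupOf_normal (natChain_sc hm hsc j) hRS
  have hV0 : V 0 = ⊥ := by
    simp only [hV, natChain_zero h0]
    exact Subgroup.bot_subgroupOf R
  have hVm : V m = ⊤ := by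
    simp only [hV, natChain_m hm]
    exact Subgroup.subgroupOf_eq_top.2 hRS
  have hmono : ∀ j, V j ≤ V (j + 1) := fun j y hy => Subgroup.mem_subgroupOf.2 (natChain_mono hm hst j (Subgroup.mem_subgroupOf.1 hy))
  obtain ⟨D, hDA, hDp, hn, hg⟩ := exists_D (p := p) hRp hV0 hVm hmono (fun j hj => chain_hc hm hsc hst hRS j hj) (F.autGroup R)
    (fun a ha => chain_pres hm hsc hRS ha)
  refine le_of_normal_pSubgroup hS Subgroup.le_normalizer le_rfl hRc hRr hDA hDp hn fun g hg' => ?_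
  obtain ⟨hgS, hgN⟩ := mem_normalizerIn.1 hg'
  obtain ⟨N, hN'⟩ := hS ⟨g, hgS⟩
  have hgN' : g ^ (p ^ N) = 1 := by simpa using congrArg Subtype.val hN'
  refine hg _ (autInducedBy_le_autGroup F hRS (conjAut_mem hgS hgN)) N ?_
  ext x
  rw [conjAut_pow_val, hgN']
  simp

/-- The `p'`-subgroups of `Aut(S)` when all saturated systems over `S` have chains. -/
theorem coprime_of_chain [Finite S] {p : ℕ} [Fact p.Prime] (hS : IsPGroup p S)
    (hall : ∀ F : FusionSystem S, F.IsSaturated p → (∃ (m : ℕ) (c : Fin (m + 1) → Subgroup Ω), c 0 = ⊥ ∧ c (Fin.last m) = S ∧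
      (∀ i : Fin (m + 1), F.StronglyClosed (c i)) ∧ ∀ i : Fin m, c i.castSucc ≤ c i.succ ∧ ∃ x ∈ S, c i.succ = c i.castSucc ⊔ Subgroup.zpowers x))
    (H : Subgroup (MulAut S)) (hH : (Nat.card H).Coprime p) : IsMulCommutative H ∧ ∀ h ∈ H, h ^ (p - 1) = 1 := by
  have hp := (Fact.out : p.Prime)
  have hI : Inn S ≤ Inn S ⊔ H := le_sup_left
  haveI hInn : (Inn S).Normal := inferInstance
  have hsat : (topSystem S (Inn S ⊔ H) hI).IsSaturated p := by
    refine isSaturated_topSystem hS hI fun a ha => ⟨Nat.card H, ?_, ?_⟩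
    · intro hd
      exact (Nat.Prime.coprime_iff_not_dvd hp).1 hH.symm hd
    · obtain ⟨n, hn, z, hz, rfl⟩ := Subgroup.mem_sup_of_normal_left.1 ha
      rw [← QuotientGroup.eq_one_iff, QuotientGroup.mk_pow, QuotientGroup.mk_mul, (QuotientGroup.eq_one_iff n).2 hn, one_mul,
        ← QuotientGroup.mk_pow]
      have h1 : z ^ Nat.card H = 1 := by
        have h2 : (⟨z, hz⟩ : H) ^ Nat.card H = 1 := pow_card_eq_one'
        exact Subtype.ext_iff.1 h2
      rw [h1]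
      rfl
  obtain ⟨m, c, h0, hm, hsc, hst⟩ := hall _ hsat
  set V : ℕ → Subgroup S := fun j => (natChain S c j).subgroupOf S with hV
  haveI hN : ∀ j, (V j).Normal := fun j => subgroupOf_normal (natChain_sc hm hsc j) le_rfl
  have hV0 : V 0 = ⊥ := by
    simp only [hV, natChain_zero h0]
    exact Subgroup.bot_subgroupOf S
  have hVm : V m = ⊤ := by
    simp only [hV, natChain_m hm]
    exact Subgroup.subgroupOf_self S
  have hmono : ∀ j, V j ≤ V (j + 1) := fun j y hy => Subgroup.mem_subgroupOf.2 (natChain_mono hm hst j (Subgroup.mem_subgroupOf.1 hy))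
  obtain ⟨h1, h2⟩ := coprime_aut (p := p) hS hV0 hVm hmono (fun j hj => chain_hc hm hsc hst le_rfl j hj) H hH
    (fun h hh => chain_pres hm hsc le_rfl (mem_autGroup_topSystem.2 (Subgroup.mem_sup_right hh)))
  refine ⟨⟨⟨fun a b => Subtype.ext (h1 a a.2 b b.2)⟩⟩, h2⟩

end Fusion

end Cfsg.Agent.Lib.Cl.SuperSol
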