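import Cfsg.Agent.Lib.Cl.SuperSol
import Mathlib

/-! # Chains with cyclic factors from scalar actions -/

set_option autoImplicit false
set_option linter.unusedSectionVars false
set_option linter.unusedVariables false

namespace Cfsg.Agent.Lib.Cl.SuperSol

section Eigen

open Polynomial

/-- A linear map with `L^(p-1) = 1` has an eigenvector. -/
theorem eigen_add {p : ℕ} [Fact p.Prime] {V : Type*} [AddCommGroup V] [Module (ZMod p) V] [Finite V] [Nontrivial V]
    (L : Module.End (ZMod p) V) (hL : L ^ (p - 1) = 1) : ∃ (c : ZMod p) (v : V), v ≠ 0 ∧ L v = c • v := by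
  have hp := (Fact.out : p.Prime)
  have hfin : Module.Finite (ZMod p) V := Module.Finite.of_finite
  have hLp : L ^ p = L := by
    calc L ^ p = L ^ ((p - 1) + 1) := by rw [Nat.sub_add_cancel hp.one_lt.le]
      _ = L := by rw [pow_succ, hL, one_mul]
  have hP : aeval L (X ^ p - X : (ZMod p)[X]) = 0 := by
    simp only [map_sub, map_pow, aeval_X, hLp, sub_self]
  have hdvd := minpoly.dvd (ZMod p) L hP
  have hne : (X ^ p - X : (ZMod p)[X]) ≠ 0 := FiniteField.X_pow_card_sub_X_ne_zero (ZMod p) hp.one_lt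
  have hint : IsIntegral (ZMod p) L := Algebra.IsIntegral.isIntegral L
  have hsplits : (X ^ p - X : (ZMod p)[X]).Splits := by
    rw [splits_iff_card_roots]
    have h2 := FiniteField.roots_X_pow_card_sub_X (ZMod p)
    rw [ZMod.card] at h2
    rw [h2, FiniteField.X_pow_card_sub_X_natDegree_eq _ hp.one_lt]
    simp [ZMod.card]
  have hmin : (minpoly (ZMod p) L).Splits := hsplits.of_dvd hne hdvd
  have hdeg : (minpoly (ZMod p) L).degree ≠ 0 := by
    have h3 := minpoly.degree_pos hint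
    exact h3.ne'
  obtain ⟨c, hc⟩ := hmin.exists_eval_eq_zero hdeg
  have hE : L.HasEigenvalue c := Module.End.hasEigenvalue_of_isRoot hc
  obtain ⟨v, hv⟩ := hE.exists_hasEigenvector
  exact ⟨c, v, hv.2, hv.apply_eq_smul⟩

theorem eigen_mod {p : ℕ} [Fact p.Prime] {V : Type*} [AddCommGroup V] [Module (ZMod p) V] [Finite V] [Nontrivial V]
    (g : V →+ V) (hg : ∀ x, (⇑g)^[p - 1] x = x) :
    ∃ (c : ℕ) (v : V), v ≠ 0 ∧ g v = c • v := by
  let L : Module.End (ZMod p) V := g.toZModLinearMap p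
  have h1 : ∀ b : V, L b = g b := fun b => rfl
  have hLn : ∀ (n : ℕ) (b : V), (L ^ n) b = (⇑g)^[n] b := by
    intro n
    induction n with
    | zero => intro b; simp
    | succ n ih =>
      intro b
      rw [pow_succ, Function.iterate_succ_apply, Module.End.mul_apply, h1, ih]
  have hL : L ^ (p - 1) = 1 := by
    ext x
    rw [hLn, hg]
    rfl
  obtain ⟨c, v, h5, h4⟩ := eigen_add L hL
  refine ⟨c.val, v, h5, ?_⟩
  have h7 : c • v = (c.val : ZMod p) • v := by simp
  rw [h7, Nat.cast_smul_eq_nsmul, h1] at h4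
  exact h4

/-- An additive map with `g^(p-1) = 1` on an elementary abelian `p`-group has an eigenvector. -/
theorem eigen_addgrp {p : ℕ} [Fact p.Prime] {V : Type*} [AddCommGroup V] [Finite V] [Nontrivial V]
    (hexp : ∀ x : V, p • x = 0) (g : V →+ V) (hg : ∀ x, (⇑g)^[p - 1] x = x) :
    ∃ (c : ℕ) (v : V), v ≠ 0 ∧ g v = c • v := by
  letI inst : Module (ZMod p) V := AddCommGroup.zmodModule hexp
  exact eigen_mod g hg

/-- A map with `f^(p-1) = 1` on an elementary abelian `p`-group has an eigenvector. -/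
theorem eigen_aux {p : ℕ} [Fact p.Prime] {B : Type*} [CommGroup B] [Finite B] [Nontrivial B]
    (hexp : ∀ b : B, b ^ p = 1) (f : B →* B) (hf : ∀ b, (⇑f)^[p - 1] b = b) :
    ∃ (c : ℕ) (v : B), v ≠ 1 ∧ f v = v ^ c := by
  obtain ⟨c, v, h1, h2⟩ := eigen_addgrp (p := p) (V := Additive B) (fun x => by
      show Additive.ofMul ((Additive.toMul x) ^ p) = 0
      rw [hexp]; rfl) (MonoidHom.toAdditive f) (fun x => hf (Additive.toMul x))
  exact ⟨c, Additive.toMul v, h1, h2⟩

/-- A commuting family of maps with `f^(p-1) = 1` on an invariant elementary abelian subgroup has a common eigenvector. -/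
theorem common_eigen {p : ℕ} [Fact p.Prime] {Q : Type*} [Group Q] [Finite Q] (T : Set (Q →* Q)) :
    ∀ (n : ℕ) (W : Subgroup Q), Nat.card W = n → W ≠ ⊥ → (∀ a ∈ W, ∀ b ∈ W, a * b = b * a) → (∀ w ∈ W, w ^ p = 1) →
      (∀ f ∈ T, ∀ g ∈ T, ∀ w ∈ W, f (g w) = g (f w)) → (∀ f ∈ T, ∀ w ∈ W, (⇑f)^[p - 1] w = w) → (∀ f ∈ T, ∀ w ∈ W, f w ∈ W) →
      ∃ v ∈ W, v ≠ 1 ∧ ∀ f ∈ T, ∃ c : ℕ, f v = v ^ c := by
  intro n
  induction n using Nat.strong_induction_on with
  | _ n ih =>
    intro W hn hW hc hexp hcomm hf hinv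
    by_cases hs : ∀ f ∈ T, ∃ c : ℕ, ∀ w ∈ W, f w = w ^ c
    · obtain ⟨v, hv, hv1⟩ := (Subgroup.bot_or_exists_ne_one W).resolve_left hW
      refine ⟨v, hv, hv1, fun f hfT => ?_⟩
      obtain ⟨c, hc'⟩ := hs f hfT
      exact ⟨c, hc' v hv⟩
    · push Not at hs
      obtain ⟨f, hfT, hfc⟩ := hs
      -- eigenvector of `f` on `W`
      letI : CommGroup W := { (inferInstance : Group W) with mul_comm := fun a b => Subtype.ext (hc a a.2 b b.2) }
      haveI : Nontrivial W := (Subgroup.nontrivial_iff_ne_bot W).2 hW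
      let f' : W →* W := (f.comp W.subtype).codRestrict W (fun w => hinv f hfT w w.2)
      have hf' : ∀ w : W, ((f' w : W) : Q) = f w := fun w => rfl
      have hit : ∀ (m : ℕ) (w : W), (((⇑f')^[m] w : W) : Q) = (⇑f)^[m] w := by
        intro m
        induction m with
        | zero => intro w; rfl
        | succ m ih =>
          intro w
          rw [Function.iterate_succ_apply, ih, Function.iterate_succ_apply]
          rfl
      obtain ⟨c, v, hv1, hv2⟩ := eigen_aux (p := p) (B := W)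
        (fun b => Subtype.ext (by simpa using hexp b b.2)) f'
        (fun b => Subtype.ext (by rw [hit]; exact hf f hfT b b.2))
      -- the eigenspace
      let K : Subgroup Q :=
        { carrier := {w | w ∈ W ∧ f w = w ^ c}
          one_mem' := ⟨W.one_mem, by simp⟩
          mul_mem' := by
            rintro a b ⟨ha, ha'⟩ ⟨hb, hb'⟩
            refine ⟨W.mul_mem ha hb, ?_⟩
            have hcm : Commute a b := hc a ha b hb
            rw [map_mul, ha', hb', hcm.mul_pow]
          inv_mem' := by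
            rintro a ⟨ha, ha'⟩
            exact ⟨W.inv_mem ha, by rw [map_inv, ha', inv_pow]⟩ }
      have hKW : K ≤ W := fun a ha => ha.1
      have hvK : (v : Q) ∈ K := ⟨v.2, by
        have := congrArg Subtype.val hv2
        rw [hf'] at this
        simpa using this⟩
      have hKbot : K ≠ ⊥ := by
        intro h
        rw [h, Subgroup.mem_bot] at hvK
        exact hv1 (Subtype.ext hvK)
      have hKlt : K < W := by
        refine lt_of_le_of_ne hKW fun h => ?_
        obtain ⟨w, hw, hw2⟩ := hfc c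
        exact hw2 (by
          rw [← h] at hw
          exact hw.2)
      have hcard : Nat.card K < n := by
        rw [← hn]
        by_contra h
        exact hKlt.ne (Subgroup.eq_of_le_of_card_ge hKW (not_lt.1 h))
      obtain ⟨u, huK, hu1, hu2⟩ := ih _ hcard K rfl hKbot (fun a ha b hb => hc a (hKW ha) b (hKW hb))
        (fun w hw => hexp w (hKW hw)) (fun f1 h1 g1 h2 w hw => hcomm f1 h1 g1 h2 w (hKW hw))
        (fun f1 h1 w hw => hf f1 h1 w (hKW hw)) (fun f1 h1 w hw => ⟨hinv f1 h1 w (hKW hw), by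
          rw [hcomm f hfT f1 h1 w (hKW hw), hw.2, map_pow]⟩)
      exact ⟨u, hKW huK, hu1, hu2⟩

end Eigen

section Step

variable {G : Type*} [Group G] [Finite G] {p : ℕ} [Fact p.Prime]

/-- Central elements of order dividing `p`. -/
def omegaCenter (Q : Type*) [Group Q] (p : ℕ) : Subgroup Q where
  carrier := {z | z ∈ Subgroup.center Q ∧ z ^ p = 1}
  one_mem' := ⟨Subgroup.one_mem _, one_pow _⟩
  mul_mem' := by
    rintro a b ⟨ha, ha'⟩ ⟨hb, hb'⟩
    refine ⟨Subgroup.mul_mem _ ha hb, ?_⟩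
    have hcm : Commute a b := (Subgroup.mem_center_iff.1 ha b).symm
    rw [hcm.mul_pow, ha', hb', one_mul]
  inv_mem' := by
    rintro a ⟨ha, ha'⟩
    exact ⟨Subgroup.inv_mem _ ha, by rw [inv_pow, ha', inv_one]⟩

theorem omegaCenter_ne_bot {Q : Type*} [Group Q] [Finite Q] [Nontrivial Q] (hQ : IsPGroup p Q) : omegaCenter Q p ≠ ⊥ := by
  have hp := (Fact.out : p.Prime)
  haveI := hQ.center_nontrivial
  have hZ : IsPGroup p (Subgroup.center Q) := hQ.to_subgroup _
  obtain ⟨z, hz⟩ : ∃ z : Subgroup.center Q, z ≠ 1 := exists_ne 1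
  obtain ⟨k, hk⟩ := hZ z
  have hk0 : k ≠ 0 := by
    rintro rfl
    exact hz (by simpa using hk)
  obtain ⟨l, rfl⟩ := Nat.exists_eq_succ_of_ne_zero hk0
  -- choose the last nontrivial power
  have hex : ∃ m : ℕ, z ^ (p ^ m) ≠ 1 ∧ (z ^ (p ^ m)) ^ p = 1 := by
    by_contra hno
    push Not at hno
    have hall : ∀ m, z ^ (p ^ (l + 1 - m)) = 1 := by
      intro m
      induction m with
      | zero => simpa using hk
      | succ m ih =>
        by_cases hml : l + 1 - m = 0
        · have : l + 1 - (m + 1) = 0 := by omega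
          rw [this]
          rw [hml] at ih
          exact ih
        · by_contra hne
          have h1 := hno _ hne
          apply h1
          rw [← pow_mul, ← pow_succ]
          have : l + 1 - (m + 1) + 1 = l + 1 - m := by omega
          rw [this]
          exact ih
    have := hall (l + 1)
    simp at this
    exact hz this
  obtain ⟨m, hm1, hm2⟩ := hex
  intro hbot
  have hmem : ((z ^ (p ^ m) : Subgroup.center Q) : Q) ∈ omegaCenter Q p :=
    ⟨(z ^ (p ^ m)).2, by
      have := congrArg Subtype.val hm2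
      simpa using this⟩
  rw [hbot, Subgroup.mem_bot] at hmem
  exact hm1 (Subtype.ext hmem)

/-- Invariance under a group of automorphisms. -/
def InvS (A : Subgroup (MulAut G)) (U : Subgroup G) : Prop := ∀ α ∈ A, ∀ u ∈ U, α u ∈ U

theorem exists_step (hG : IsPGroup p G) {A H : Subgroup (MulAut G)} (hInn : ∀ g : G, MulAut.conj g ∈ A)
    (hdec : ∀ α ∈ A, ∃ g : G, ∃ h ∈ H, α = MulAut.conj g * h)
    (hHA : H ≤ A) (hcomm : ∀ h ∈ H, ∀ k ∈ H, h * k = k * h) (hexp : ∀ h ∈ H, h ^ (p - 1) = 1)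
    {U : Subgroup G} (hU : InvS A U) (hne : U ≠ ⊤) : ∃ x, x ∉ U ∧ InvS A (U ⊔ Subgroup.zpowers x) := by
  haveI hUn : U.Normal := ⟨fun n hn g => by simpa [MulAut.conj_apply] using hU _ (hInn g) n hn⟩
  haveI : Nontrivial (G ⧸ U) := QuotientGroup.nontrivial_iff.2 hne
  have hQ : IsPGroup p (G ⧸ U) := hG.to_quotient U
  let bar : ∀ h : H, (G ⧸ U) →* (G ⧸ U) := fun h =>
    QuotientGroup.map U U (h : MulAut G).toMonoidHom (fun u hu => hU _ (hHA h.2) u hu)
  have hbar : ∀ (h : H) (x : G), bar h (x : G ⧸ U) = (((h : MulAut G) x : G) : G ⧸ U) := fun h x => rfl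
  have hit : ∀ (h : H) (m : ℕ) (x : G), (⇑(bar h))^[m] (x : G ⧸ U) = ((((h : MulAut G) ^ m) x : G) : G ⧸ U) := by
    intro h m
    induction m with
    | zero => intro x; simp
    | succ m ih =>
      intro x
      rw [Function.iterate_succ_apply, hbar, ih, pow_succ, MulAut.mul_apply]
  let T : Set ((G ⧸ U) →* (G ⧸ U)) := Set.range bar
  have hW := omegaCenter_ne_bot hQ
  obtain ⟨v, hvW, hv1, hv⟩ := common_eigen (p := p) T _ (omegaCenter (G ⧸ U) p) rfl hW
    (fun a ha b hb => (Subgroup.mem_center_iff.1 hb.1 a)) (fun w hw => hw.2)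
    (by
      rintro _ ⟨h, rfl⟩ _ ⟨k, rfl⟩ w -
      obtain ⟨x, rfl⟩ := QuotientGroup.mk_surjective w
      rw [hbar, hbar, hbar, hbar, ← MulAut.mul_apply, ← MulAut.mul_apply, hcomm _ h.2 _ k.2])
    (by
      rintro _ ⟨h, rfl⟩ w -
      obtain ⟨x, rfl⟩ := QuotientGroup.mk_surjective w
      rw [hit, hexp _ h.2]
      rfl)
    (by
      rintro _ ⟨h, rfl⟩ w ⟨hw1, hw2⟩
      refine ⟨?_, by rw [← map_pow, hw2, map_one]⟩
      refine Subgroup.mem_center_iff.2 fun q => ?_
      obtain ⟨y, rfl⟩ := QuotientGroup.mk_surjective q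
      have h1 : (y : G ⧸ U) = bar h ((((h : MulAut G)⁻¹ y : G)) : G ⧸ U) := by
        rw [hbar]
        simp
      rw [h1, ← map_mul, ← map_mul, Subgroup.mem_center_iff.1 hw1])
  obtain ⟨x, rfl⟩ := QuotientGroup.mk_surjective v
  refine ⟨x, fun hxU => hv1 ((QuotientGroup.eq_one_iff x).2 hxU), fun α hα u hu => ?_⟩
  have hle : U ⊔ Subgroup.zpowers x ≤ (U ⊔ Subgroup.zpowers x).comap α.toMonoidHom := by
    refine sup_le (fun w hw => Subgroup.mem_sup_left (hU α hα w hw)) ?_
    rw [Subgroup.zpowers_le]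
    obtain ⟨g, h, hh, rfl⟩ := hdec α hα
    obtain ⟨c, hc⟩ := hv (bar ⟨h, hh⟩) ⟨⟨h, hh⟩, rfl⟩
    rw [hbar, ← QuotientGroup.mk_pow] at hc
    have hcen : ((x ^ c : G) : G ⧸ U) ∈ Subgroup.center (G ⧸ U) := by
      rw [QuotientGroup.mk_pow]
      exact Subgroup.pow_mem _ hvW.1 c
    have h2 : (((MulAut.conj g * h) x : G) : G ⧸ U) = ((x ^ c : G) : G ⧸ U) := by
      rw [MulAut.mul_apply, MulAut.conj_apply, QuotientGroup.mk_mul, QuotientGroup.mk_mul, QuotientGroup.mk_inv]
      simp only at hc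
      rw [hc, Subgroup.mem_center_iff.1 hcen (g : G ⧸ U)]
      simp
    have h3 := QuotientGroup.eq.1 h2
    have h4 : ((MulAut.conj g * h) x)⁻¹ * x ^ c ∈ U ⊔ Subgroup.zpowers x := Subgroup.mem_sup_left h3
    have h5 : x ^ c ∈ U ⊔ Subgroup.zpowers x := Subgroup.mem_sup_right (Subgroup.npow_mem_zpowers x c)
    have h6 := Subgroup.mul_mem _ h5 (Subgroup.inv_mem _ h4)
    simpa using h6
  exact hle hu

end Step

section Chain

variable {G : Type*} [Group G] [Finite G] {p : ℕ} [Fact p.Prime]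

theorem exists_natchain (hG : IsPGroup p G) {A H : Subgroup (MulAut G)} (hInn : ∀ g : G, MulAut.conj g ∈ A)
    (hdec : ∀ α ∈ A, ∃ g : G, ∃ h ∈ H, α = MulAut.conj g * h)
    (hHA : H ≤ A) (hcomm : ∀ h ∈ H, ∀ k ∈ H, h * k = k * h) (hexp : ∀ h ∈ H, h ^ (p - 1) = 1) :
    ∀ (n : ℕ) (U : Subgroup G), Nat.card G - Nat.card U = n → InvS A U →
      ∃ (m : ℕ) (c : ℕ → Subgroup G), c 0 = U ∧ c m = ⊤ ∧ (∀ j, InvS A (c j)) ∧
        ∀ j, j < m → c j ≤ c (j + 1) ∧ ∃ x, c (j + 1) = c j ⊔ Subgroup.zpowers x := by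
  intro n
  induction n using Nat.strong_induction_on with
  | _ n ih =>
    intro U hn hU
    by_cases hne : U = ⊤
    · refine ⟨0, fun _ => U, rfl, hne, fun _ => hU, fun j hj => absurd hj (by omega)⟩
    · obtain ⟨x, hx, hinv⟩ := exists_step hG hInn hdec hHA hcomm hexp hU hne
      have hlt : U < U ⊔ Subgroup.zpowers x := by
        refine lt_of_le_of_ne le_sup_left fun h => hx ?_
        rw [h]
        exact Subgroup.mem_sup_right (Subgroup.mem_zpowers x)
      have hcard : Nat.card U < Nat.card (U ⊔ Subgroup.zpowers x : Subgroup G) := by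
        by_contra h
        exact hlt.ne (Subgroup.eq_of_le_of_card_ge hlt.le (not_lt.1 h))
      have hcard2 : Nat.card (U ⊔ Subgroup.zpowers x : Subgroup G) ≤ Nat.card G := Subgroup.card_le_card_group _
      obtain ⟨m, c, h0, hm, hc, hst⟩ := ih _ (by omega) (U ⊔ Subgroup.zpowers x) rfl hinv
      refine ⟨m + 1, fun j => Nat.casesOn j U c, rfl, hm, ?_, ?_⟩
      · intro j
        cases j with
        | zero => exact hU
        | succ j => exact hc j
      · intro j hj
        cases j with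
        | zero =>
          refine ⟨?_, x, ?_⟩
          · show U ≤ c 0
            rw [h0]
            exact hlt.le
          · show c 0 = U ⊔ Subgroup.zpowers x
            exact h0
        | succ j => exact hst j (by omega)

end Chain

section FusionPart

open Cfsg Cfsg.FusionSystem Cfsg.Agent.Lib.Fusion

variable {Ω : Type*} [Group Ω] {S : Subgroup Ω} {F : FusionSystem S}

/-- Under normality of `S`, invariant subgroups are strongly closed. -/
theorem stronglyClosed_of_inv [Finite S] (hN : F.IsNormal S) {U : Subgroup S} (hU : InvS (F.autGroup S) U) :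
    F.StronglyClosed (U.map S.subtype) := by
  refine ⟨Subgroup.map_subtype_le U, fun R hR φ hφ x => ?_⟩
  obtain ⟨ψ, hψ, hv, -⟩ := hN.2 R φ hφ
  have hres := res_mem F hψ (le_sup_right : S ≤ R ⊔ S)
  have hvals : ∀ y : S, (ψ.comp (Subgroup.inclusion (le_sup_right : S ≤ R ⊔ S))) y ∈ S := fun y => hom_val F hψ _
  obtain ⟨β, hβ, hβv⟩ := exists_aut_of_map hres hvals
  obtain ⟨u, hu, hux⟩ := hR x.2
  have h1 := hU β hβ u hu
  have h2 : φ x = ((β u : S) : Ω) := by
    rw [hβv, ← hv x]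
    have h3 : (Subgroup.inclusion (le_sup_right : S ≤ R ⊔ S)) u = Subgroup.inclusion (le_sup_left : R ≤ R ⊔ S) x :=
      Subtype.ext hux
    simp only [MonoidHom.comp_apply]
    rw [h3]
  rw [h2]
  exact ⟨_, h1, rfl⟩

theorem chain_of_normal [Finite S] {p : ℕ} [Fact p.Prime] (hS : IsPGroup p S) (hF : F.IsSaturated p) (hN : F.IsNormal S)
    (hcond : ∀ H : Subgroup (MulAut S), (Nat.card H).Coprime p → IsMulCommutative H ∧ ∀ h ∈ H, h ^ (p - 1) = 1) :
    ∃ (m : ℕ) (c : Fin (m + 1) → Subgroup Ω), c 0 = ⊥ ∧ c (Fin.last m) = S ∧ (∀ i : Fin (m + 1), F.StronglyClosed (c i)) ∧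
      ∀ i : Fin m, c i.castSucc ≤ c i.succ ∧ ∃ x ∈ S, c i.succ = c i.castSucc ⊔ Subgroup.zpowers x := by
  have hfin := finite_autGroup F (le_refl S)
  have hpp := (Fact.out : p.Prime)
  set A := F.autGroup S with hA
  have hInn : Inn S ≤ A := inn_le_autGroup F le_rfl
  have hle : autInducedBy S S ≤ Inn S := by
    intro α hα
    obtain ⟨g, hg, hgv⟩ := mem_autInducedBy_iff.1 hα
    refine ⟨⟨g, hg⟩, ?_⟩
    ext x
    simp [hgv x, MulAut.conj_apply]
  have heq : autInducedBy S S = Inn S := le_antisymm hle (inn_le_autInducedBy le_rfl)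
  obtain ⟨-, U, hU⟩ := IsSat.fullyAutomized_of_fullyNormalized hS hF (isFullyNormalized_top (F := F))
  rw [heq] at hU
  haveI hN₀ : ((Inn S).subgroupOf A).Normal := inferInstance
  have hcop : Nat.Coprime (Nat.card ((Inn S).subgroupOf A)) ((Inn S).subgroupOf A).index := by
    rw [← hU]
    exact U.card_coprime_index
  have hpind : ¬ p ∣ ((Inn S).subgroupOf A).index := by
    rw [← hU]
    exact U.not_dvd_index
  obtain ⟨H₀, hc⟩ := Subgroup.exists_right_complement'_of_coprime hcop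
  set H := H₀.map A.subtype with hH
  have hcardH : Nat.card H = Nat.card H₀ :=
    Nat.card_congr (Subgroup.equivMapOfInjective _ _ (Subgroup.subtype_injective _)).symm.toEquiv
  have hcardH0 : ((Inn S).subgroupOf A).index = Nat.card H₀ := hc.symm.index_eq_card
  have hcopH : (Nat.card H).Coprime p := by
    rw [hcardH, ← hcardH0]
    exact ((Nat.Prime.coprime_iff_not_dvd hpp).2 hpind).symm
  obtain ⟨hcm, hex⟩ := hcond H hcopH
  have hHA : H ≤ A := Subgroup.map_subtype_le _
  have hdec : ∀ α ∈ A, ∃ g : S, ∃ h ∈ H, α = MulAut.conj g * h := by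
    intro α hα
    have h1 : (⟨α, hα⟩ : A) ∈ (Inn S).subgroupOf A ⊔ H₀ := by
      rw [hc.sup_eq_top]
      trivial
    obtain ⟨n, hn, z, hz, hnz⟩ := Subgroup.mem_sup_of_normal_left.1 h1
    obtain ⟨g, hg⟩ := Subgroup.mem_subgroupOf.1 hn
    refine ⟨g, z, ⟨z, hz, rfl⟩, ?_⟩
    calc α = ((n * z : A) : MulAut S) := (congrArg Subtype.val hnz).symm
      _ = _ := by
        show (n : MulAut S) * z = _
        rw [← hg]
  have hcomm : ∀ h ∈ H, ∀ k ∈ H, h * k = k * h := fun h hh k hk =>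
    congrArg Subtype.val (hcm.1.1 ⟨h, hh⟩ ⟨k, hk⟩)
  obtain ⟨m, c, h0, hm, hinv, hst⟩ := exists_natchain hS (fun g => hInn ⟨g, rfl⟩) hdec hHA hcomm hex _ ⊥ rfl (fun α _ u hu => by
    rw [Subgroup.mem_bot] at hu ⊢
    rw [hu, map_one])
  refine ⟨m, fun i => (c i).map S.subtype, ?_, ?_, ?_, ?_⟩
  · show (c 0).map S.subtype = ⊥
    rw [h0, Subgroup.map_bot]
  · show (c m).map S.subtype = S
    rw [hm, ← MonoidHom.range_eq_map, Subgroup.range_subtype]
  · exact fun i => stronglyClosed_of_inv hN (hinv i)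
  · intro i
    obtain ⟨h1, x, hx⟩ := hst i i.2
    refine ⟨Subgroup.map_mono h1, x, x.2, ?_⟩
    show (c (i + 1)).map S.subtype = (c i).map S.subtype ⊔ Subgroup.zpowers (x : Ω)
    rw [hx, Subgroup.map_sup, MonoidHom.map_zpowers]
    rfl

/-- The characterization of groups all of whose saturated systems have chains. -/
theorem chain_iff [Finite S] {p : ℕ} [Fact p.Prime] (hS : IsPGroup p S) :
    (∀ F : FusionSystem S, F.IsSaturated p → (∃ (m : ℕ) (c : Fin (m + 1) → Subgroup Ω), c 0 = ⊥ ∧ c (Fin.last m) = S ∧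
      (∀ i : Fin (m + 1), F.StronglyClosed (c i)) ∧ ∀ i : Fin m, c i.castSucc ≤ c i.succ ∧ ∃ x ∈ S, c i.succ = c i.castSucc ⊔ Subgroup.zpowers x)) ↔
    (∀ F : FusionSystem S, F.IsSaturated p → F.IsNormal S) ∧
      ∀ H : Subgroup (MulAut S), (Nat.card H).Coprime p → IsMulCommutative H ∧ ∀ h ∈ H, h ^ (p - 1) = 1 := by
  constructor
  · intro hall
    refine ⟨fun F hF => ?_, fun H hH => coprime_of_chain hS hall H hH⟩
    obtain ⟨m, c, h0, hm, hsc, hst⟩ := hall F hF
    exact isNormal_of_chain hS hF h0 hm hsc hst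
  · rintro ⟨h1, h2⟩ F hF
    exact chain_of_normal hS hF (h1 F hF) h2

end FusionPart

end Cfsg.Agent.Lib.Cl.SuperSol
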